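import Groth.Agent.Cube.Universal
import Groth.Agent.Cube.SeesawAlg
import Groth.Agent.CBC.Stage
import Groth.Agent.GITLib.RigidGroup
import Groth.Agent.IntProd70.Family

/-!
Functions on proper flat families with geometrically connected and reduced fibres, over any base.
-/

set_option autoImplicit false
set_option linter.style.haveILetI false

universe u

open CategoryTheory CategoryTheory.Limits AlgebraicGeometry TopologicalSpace Function

noncomputable section

namespace Groth.Agent.AbSch51.ConstFun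

open scoped Groth.Agent.PicLaw

/-- Flatness of the structure module at a point is flatness of the map of stalks. -/
theorem flat_stalkMap {X S : Scheme.{u}} (f : X ⟶ S) (x : X)
    (h : FlatMod.IsFlatOverAt f (Coh.structureModule X) x) : (f.stalkMap x).hom.Flat := by
  let := FlatMod.moduleStalkOver f (Coh.structureModule X) x
  let := (f.stalkMap x).hom.toAlgebra
  let e := HomShQC.unitStalk (X := X) x
  let l : X.presheaf.stalk x →ₗ[S.presheaf.stalk (f x)] (Coh.structureModule X).presheaf.stalk x :=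
    { toFun := e
      map_add' := map_add _
      map_smul' := fun r a => e.map_smul ((f.stalkMap x).hom r) a }
  exact @Module.Flat.of_linearEquiv _ _ _ _ _ _ _ _ h (LinearEquiv.ofBijective l e.bijective)

/-- A proper flat morphism of finite presentation comes from a Noetherian base. -/
theorem exists_flat_model {A : Type u} [CommRing A] {X : Scheme.{u}} (u : X ⟶ Spec (CommRingCat.of A))
    [IsProper u] [Flat u] [LocallyOfFinitePresentation u] :
    ∃ (A₀ : Subalgebra ℤ A) (X₀ : Scheme.{u}) (u₀ : X₀ ⟶ Spec (CommRingCat.of A₀)) (q : X ⟶ X₀),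
      A₀.FG ∧ IsProper u₀ ∧ Flat u₀ ∧
        IsPullback q u u₀ (Spec.map (CommRingCat.ofHom A₀.val.toRingHom)) := by
  have hO : (Coh.structureModule X).IsQuasicoherent := ProjTwist.isQuasicoherent_structureModule X
  obtain ⟨A₁, X₁, u₁, q₁, -, hA₁, _, H₁, -, -, -⟩ := CBC.exists_noetherian_model u (Coh.structureModule X)
    (IntProd70.isFP_unit X) (IntProd70.isFlatOver_unit u)
  have hN : IsNoetherianRing A₁ := by
    have := (Subalgebra.fg_iff_finiteType A₁).mp hA₁
    exact Algebra.FiniteType.isNoetherianRing ℤ A₁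
  have : LocallyOfFinitePresentation u₁ := inferInstance
  have : (Coh.structureModule X₁).IsQuasicoherent := ProjTwist.isQuasicoherent_structureModule X₁
  have hfl : FlatMod.IsFlatOver u ((Scheme.Modules.pullback q₁).obj (Coh.structureModule X₁)) := fun x =>
    (CBC.isFlatOverAt_congr_iso u (QCoh.pullbackUnitIso q₁) x).2 (IntProd70.isFlatOver_unit u x)
  obtain ⟨A₂, hA₂, hle, hfl₂⟩ := CBC.exists_flat_stage A₁ hA₁ u₁ u q₁ H₁ _
    (IntProd70.isFP_unit X₁) hfl
  let T := Spec.map (CommRingCat.ofHom (CBC.incl hle))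
  have hflat : Flat (pullback.snd u₁ T) := by
    refine Flat.of_stalkMap _ fun x => ?_
    exact flat_stalkMap _ x
      ((CBC.isFlatOverAt_congr_iso _ (QCoh.pullbackUnitIso (pullback.fst u₁ T)) x).1 (hfl₂ x))
  let q : X ⟶ pullback u₁ T :=
    pullback.lift q₁ (u ≫ Spec.map (CommRingCat.ofHom A₂.val.toRingHom)) (by
      rw [H₁.w, Category.assoc, ← Spec.map_comp]
      rfl)
  refine ⟨A₂, _, pullback.snd u₁ T, q, hA₂, inferInstance, hflat, ?_⟩
  refine IsPullback.of_right (h₁₂ := pullback.fst u₁ T) (v₁₃ := u₁) (h₂₂ := T) ?_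
    (pullback.lift_snd _ _ _) (IsPullback.of_hasPullback _ _)
  rw [pullback.lift_fst, ← Spec.map_comp]
  exact H₁

/-- Where the fibres have one-dimensional functions. -/
theorem exists_open_finrank_eq_one {W Z : Scheme.{u}} (f : W ⟶ Z) [IsProper f] [Flat f]
    [IsLocallyNoetherian Z] :
    ∃ U : Z.Opens, (∀ z ∈ U, Module.finrank (Z.residueField z) Γ(f.fiber z, ⊤) = 1) ∧
      ∀ z, Module.finrank (Z.residueField z) Γ(f.fiber z, ⊤) = 1 → z ∈ U := by
  have hO := PicLoc.isInvertible_structureModule W
  let S₁ : Set Z := {z | CohIII.fiberRank f (Coh.structureModule W) 0 z ≤ 1}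
  have hS₁ : IsOpen S₁ := by
    rw [← isClosed_compl_iff]
    convert Cube.Seesaw.isClosed_le_fiberRank f hO 2 using 1
    ext z
    simp only [S₁, Set.mem_compl_iff, Set.mem_ofPred_eq]
    omega
  have hrk : ∀ z, CohIII.fiberRank f (Coh.structureModule W) 0 z = Module.finrank (Z.residueField z) Γ(f.fiber z, ⊤) :=
    fun z => Cube.Seesaw.fiberRank_eq_of_iso f z ((PicGrp.cls_eq_one_iff (PicLoc.isInvertible_pullback _ hO)).mp (by
      rw [PicLaw.cls_pullback _ hO, PicLaw.cls_one, map_one]))
  have hC := Cube.Seesaw.isCoh_of_invertible hO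
  have : (Coh.structureModule W).IsQuasicoherent := hC.1
  refine ⟨⟨S₁ ∩ Set.range f, hS₁.inter f.isOpenMap.isOpen_range⟩, fun z hz => ?_, fun z h1 => ⟨((hrk z).trans h1).le, ?_⟩⟩
  · have hle : CohIII.fiberRank f (Coh.structureModule W) 0 z ≤ 1 := hz.1
    have hne : CohIII.fiberRank f (Coh.structureModule W) 0 z ≠ 0 := fun h0 => by
      obtain ⟨x, hx⟩ : ∃ x, f x = z := hz.2
      obtain ⟨V, hV, hzV, -⟩ := exists_isAffineOpen_mem_and_subset (U := (⊤ : Z.Opens)) (x := z) trivial
      obtain ⟨D, hD⟩ := CBC.exists_model_win hC (Cube.Seesaw.isFlatOver_of_invertible f hO) Cube.Seesaw.finCoh hV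
      obtain ⟨w⟩ := hD 0
      have : Subsingleton (CohIII.fiberH f (Coh.structureModule W) z 0) :=
        (CBC.subsingleton_fiberH_iff hV z hzV D w).mpr h0
      obtain ⟨φ⟩ : Nonempty (CohIII.fiberMod f (Coh.structureModule W) z ≅ Coh.structureModule (f.fiber z)) :=
        (PicGrp.cls_eq_one_iff (PicLoc.isInvertible_pullback _ hO)).mp (by
          rw [PicLaw.cls_pullback _ hO, PicLaw.cls_one, map_one])
      have hs : Subsingleton Γ(f.fiber z, ⊤) :=
        ((CohLin.hIso φ 0).toAddEquiv.trans (ProperFin.h0Sec (Coh.structureModule (f.fiber z)))).symm.toEquiv.subsingleton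
      obtain ⟨w', -⟩ : ∃ w', f.fiberι z w' = x := (f.range_fiberι z).ge hx
      have : Nonempty (⊤ : (f.fiber z).Opens) := ⟨⟨w', trivial⟩⟩
      exact not_subsingleton Γ(f.fiber z, ⊤) hs
    rw [← hrk]; omega
  · obtain ⟨x⟩ := Cube.Seesaw.nonempty_fiber_of_finrank f z h1
    exact ⟨f.fiberι z x, (f.range_fiberι z).subset (Set.mem_range_self x)⟩

variable {X S : Scheme.{u}} (π : X ⟶ S) [IsProper π] [Flat π] [LocallyOfFinitePresentation π]
  [GeometricallyConnected π] [GeometricallyReduced π]

theorem bijective_appTop_of_isAffine {A : Type u} [CommRing A] (u : X ⟶ Spec (CommRingCat.of A))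
    [IsProper u] [Flat u] [LocallyOfFinitePresentation u] [GeometricallyConnected u] [GeometricallyReduced u]
    (U : (Spec (CommRingCat.of A)).Opens) : Bijective (u.app U) := by
  obtain ⟨A₀, X₀, u₀, q, hA₀, _, _, H⟩ := exists_flat_model u
  have : IsNoetherianRing A₀ := by
    have := (Subalgebra.fg_iff_finiteType A₀).mp hA₀
    exact Algebra.FiniteType.isNoetherianRing ℤ A₀
  have : IsLocallyNoetherian (Spec (CommRingCat.of A₀)) := inferInstance
  obtain ⟨U₀, hU₀, hU₀'⟩ := exists_open_finrank_eq_one u₀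
  let T := Spec.map (CommRingCat.ofHom A₀.val.toRingHom)
  refine Cube.Universal.bijective_app u₀ T q u U₀ hU₀ H U fun s _ => hU₀' _ ?_
  let z := T s
  let K := AlgebraicClosure ((Spec (CommRingCat.of A)).residueField s)
  let t : Spec (CommRingCat.of K) ⟶ Spec (CommRingCat.of A) :=
    Spec.map (CommRingCat.ofHom (algebraMap ((Spec (CommRingCat.of A)).residueField s) K)) ≫
      (Spec (CommRingCat.of A)).fromSpecResidueField s
  let g : Spec (CommRingCat.of K) ⟶ Spec (CommRingCat.of ((Spec (CommRingCat.of A₀)).residueField z)) :=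
    Spec.map (CommRingCat.ofHom (algebraMap ((Spec (CommRingCat.of A)).residueField s) K)) ≫
      Spec.map (T.residueFieldMap s)
  have hg : g ≫ (Spec (CommRingCat.of A₀)).fromSpecResidueField z = t ≫ T := by
    simp only [g, t, Category.assoc]
    exact congrArg (Spec.map _ ≫ ·) (T.SpecMap_residueFieldMap_fromSpecResidueField s)
  let F := pullback u₀ ((Spec (CommRingCat.of A₀)).fromSpecResidueField z)
  let p : F ⟶ Spec (CommRingCat.of ((Spec (CommRingCat.of A₀)).residueField z)) := pullback.snd _ _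
  have hw : (pullback.fst p g ≫ pullback.fst _ _) ≫ u₀ = (pullback.snd p g ≫ t) ≫ T := by
    rw [Category.assoc, pullback.condition, ← Category.assoc, show pullback.fst p g ≫ pullback.snd u₀ _ = pullback.snd p g ≫ g from pullback.condition,
      Category.assoc, hg, Category.assoc]
    simp only [t, Category.assoc]
  let r := H.lift (pullback.fst p g ≫ pullback.fst _ _) (pullback.snd p g ≫ t) hw
  have hsq : IsPullback r (pullback.snd p g) u t := by
    refine IsPullback.of_right (h₁₂ := q) (v₁₃ := u₀) (h₂₂ := T) ?_ (H.lift_snd _ _ _) H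
    rw [H.lift_fst, ← hg]
    exact (IsPullback.of_hasPullback p g).paste_horiz (IsPullback.of_hasPullback u₀ _)
  have : ConnectedSpace (pullback p g : Scheme.{u}) :=
    (GeometricallyConnected.geometrically_connectedSpace (f := u)) t _ _ hsq
  have : IsReduced (pullback p g : Scheme.{u}) :=
    (GeometricallyReduced.geometrically_isReduced (f := u)) t _ _ hsq
  have : IsProper p := MorphismProperty.pullback_snd (P := @IsProper) u₀ _ inferInstance
  have hb : Bijective p.appTop := AbVarLib.Rigidity.finrank_of_isPushout (AbVarLib.Rigidity.isPushout_appTop p g)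
    AbVarLib.Rigidity.isField_gammaSpec AbVarLib.Rigidity.isField_gammaSpec
    (GITLib.Rigid.bijective_appTop (pullback.snd p g))
  have hκ : Bijective (algebraMap ((Spec (CommRingCat.of A₀)).residueField z) Γ(u₀.fiber z, ⊤)) :=
    hb.comp (ConcreteCategory.bijective_of_isIso (Scheme.ΓSpecIso ((Spec (CommRingCat.of A₀)).residueField z)).inv)
  exact (LinearEquiv.ofBijective (Algebra.linearMap _ Γ(u₀.fiber z, ⊤)) hκ).finrank_eq.symm.trans
    (Module.finrank_self _)

/-- Functions on the total space are functions on the base. -/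
theorem bijective_app_of_isAffineOpen (U : S.Opens) (hU : IsAffineOpen U) : Bijective (π.app U) := by
  let u := CBC.overV π hU
  have hpb := CBC.isPullback_overV π hU
  have : IsProper u := MorphismProperty.of_isPullback hpb.flip inferInstance
  have : Flat u := MorphismProperty.of_isPullback hpb.flip inferInstance
  have : LocallyOfFinitePresentation u := MorphismProperty.of_isPullback hpb.flip inferInstance
  have : GeometricallyConnected u := MorphismProperty.of_isPullback hpb.flip inferInstance
  have : GeometricallyReduced u := MorphismProperty.of_isPullback hpb.flip inferInstance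
  have h := bijective_appTop_of_isAffine u ⊤
  have e1 : (fun b : Γ(Spec Γ(S, U), ⊤) => QCoh.rres (π ⁻¹ᵁ U).ι_image_top.le (π.app U ((Scheme.ΓSpecIso Γ(S, U)).hom b))) =
      fun b => ((π ⁻¹ᵁ U).ι.appIso ⊤).inv (u.app ⊤ b) := funext fun b => (CBC.overV_app π hU b).symm
  have hb : Bijective fun b : Γ(Spec Γ(S, U), ⊤) => QCoh.rres (π ⁻¹ᵁ U).ι_image_top.le (π.app U ((Scheme.ΓSpecIso Γ(S, U)).hom b)) := by
    rw [e1]
    exact (ConcreteCategory.bijective_of_isIso ((π ⁻¹ᵁ U).ι.appIso ⊤).inv).comp h
  have key : ∀ {W₁ W₂ : X.Opens} (e : W₁ = W₂), Bijective (QCoh.rres (X := X) e.le) := by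
    rintro W₁ W₂ rfl
    exact (funext (QCoh.rres_self le_rfl)) ▸ bijective_id
  have h2 : Bijective ((π.app U : _ → _) ∘ (Scheme.ΓSpecIso Γ(S, U)).hom) :=
    (Bijective.of_comp_iff' (key (π ⁻¹ᵁ U).ι_image_top) _).mp hb
  exact (Bijective.of_comp_iff _ (ConcreteCategory.bijective_of_isIso (Scheme.ΓSpecIso Γ(S, U)).hom)).mp h2

/-- Functions on the preimage of an open are functions on the open. -/
theorem bijective_app (U : S.Opens) : Bijective (π.app U) := by
  have hnat : ∀ {V V' : S.Opens} (h : V' ≤ V) (a : Γ(S, V)),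
      π.app V' (QCoh.rres h a) = QCoh.rres (π.preimage_mono h) (π.app V a) :=
    fun h a => ConcreteCategory.congr_hom (π.naturality (homOfLE h).op) a
  have hinj : ∀ O' : S.Opens, Injective (π.app O') := by
    intro O'
    rw [injective_iff_map_eq_zero]
    intro a ha
    choose V hV hxV hVW using fun x : O' => exists_isAffineOpen_mem_and_subset (U := O') x.2
    refine S.sheaf.eq_of_locally_eq' (fun x => V x) O' (fun x => homOfLE (hVW x))
      (fun y hy => Opens.mem_iSup.2 ⟨⟨y, hy⟩, hxV _⟩) a 0 fun x =>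
      (bijective_app_of_isAffineOpen π _ (hV x)).1 ?_
    show π.app _ (QCoh.rres (hVW x) a) = π.app _ (QCoh.rres (hVW x) 0)
    rw [hnat, hnat, ha, map_zero (π.app O').hom]
  refine ⟨hinj U, fun c => ?_⟩
  choose V hV hxV hVW using fun x : U => exists_isAffineOpen_mem_and_subset (U := U) x.2
  choose a ha using fun x : U => (bijective_app_of_isAffineOpen π _ (hV x)).2 (QCoh.rres (π.preimage_mono (hVW x)) c)
  obtain ⟨s, hs, -⟩ := S.sheaf.existsUnique_gluing' (fun x => V x) U (fun x => homOfLE (hVW x))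
    (fun y hy => Opens.mem_iSup.2 ⟨⟨y, hy⟩, hxV _⟩) a (fun x y => hinj _ (by
      show π.app _ (QCoh.rres inf_le_left (a x)) = π.app _ (QCoh.rres inf_le_right (a y))
      rw [hnat, hnat, ha, ha, QCoh.rres_rres, QCoh.rres_rres]))
  refine ⟨s, X.sheaf.eq_of_locally_eq' (fun x => π ⁻¹ᵁ V x) (π ⁻¹ᵁ U)
    (fun x => homOfLE (π.preimage_mono (hVW x)))
    (fun y hy => Opens.mem_iSup.2 ⟨⟨π y, hy⟩, hxV ⟨π y, hy⟩⟩) _ c fun x => ?_⟩
  exact ((hnat (hVW x) s).symm.trans (congrArg (π.app _) (hs x))).trans (ha x)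

end Groth.Agent.AbSch51.ConstFun
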