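import Groth.Agent.GrpScheme.FibreFlat
import Groth.Agent.GrpScheme.AVComm
import Groth.Agent.GrpScheme.EtaleEndo
import Groth.Agent.AbVarLib.Basics
import Groth.Agent.AbVarLib.Isogeny
import Groth.Agent.FlatMor.FibMapCrit
import Groth.Agent.S7795
import Groth.Agent.S7800
import Mathlib.AlgebraicGeometry.Morphisms.QuasiFinite
import Mathlib.AlgebraicGeometry.ZariskisMainTheorem

/-!
Homomorphisms of proper smooth group schemes with connected fibres, fibre by fibre.
-/

set_option autoImplicit false
set_option linter.style.haveILetI false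

universe u

open CategoryTheory CategoryTheory.Limits MonoidalCategory CartesianMonoidalCategory MonObj GrpObj
  AlgebraicGeometry

noncomputable section

namespace Groth.Agent.AbSch51

variable {S : Scheme.{u}}

/-- The fibre of an object over `S`. -/
abbrev fib (X : Over S) (s : S) : Over (Spec (CommRingCat.of (S.residueField s))) :=
  (Over.pullback (S.fromSpecResidueField s)).obj X

/-- The map of fibres. -/
abbrev fibMap {X Y : Over S} (f : X ⟶ Y) (s : S) : fib X s ⟶ fib Y s :=
  (Over.pullback (S.fromSpecResidueField s)).map f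

instance isProper_fib (X : Over S) (s : S) [IsProper X.hom] : IsProper (fib X s).hom :=
  inferInstanceAs (IsProper (pullback.snd X.hom (S.fromSpecResidueField s)))

instance smooth_fib (X : Over S) (s : S) [Smooth X.hom] : Smooth (fib X s).hom :=
  inferInstanceAs (Smooth (pullback.snd X.hom (S.fromSpecResidueField s)))

instance geometricallyConnected_fib (X : Over S) (s : S) [GeometricallyConnected X.hom] :
    GeometricallyConnected (fib X s).hom :=
  inferInstanceAs (GeometricallyConnected (pullback.snd X.hom (S.fromSpecResidueField s)))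

theorem geometricallyReduced_of_smooth {X : Scheme.{u}} (p : X ⟶ S) [Smooth p] :
    GeometricallyReduced p := by
  refine ⟨fun K _ y Z fst snd h => ?_⟩
  have : Smooth snd := MorphismProperty.of_isPullback (P := @Smooth) h inferInstance
  exact GrpScheme.HomFlat.isReduced_of_smooth (K := K) snd

variable {X Y : Over S} (f : X ⟶ Y)

theorem isProper_left [IsProper X.hom] [IsSeparated Y.hom] : IsProper f.left := by
  have : IsProper (f.left ≫ Y.hom) := by rw [Over.w f]; infer_instance
  exact IsProper.of_comp f.left Y.hom

theorem mem_fib_iff (s : S) (P : MorphismProperty Scheme.{u}) [P.RespectsIso] :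
    P (fibMap f s).left ↔ P (pullback.snd f.left (Y.hom.fiberι s)) :=
  GrpScheme.FibreFlat.pullback_map_mem_iff f s P

theorem surjective_of_fib (h : ∀ s, Surjective (fibMap f s).left) : Surjective f.left := by
  refine ⟨fun y => ?_⟩
  have := (mem_fib_iff f (Y.hom y) @Surjective).mp (h _)
  obtain ⟨z, hz⟩ : y ∈ Set.range (Y.hom.fiberι (Y.hom y)) := by
    rw [Scheme.Hom.range_fiberι]; rfl
  obtain ⟨w, hw⟩ := (pullback.snd f.left (Y.hom.fiberι (Y.hom y))).surjective z
  refine ⟨pullback.fst f.left (Y.hom.fiberι (Y.hom y)) w, ?_⟩
  rw [← Scheme.Hom.comp_apply, pullback.condition, Scheme.Hom.comp_apply, hw, hz]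

theorem surjective_fib [Surjective f.left] (s : S) : Surjective (fibMap f s).left :=
  (mem_fib_iff f s @Surjective).mpr inferInstance

theorem isFinite_fib [IsFinite f.left] (s : S) : IsFinite (fibMap f s).left :=
  (mem_fib_iff f s @IsFinite).mpr inferInstance

theorem flat_fib [Flat f.left] (s : S) : Flat (fibMap f s).left :=
  (mem_fib_iff f s @Flat).mpr inferInstance

theorem locallyQuasiFinite_of_fib [LocallyOfFiniteType f.left] [QuasiCompact f.left]
    (h : ∀ s, LocallyQuasiFinite (fibMap f s).left) : LocallyQuasiFinite f.left :=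
  LocallyQuasiFinite.of_fiberToSpecResidueField f.left fun y =>
    FlatMor.FibMap.fiber_of_baseChange @LocallyQuasiFinite f.left Y.hom y
      ((mem_fib_iff f _ @LocallyQuasiFinite).mp (h _))

theorem isFinite_of_fib [IsProper f.left] (h : ∀ s, IsFinite (fibMap f s).left) : IsFinite f.left :=
  have : LocallyQuasiFinite f.left := locallyQuasiFinite_of_fib f fun s => have := h s; inferInstance
  IsFinite.of_isProper_of_locallyQuasiFinite f.left

section Group

variable [GrpObj X] [GrpObj Y] [IsProper X.hom] [Smooth X.hom] [GeometricallyConnected X.hom]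
  [IsProper Y.hom] [Smooth Y.hom] [GeometricallyConnected Y.hom]

theorem irreducibleSpace_fib (X : Over S) [GrpObj X] [Smooth X.hom]
    [GeometricallyConnected X.hom] (s : S) : IrreducibleSpace (fib X s).left :=
  letI : GrpObj (fib X s) := Functor.grpObjObj
  have := AbVarLib.Basics.connectedSpace (fib X s)
  AbVarLib.Basics.irreducibleSpace_of_connectedSpace (fib X s)

theorem flat_of_surjective [IsMonHom f] [Surjective f.left] : Flat f.left :=
  have := geometricallyReduced_of_smooth Y.hom
  (S7800.result X Y f).1

/-- A flat morphism of such schemes is surjective. -/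
theorem surjective_of_flat [Flat f.left] : Surjective f.left := by
  refine surjective_of_fib f fun s => ?_
  have := flat_fib f s
  have := isProper_left (fibMap f s)
  have := irreducibleSpace_fib X s
  have := irreducibleSpace_fib Y s
  exact AbVarLib.Isogeny.surjective_of_flat (fibMap f s).left

theorem surjective_of_locallyQuasiFinite [LocallyQuasiFinite f.left]
    (hdim : ∀ s : S, topologicalKrullDim ↥(X.hom.fiber s) = topologicalKrullDim ↥(Y.hom.fiber s)) :
    Surjective f.left := by
  have := isProper_left f
  have : IsFinite f.left := IsFinite.of_isProper_of_locallyQuasiFinite f.left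
  refine surjective_of_fib f fun s => ?_
  have := isFinite_fib f s
  letI : GrpObj (fib X s) := Functor.grpObjObj
  letI : GrpObj (fib Y s) := Functor.grpObjObj
  have := irreducibleSpace_fib Y s
  exact AbVarLib.Isogeny.surjective_of_isFinite (fibMap f s) (hdim s)

theorem isFinite_of_flat [Flat f.left]
    (hdim : ∀ s : S, topologicalKrullDim ↥(X.hom.fiber s) = topologicalKrullDim ↥(Y.hom.fiber s)) :
    IsFinite f.left := by
  have := isProper_left f
  refine isFinite_of_fib f fun s => ?_
  have := flat_fib f s
  letI : GrpObj (fib X s) := Functor.grpObjObj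
  letI : GrpObj (fib Y s) := Functor.grpObjObj
  have := isProper_left (fibMap f s)
  have : CompactSpace (fib X s).left := QuasiCompact.compactSpace_of_compactSpace (fib X s).hom
  exact AbVarLib.Isogeny.isFinite_of_flat (fibMap f s) (hdim s)

end Group

theorem fibMap_zpow (X : Over S) [GrpObj X] (n : ℤ) (s : S) :
    letI : GrpObj (fib X s) := Functor.grpObjObj
    fibMap (𝟙 X ^ n) s = (𝟙 (fib X s) : fib X s ⟶ fib X s) ^ n := by
  letI : GrpObj (fib X s) := Functor.grpObjObj
  have h := map_zpow (Functor.homMonoidHom (X := X) (M := X) (Over.pullback (S.fromSpecResidueField s))) (𝟙 X) n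
  refine h.trans ?_
  congr 1
  exact (Over.pullback _).map_id X

theorem intCast_residueField_ne_zero {n : ℤ} (hn : IsUnit (n : Γ(S, ⊤))) (s : S) :
    (n : S.residueField s) ≠ 0 := by
  have h := hn.map ((S.residue s).hom.comp (S.presheaf.germ ⊤ s trivial).hom)
  rw [map_intCast] at h
  exact h.ne_zero

/-- Multiplication by an invertible integer is finite étale and surjective. -/
theorem zpow_finite_etale_surjective (X : Over S) [GrpObj X] [IsProper X.hom] [Smooth X.hom]
    [GeometricallyConnected X.hom] (n : ℤ) (hn : IsUnit (n : Γ(S, ⊤))) :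
    IsFinite (𝟙 X ^ n).left ∧ Etale (𝟙 X ^ n).left ∧ Surjective (𝟙 X ^ n).left := by
  have het : Etale (𝟙 X ^ n).left := by
    rw [FlatMor.FibMap.etale_iff (g := X.hom) (h := X.hom) (Over.w (𝟙 X ^ n))]
    intro s
    rw [← mem_fib_iff (𝟙 X ^ n) s @Etale]
    letI : GrpObj (fib X s) := Functor.grpObjObj
    rw [fibMap_zpow X n s]
    have := AbVarLib.Basics.geometricallyIntegral (fib X s)
    have := GrpScheme.AVComm.isCommMonObj (fib X s)
    exact GrpScheme.EtaleEndo.etale_zpow (fib X s) n (intCast_residueField_ne_zero hn s)
  have := isProper_left (𝟙 X ^ n)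
  refine ⟨isFinite_of_flat (𝟙 X ^ n) fun _ => rfl, het, surjective_of_flat (𝟙 X ^ n)⟩

end Groth.Agent.AbSch51
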