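import Groth.Agent.AbSch51.HilbDeg
import Groth.Agent.GrpScheme.AVAmple
import Groth.Agent.GrpScheme.FibreFlat
import Groth.Agent.GrpScheme.HomFlat
import Groth.Agent.S2328
import Groth.Agent.AmpleLib.Locus

/-!
The degree of multiplication by `n` on an abelian variety of dimension `g` is `|n| ^ (2 g)`.
-/

set_option autoImplicit false
set_option linter.style.haveILetI false

universe u

open CategoryTheory CategoryTheory.Limits MonoidalCategory CartesianMonoidalCategory MonObj GrpObj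
  AlgebraicGeometry Polynomial

noncomputable section

namespace Groth.Agent.AbSch51.MulDeg

open scoped Groth.Agent.PicLaw
open PicLaw.Mumford (op)

variable {K : Type u} [Field K] (A : Over (Spec (CommRingCat.of K))) [GrpObj A] [IsProper A.hom]
  [GeometricallyIntegral A.hom]

theorem inv_id_comp : (𝟙 A)⁻¹ ≫ (𝟙 A)⁻¹ = 𝟙 A := by
  rw [GrpObj.comp_inv, Category.comp_id, _root_.inv_inv]

/-- A symmetric ample class. -/
theorem exists_symmetric_ample : ∃ (L : A.left.Modules) (hL : CohB1.IsAmple L),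
    op (𝟙 A)⁻¹ (PicGrp.cls L hL.1) = PicGrp.cls L hL.1 := by
  obtain ⟨M, hM⟩ := GrpScheme.AVAmple.exists_isAmple A
  have : CompactSpace A.left := hM.2.1
  have : A.left.IsSeparated := ⟨by
    rw [terminal.hom_ext (terminal.from A.left) (A.hom ≫ terminal.from _)]
    infer_instance⟩
  let i : A ≅ A := ⟨(𝟙 A)⁻¹, (𝟙 A)⁻¹, inv_id_comp A, inv_id_comp A⟩
  have : IsIso (𝟙 A)⁻¹.left := ((Over.forget _).mapIso i).isIso_hom
  have hM' : CohB1.IsAmple ((Scheme.Modules.pullback (𝟙 A)⁻¹.left).obj M) :=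
    AmpleLib.isAmple_pullback_of_isInducing _ (Scheme.Hom.isOpenEmbedding _).isInducing hM
  refine ⟨_, S2328.result A.left M _ hM hM'.1 (fun x => ?_), ?_⟩
  · obtain ⟨n, s, hx, -⟩ := hM'.2.2 x
    exact ⟨n, s, hx⟩
  · rw [PicLaw.cls_tensor hM.1 hM'.1, PicLaw.cls_pullback _ hM.1, map_mul]
    rw [show op (𝟙 A)⁻¹ (PicLaw.pl (𝟙 A)⁻¹.left (PicGrp.cls M hM.1)) = PicGrp.cls M hM.1 by
      rw [← PicLaw.Mumford.op_comp, inv_id_comp A]
      exact PicLaw.pl_id _]
    exact _root_.mul_comm _ _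

theorem op_zpow {l : PicLoc.PicSet A.left} (hl : op (𝟙 A)⁻¹ l = l) (n : ℤ) :
    op (𝟙 A ^ n) l = l ^ (n.natAbs * n.natAbs) := by
  have h1 : op (𝟙 A) l = l := PicLaw.pl_id _
  have hab : ∀ N : ℕ, N * (N + 1) / 2 + N * (N - 1) / 2 = N * N := fun N => by
    have h1 : 2 ∣ N * (N + 1) := (Nat.even_mul_succ_self N).two_dvd
    have h2 : 2 ∣ N * (N - 1) := (Nat.even_mul_pred_self N).two_dvd
    obtain ⟨a, ha⟩ := h1
    obtain ⟨b, hb⟩ := h2
    rw [ha, hb, Nat.mul_div_cancel_left _ (by norm_num : 0 < 2),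
      Nat.mul_div_cancel_left _ (by norm_num : 0 < 2)]
    rcases N with _ | j
    · omega
    · simp only [Nat.add_sub_cancel] at hb
      nlinarith
  obtain ⟨N, rfl | rfl⟩ := n.eq_nat_or_neg
  · rw [zpow_natCast, GrpScheme.PowPullback.op_pow (Cube.cubeHyp A), hl, h1, ← pow_add, hab,
      Int.natAbs_natCast]
  · rw [zpow_neg, zpow_natCast, ← inv_pow, GrpScheme.PowPullback.op_pow (Cube.cubeHyp A),
      _root_.inv_inv, hl, h1, ← pow_add, hab, Int.natAbs_neg, Int.natAbs_natCast]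

theorem isFinite_flat_surjective {n : ℤ} (hn : n ≠ 0) :
    IsFinite (𝟙 A ^ n).left ∧ Flat (𝟙 A ^ n).left ∧ Surjective (𝟙 A ^ n).left := by
  have := AbVarLib.Basics.smooth A
  have := GrpScheme.AVComm.isCommMonObj A
  have : IsIntegral A.left := GeometricallyIntegral.isIntegral_of_subsingleton A.hom
  have key : IsFinite (𝟙 A ^ n).left ∧ Surjective (𝟙 A ^ n).left := by
    let i : A ≅ A := ⟨(𝟙 A)⁻¹, (𝟙 A)⁻¹, inv_id_comp A, inv_id_comp A⟩
    obtain ⟨N, rfl | rfl⟩ := n.eq_nat_or_neg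
    · rw [zpow_natCast]
      exact GrpScheme.AVPow.isFinite_surjective_pow A (by omega)
    · obtain ⟨h1, h2⟩ := GrpScheme.AVPow.isFinite_surjective_pow A (n := N) (by omega)
      rw [zpow_neg, zpow_natCast, ← inv_pow,
        show ((𝟙 A)⁻¹ : A ⟶ A) ^ N = (𝟙 A)⁻¹ ≫ 𝟙 A ^ N by rw [MonObj.comp_pow, Category.comp_id],
        Over.comp_left]
      have : IsIso (𝟙 A)⁻¹.left := ((Over.forget _).mapIso i).isIso_hom
      exact ⟨inferInstance, inferInstance⟩
  obtain ⟨_, _⟩ := key
  have : IsMonHom (𝟙 A ^ n) :=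
    { one_hom := by rw [GrpObj.comp_zpow, Category.comp_id, MonObj.one_eq_one, one_zpow]
      mul_hom := by
        rw [GrpObj.comp_zpow, Category.comp_id, MonObj.mul_eq_mul, MonObj.comp_mul, tensorHom_fst,
          tensorHom_snd, GrpObj.comp_zpow, GrpObj.comp_zpow, Category.comp_id, Category.comp_id, mul_zpow] }
  exact ⟨inferInstance, GrpScheme.HomFlat.flat_of_surjective (𝟙 A ^ n), inferInstance⟩

theorem finrank_eq (g : ℕ) (hg : topologicalKrullDim A.left = (g : WithBot ℕ∞)) {n : ℤ} (hn : n ≠ 0)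
    (a : A.left) : Scheme.Hom.finrank (𝟙 A ^ n).left a = n.natAbs ^ (2 * g) := by
  obtain ⟨_, _, _⟩ := isFinite_flat_surjective A hn
  have : IsIntegral A.left := GeometricallyIntegral.isIntegral_of_subsingleton A.hom
  letI : A.left.Over (Spec (CommRingCat.of K)) := ⟨A.hom⟩
  haveI : IsProper (A.left ↘ Spec (CommRingCat.of K)) := ‹IsProper A.hom›
  haveI := EulerChar.isNoetherian K (X := A.left)
  set f := 𝟙 A ^ n with hf
  have : LocallyOfFinitePresentation f.left := GrpdLib.GrpOver.lfp_left f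
  obtain ⟨d, hd⟩ : ∃ d, ∀ y, Scheme.Hom.finrank f.left y = d :=
    ⟨_, fun y => f.left.isLocallyConstant_finrank.apply_eq_of_preconnectedSpace y a⟩
  rw [hd a]
  obtain ⟨L, hL, hsym⟩ := exists_symmetric_ample A
  have hO : Coh.IsCoh (Coh.structureModule A.left) := ProperFin.isCoh_structureModule A.left
  let M := (Scheme.Modules.pushforward f.left).obj (Coh.structureModule A.left)
  have hM : Coh.IsCoh M := CycLib.isCoh_push _ f.left hO
  obtain ⟨e⟩ := EulerChar.stalk_ofRank (FEtCat.Rank.isFinLocFreeOfRank_of_finrank f.left d hd)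
    (genericPoint A.left)
  have hcoef := HilbDeg.coeff_eq_rank_mul K hL hg hM e
  set P := HilbPolyX.hilb K L (Coh.structureModule A.left) with hP
  set q : ℚ := ((n.natAbs * n.natAbs : ℕ) : ℚ) with hq
  have hPM : HilbPolyX.hilb K L M = P.comp (C q * X) := by
    refine (HilbPolyX.eq_hilb K hL hM fun m => ?_).symm
    rw [eval_comp, eval_mul, eval_C, eval_X, hq, ← Nat.cast_mul, hP,
      ← HilbPolyX.isHilbPoly_hilb K hL hO]
    congr 1
    obtain ⟨hm, em⟩ := GrpScheme.PowPullback.cls_tensorPow hL.1 m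
    obtain ⟨hm', em'⟩ := GrpScheme.PowPullback.cls_tensorPow hL.1 (n.natAbs * n.natAbs * m)
    obtain ⟨φ⟩ := AmpCrit.ProjForm.nonempty_projIso f.left (Coh.structureModule A.left) hm
    obtain ⟨ψ⟩ := (PicLaw.iso_iff (PicLoc.isInvertible_pullback f.left hm) hm').mpr (by
      rw [PicLaw.cls_pullback _ hm, em, em', map_pow]
      change op f _ ^ m = _
      rw [op_zpow A hsym n, ← pow_mul])
    refine (EulerChar.euler_iso K φ).trans ((EulerChar.euler_push (k := K) f.left (Over.w f) _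
      (ProjTwist.isCoh_tensor (PicLoc.isInvertible_pullback f.left hm) hO).1).trans ?_)
    exact EulerChar.euler_iso K (ProjTwist.tensCongr (Iso.refl _) ψ)
  have hpos : 0 < P.coeff g := by
    refine HilbPolyX.coeff_pos K hL g hO (HilbPolyX.isHilbPoly_hilb K hL hO) ?_
    have hsupp : CohB1.support (Coh.structureModule A.left) = Set.univ :=
      Set.eq_univ_of_forall fun x h => by
        have : Subsingleton ((Coh.structureModule A.left).presheaf.stalk x) := h
        exact not_subsingleton (A.left.presheaf.stalk x) (HomShQC.unitStalk x).toEquiv.subsingleton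
    rw [hsupp, ← hg]
    exact (Homeomorph.Set.univ A.left).isHomeomorph.topologicalKrullDim_eq
  rw [hPM, comp_C_mul_X_coeff] at hcoef
  have h : (d : ℚ) = q ^ g := mul_right_cancel₀ hpos.ne' (hcoef.symm.trans (_root_.mul_comm _ _))
  rw [hq, ← Nat.cast_pow, Nat.cast_inj] at h
  rw [h, pow_mul, sq]

end Groth.Agent.AbSch51.MulDeg
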