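import Groth.Agent.GrpScheme.AVAmple

/-!
# `L ⊗ L` is ample when `L` has a section with affine nonempty nonvanishing locus
-/

set_option autoImplicit false

universe u

open CategoryTheory MonoidalCategory CartesianMonoidalCategory MonObj GrpObj AlgebraicGeometry Limits
  TopologicalSpace
open scoped TensorProduct

namespace Groth.Agent.AbSch51.AVAmpleAny

open Groth.Agent.GrpScheme Groth.Agent.GrpScheme.AVAmple
open Groth.Agent.Props.GenLocus Groth.Agent.Props.GenTensor Groth.Agent.Props.GenProd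
open scoped Groth.Agent.PicLaw
open PicLaw.Mumford (op)

variable {K : Type u} [Field K] {A : Over (Spec (CommRingCat.of K))} [GrpObj A] [IsProper A.hom]
  [GeometricallyIntegral A.hom]

/-- Some closed point makes the locus contain the whole fibre over a given closed point. -/
lemma exists_good_point {U : A.left.Opens} (hU : (U : Set A.left).Nonempty)
    {a : A.left} (ha : IsClosed ({a} : Set A.left)) :
    ∃ (F : Type u) (_ : Field F) (_ : Algebra K F) (_ : Module.Finite K F) (t : fpt K F ⟶ A),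
      ∀ z : (A ⊗ fpt K F).left, (fst A (fpt K F)).left z = a → z ∈ locus U t := by
  have : IsLocallyNoetherian A.left := LocallyOfFiniteType.isLocallyNoetherian A.hom
  have : CompactSpace A.left := QuasiCompact.compactSpace_of_compactSpace A.hom
  have : JacobsonSpace A.left := LocallyOfFiniteType.jacobsonSpace A.hom
  have hres : ∀ b : A.left, ∃ (φ : CommRingCat.of K ⟶ A.left.residueField b),
      Spec.map φ = A.left.fromSpecResidueField b ≫ A.hom := fun b => Spec.map_surjective _
  have hfin : ∀ b : A.left, IsClosed ({b} : Set A.left) → ∀ φ : CommRingCat.of K ⟶ A.left.residueField b,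
      Spec.map φ = A.left.fromSpecResidueField b ≫ A.hom → φ.hom.Finite := by
    intro b hb φ hφ
    have : IsClosedImmersion (A.left.fromSpecResidueField b) :=
      isClosed_singleton_iff_isClosedImmersion.mp hb
    have : IsFinite (A.left.fromSpecResidueField b ≫ A.hom) :=
      IsFinite.iff_isProper_and_isAffineHom.mpr ⟨inferInstance, by rw [← hφ]; infer_instance⟩
    rw [← hφ] at this
    exact (IsFinite.SpecMap_iff _).mp this
  obtain ⟨φ, hφ⟩ := hres a
  let κ := A.left.residueField a
  let _ : Algebra K κ := φ.hom.toAlgebra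
  have : Module.Finite K κ := hfin a ha φ hφ
  let p : fpt K κ ⟶ A := Over.homMk (A.left.fromSpecResidueField a) hφ.symm
  let X := fpt K κ ⊗ A
  have : IsIntegral A.left := GeometricallyIntegral.isIntegral_of_subsingleton A.hom
  have hirr : IsIntegral X.left :=
    have : GeometricallyIntegral (pullback.fst (fpt K κ).hom A.hom) := inferInstance
    have : Subsingleton ↥(fpt K κ).left := inferInstanceAs (Subsingleton (PrimeSpectrum κ))
    have : IsIntegral (fpt K κ).left := inferInstanceAs (IsIntegral (Spec (CommRingCat.of κ)))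
    GeometricallyIntegral.isIntegral_of_subsingleton (pullback.fst (fpt K κ).hom A.hom)
  let m₁ : X ⟶ A := (fst _ _ ≫ p) * snd _ _
  let m₂ : X ⟶ A := (fst _ _ ≫ p) * (snd _ _)⁻¹
  obtain ⟨u, hu⟩ := hU
  have : IsFinite (fpt K κ).hom := (IsFinite.SpecMap_iff _).mpr (RingHom.finite_algebraMap.mpr ‹Module.Finite K κ›)
  have : Surjective (fpt K κ).hom := ⟨fun y => ⟨(⊥ : PrimeSpectrum κ), Subsingleton.elim (α := PrimeSpectrum K) _ _⟩⟩
  have hsnd : Surjective (snd (fpt K κ) A).left := inferInstanceAs (Surjective (pullback.snd (fpt K κ).hom A.hom))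
  have hne : ∀ (m : X ⟶ A) (n : X ⟶ X), n ≫ m = snd (fpt K κ) A → genericPoint X.left ∈ m.left ⁻¹ᵁ U := by
    intro m n hn
    obtain ⟨y, hy⟩ := (snd (fpt K κ) A).left.surjective u
    refine (genericPoint_specializes (n.left y)).mem_open (m.left ⁻¹ᵁ U).2 ?_
    show (n ≫ m).left y ∈ U
    rw [hn, hy]
    exact hu
  have h1 : genericPoint X.left ∈ m₁.left ⁻¹ᵁ U :=
    hne m₁ (lift (fst _ _) ((fst _ _ ≫ p)⁻¹ * snd _ _)) (by
      rw [MonObj.comp_mul, lift_fst_assoc, lift_snd, mul_inv_cancel_left])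
  have h2 : genericPoint X.left ∈ m₂.left ⁻¹ᵁ U :=
    hne m₂ (lift (fst _ _) ((snd _ _)⁻¹ * (fst _ _ ≫ p))) (by
      rw [MonObj.comp_mul, GrpObj.comp_inv, lift_fst_assoc, lift_snd, _root_.mul_inv_rev, _root_.inv_inv,
        mul_inv_cancel_left])
  let W : X.left.Opens := m₁.left ⁻¹ᵁ U ⊓ m₂.left ⁻¹ᵁ U
  have : IsFinite (fpt K κ).hom := (IsFinite.SpecMap_iff _).mpr (RingHom.finite_algebraMap.mpr ‹Module.Finite K κ›)
  have : IsFinite (snd (fpt K κ) A).left := inferInstanceAs (IsFinite (pullback.snd (fpt K κ).hom A.hom))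
  have : Flat (fpt K κ).hom := inferInstance
  have : Flat (snd (fpt K κ) A).left := inferInstanceAs (Flat (pullback.snd (fpt K κ).hom A.hom))
  let ξ := genericPoint A.left
  have hbad : ξ ∉ (snd (fpt K κ) A).left '' (W : Set X.left)ᶜ := by
    rintro ⟨z, hz, hzξ⟩
    refine hz ?_
    have h : (snd (fpt K κ) A).left (genericPoint X.left) = (snd (fpt K κ) A).left z := by
      have := ((genericPoint_specializes z).map (snd (fpt K κ) A).left.continuous)
      rw [hzξ] at this ⊢
      exact (this.antisymm (genericPoint_specializes _)).eq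
    rw [← Dimension.eq_of_specializes_of_apply_eq _ (genericPoint_specializes z) h]
    exact ⟨h1, h2⟩
  have hopen : IsOpen ((snd (fpt K κ) A).left '' (W : Set X.left)ᶜ)ᶜ :=
    ((snd (fpt K κ) A).left.isClosedMap _ W.2.isClosed_compl).isOpen_compl
  obtain ⟨b, hb, hbc⟩ := nonempty_inter_closedPoints ⟨ξ, hbad⟩ hopen.isLocallyClosed
  obtain ⟨ψ, hψ⟩ := hres b
  let _ : Algebra K (A.left.residueField b) := ψ.hom.toAlgebra
  have : Module.Finite K (A.left.residueField b) := hfin b hbc ψ hψ
  let t : fpt K (A.left.residueField b) ⟶ A := Over.homMk (A.left.fromSpecResidueField b) hψ.symm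
  refine ⟨A.left.residueField b, inferInstance, ψ.hom.toAlgebra, ‹_›, t, fun z hz => ?_⟩
  -- compare with a point of `X` through a field
  obtain ⟨Ω, _, _, w, hw⟩ : ∃ (Ω : Type u) (_ : Field Ω) (_ : Algebra K Ω)
      (w : fpt K Ω ⟶ A ⊗ fpt K (A.left.residueField b)), Set.range w.left = {z} := by
    obtain ⟨χ, hχ⟩ := Spec.map_surjective ((A ⊗ fpt K (A.left.residueField b)).left.fromSpecResidueField z ≫
      (A ⊗ fpt K (A.left.residueField b)).hom)
    let _ : Algebra K ((A ⊗ fpt K (A.left.residueField b)).left.residueField z) := χ.hom.toAlgebra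
    refine ⟨(A ⊗ fpt K (A.left.residueField b)).left.residueField z, inferInstance, χ.hom.toAlgebra,
      Over.homMk ((A ⊗ fpt K (A.left.residueField b)).left.fromSpecResidueField z) hχ.symm, ?_⟩
    exact Scheme.range_fromSpecResidueField _
  obtain ⟨q, hq⟩ : ∃ q : fpt K Ω ⟶ fpt K κ, q ≫ p = w ≫ fst _ _ := by
    have hr : (w ≫ fst A (fpt K (A.left.residueField b))).left (IsLocalRing.closedPoint Ω) = a := by
      have := hw.le (Set.mem_range_self (IsLocalRing.closedPoint Ω))
      show (fst A (fpt K (A.left.residueField b))).left (w.left _) = a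
      rw [Set.mem_singleton_iff.mp this, hz]
    obtain ⟨⟨y, ρ⟩, hρ⟩ := (Scheme.SpecToEquivOfField Ω A.left).symm.surjective
      (w ≫ fst A (fpt K (A.left.residueField b))).left
    rw [Scheme.SpecToEquivOfField_symm_apply] at hρ
    obtain rfl : y = a := by
      rw [← hr, ← hρ]
      exact (Scheme.fromSpecResidueField_apply y _).symm
    refine ⟨Over.homMk (Spec.map ρ) ?_, Over.OverMorphism.ext hρ⟩
    show Spec.map ρ ≫ Spec.map φ = _
    rw [hφ, ← Category.assoc, hρ]
    exact Over.w (w ≫ fst A (fpt K (A.left.residueField b)))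
  let v : fpt K Ω ⟶ X := lift q (w ≫ snd _ _ ≫ t)
  let o := IsLocalRing.closedPoint Ω
  have hvW : v.left o ∈ W := by
    by_contra h
    refine hb ⟨_, h, ?_⟩
    show (v ≫ snd _ _).left o = b
    rw [lift_snd]
    exact Scheme.fromSpecResidueField_apply b _
  have e₁ : v ≫ m₁ = w ≫ (fst A _ * con t) := by
    rw [MonObj.comp_mul, MonObj.comp_mul, lift_fst_assoc, lift_snd, hq]
  have e₂ : v ≫ m₂ = w ≫ (fst A _ * (con t)⁻¹) := by
    rw [MonObj.comp_mul, MonObj.comp_mul, lift_fst_assoc, GrpObj.comp_inv, GrpObj.comp_inv, lift_snd, hq]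
  have hz' : w.left o = z := Set.mem_singleton_iff.mp (hw.le (Set.mem_range_self o))
  rw [← hz']
  exact ⟨mem_preimage_of_comp_eq e₁ U hvW.1, mem_preimage_of_comp_eq e₂ U hvW.2⟩


/-- `L ⊗ L` is ample. -/
theorem isAmple_tensor_self {U : A.left.Opens} {L : A.left.Modules} (hL : PicF.IsInvertible L)
    (s : Coh.structureModule A.left ⟶ CohB1.tensorPow L 1) (hU : IsAffineOpen U)
    (hne : (U : Set A.left).Nonempty) (hs : CohB1.genLocus _ s = U) :
    CohB1.IsAmple (CohB1.tensorMod L L) := by
  have : CompactSpace A.left := QuasiCompact.compactSpace_of_compactSpace A.hom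
  have : JacobsonSpace A.left := LocallyOfFiniteType.jacobsonSpace A.hom
  let I := {a : A.left // IsClosed ({a} : Set A.left)}
  choose F iF iA iM t ht using fun a : I => exists_good_point (A := A) hne a.2
  have hclosedMap : ∀ a : I, IsClosed ((fst A (fpt K (F a))).left '' (locus U (t a) : Set _)ᶜ) := fun a =>
    (fst A (fpt K (F a))).left.isClosedMap _ (locus U (t a)).2.isClosed_compl
  let O : I → Set A.left := fun a => ((fst A (fpt K (F a))).left '' (locus U (t a) : Set _)ᶜ)ᶜ
  have hcov : Set.univ ⊆ ⋃ a, O a := by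
    intro x _
    by_contra hx
    obtain ⟨c, hc, hcc⟩ := nonempty_inter_closedPoints (Z := (⋃ a, O a)ᶜ) ⟨x, hx⟩
      (isOpen_iUnion fun a => (hclosedMap a).isOpen_compl).isClosed_compl.isLocallyClosed
    refine hc (Set.mem_iUnion.mpr ⟨⟨c, hcc⟩, ?_⟩)
    rintro ⟨z, hz, hzc⟩
    exact hz (ht ⟨c, hcc⟩ z hzc)
  obtain ⟨T, hT⟩ := isCompact_univ.elim_finite_subcover O (fun a => (hclosedMap a).isOpen_compl) hcov
  obtain ⟨E, _, _, _, hE⟩ := exists_common_ext (K := K) T F
  have : IsFinite (fpt K E).hom := (IsFinite.SpecMap_iff _).mpr (RingHom.finite_algebraMap.mpr ‹Module.Finite K E›)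
  have : IsFinite (fst A (fpt K E)).left := isFinite_fst
  have : Surjective (fst A (fpt K E)).left := by
    have : Surjective (fpt K E).hom := ⟨fun y => ⟨(⊥ : PrimeSpectrum E), Subsingleton.elim (α := PrimeSpectrum K) _ _⟩⟩
    exact inferInstanceAs (Surjective (pullback.fst A.hom (fpt K E).hom))
  have : Flat (fpt K E).hom := inferInstance
  have : Flat (fst A (fpt K E)).left := inferInstanceAs (Flat (pullback.fst A.hom (fpt K E).hom))
  have : IsLocallyNoetherian A.left := LocallyOfFiniteType.isLocallyNoetherian A.hom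
  have hfree := ((S9716.result (fst A (fpt K E)).left).mpr
    ⟨inferInstance, inferInstance, inferInstance⟩).2
  have hM := PicLaw.isInvertible_tensor hL hL
  rw [← S4381.result A.hom, S3565.result A.hom (fst A (fpt K E)).left hfree _ hM, S4381.result]
  have hAE : CompactSpace (A ⊗ fpt K E).left := QuasiCompact.compactSpace_of_compactSpace (fst A (fpt K E)).left
  refine ⟨PicLoc.isInvertible_pullback _ hM, hAE, fun z => ?_⟩
  obtain ⟨a, haT, haO⟩ : ∃ a ∈ T, (fst A (fpt K E)).left z ∈ O a := by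
    simpa using hT (Set.mem_univ ((fst A (fpt K E)).left z))
  obtain ⟨φ⟩ := hE a haT
  let q : fpt K E ⟶ fpt K (F a) := Over.homMk (Spec.map (CommRingCat.ofHom φ.toRingHom)) (by
    show Spec.map _ ≫ Spec.map _ = Spec.map _
    rw [← Spec.map_comp, ← CommRingCat.ofHom_comp]
    congr 2
    exact φ.comp_algebraMap)
  obtain ⟨σ, hσ⟩ := exists_section U (q ≫ t a) hL s hs
  refine ⟨0, σ, ?_, by rw [hσ]; exact isAffineOpen_locus U _ hU⟩
  rw [hσ]
  have hc : con (q ≫ t a) = (A ◁ q) ≫ con (t a) := by rw [whiskerLeft_snd_assoc]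
  have e1 : fst A (fpt K E) * con (q ≫ t a) = (A ◁ q) ≫ (fst A (fpt K (F a)) * con (t a)) := by
    rw [hc, MonObj.comp_mul, whiskerLeft_fst]
  have e2 : fst A (fpt K E) * (con (q ≫ t a))⁻¹ = (A ◁ q) ≫ (fst A (fpt K (F a)) * (con (t a))⁻¹) := by
    rw [hc, MonObj.comp_mul, whiskerLeft_fst, GrpObj.comp_inv]
  have hmem : (A ◁ q).left z ∈ locus U (t a) := by
    by_contra h
    refine haO ⟨_, h, ?_⟩
    rw [← whiskerLeft_fst A q]
    rfl
  refine ⟨?_, ?_⟩
  · show (fst A (fpt K E) * con (q ≫ t a)).left z ∈ U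
    rw [e1]; exact hmem.1
  · show (fst A (fpt K E) * (con (q ≫ t a))⁻¹).left z ∈ U
    rw [e2]; exact hmem.2


end Groth.Agent.AbSch51.AVAmpleAny
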