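import Groth.Prelude.Def_Biext

/-!
Endomorphisms of a biextension are given by biadditive pairings.
-/

set_option autoImplicit false

universe u

open CategoryTheory Opposite

noncomputable section

namespace Groth.Agent.AbSch51.BiextPairing

variable {C : Type (u + 1)} [Category.{u} C] {J : GrothendieckTopology C}
  {P Q G : Sheaf J AddCommGrpCat.{u + 1}} (B : Biext J P Q G) (f : Biext.Hom J B B)

/-- The translation taking a section to its image under an endomorphism. -/
def diff (T : C) (x : B.E.obj.obj (op T)) : G.obj.obj (op T) :=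
  (B.existsUnique_act T x (f.map T x) (f.πP_map T x).symm (f.πQ_map T x).symm).choose

lemma act_diff (T : C) (x : B.E.obj.obj (op T)) : B.act T (diff B f T x) x = f.map T x :=
  (B.existsUnique_act T x (f.map T x) (f.πP_map T x).symm (f.πQ_map T x).symm).choose_spec.1

lemma diff_eq {T : C} {x : B.E.obj.obj (op T)} {g : G.obj.obj (op T)} (h : B.act T g x = f.map T x) :
    diff B f T x = g :=
  ((B.existsUnique_act T x (f.map T x) (f.πP_map T x).symm (f.πQ_map T x).symm).choose_spec.2 g h).symm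

lemma diff_map {T T' : C} (h : T' ⟶ T) (x : B.E.obj.obj (op T)) :
    diff B f T' (B.E.obj.map h.op x) = G.obj.map h.op (diff B f T x) :=
  diff_eq B f (by rw [← B.act_map, act_diff, f.map_res])

lemma map_act (T : C) (g : G.obj.obj (op T)) (x : B.E.obj.obj (op T)) :
    f.map T (B.act T g x) = B.act T g (f.map T x) :=
  f.map_act T g x

lemma diff_congr {T : C} {x y : B.E.obj.obj (op T)} (hP : B.πP T x = B.πP T y)
    (hQ : B.πQ T x = B.πQ T y) : diff B f T x = diff B f T y := by
  obtain ⟨g, hg, -⟩ := B.existsUnique_act T x y hP hQ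
  refine (diff_eq B f ?_).symm
  rw [← hg, map_act, ← act_diff B f T x, ← B.add_act, ← B.add_act, add_comm]

lemma add₁_congr {T : C} {x x' z z' : B.E.obj.obj (op T)} (hx : x = x') (hz : z = z')
    (h : B.πQ T x = B.πQ T z) :
    B.add₁ T x z h = B.add₁ T x' z' (by rw [← hx, ← hz, h]) := by
  subst hx hz; rfl

lemma add₂_congr {T : C} {x x' y y' : B.E.obj.obj (op T)} (hx : x = x') (hy : y = y')
    (h : B.πP T x = B.πP T y) :
    B.add₂ T x y h = B.add₂ T x' y' (by rw [← hx, ← hy, h]) := by
  subst hx hy; rfl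

lemma diff_add₁ {T : C} (x z : B.E.obj.obj (op T)) (h : B.πQ T x = B.πQ T z) :
    diff B f T (B.add₁ T x z h) = diff B f T x + diff B f T z := by
  refine diff_eq B f ?_
  have hz : B.πQ T (B.act T (diff B f T z) z) = B.πQ T x := (B.πQ_act T _ z).trans h.symm
  rw [f.map_add₁ T x z h, add₁_congr B (act_diff B f T x).symm (act_diff B f T z).symm,
    B.add₁_act T _ x _ hz.symm, B.add₁_comm T x _ hz.symm, B.add₁_act T _ z x h.symm,
    B.add₁_comm T z x, ← B.add_act]

lemma diff_add₂ {T : C} (x y : B.E.obj.obj (op T)) (h : B.πP T x = B.πP T y) :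
    diff B f T (B.add₂ T x y h) = diff B f T x + diff B f T y := by
  refine diff_eq B f ?_
  have hy : B.πP T (B.act T (diff B f T y) y) = B.πP T x := (B.πP_act T _ y).trans h.symm
  rw [f.map_add₂ T x y h, add₂_congr B (act_diff B f T x).symm (act_diff B f T y).symm,
    B.add₂_act T _ x _ hy.symm, B.add₂_comm T x _ hy.symm, B.add₂_act T _ y x h.symm,
    B.add₂_comm T y x, ← B.add_act]

lemma diff_eq_zero_of_πQ {T : C} {x : B.E.obj.obj (op T)} (h : B.πQ T x = 0) :
    diff B f T x = 0 := by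
  have h2 := diff_congr B f (x := B.add₂ T x x rfl) (y := x) (B.πP_add₂ T x x rfl)
    (by rw [B.πQ_add₂, h, add_zero])
  rw [diff_add₂] at h2
  exact left_eq_add.mp h2.symm

lemma diff_eq_zero_of_πP {T : C} {x : B.E.obj.obj (op T)} (h : B.πP T x = 0) :
    diff B f T x = 0 := by
  have h2 := diff_congr B f (x := B.add₁ T x x rfl) (y := x)
    (by rw [B.πP_add₁, h, add_zero]) (B.πQ_add₁ T x x rfl)
  rw [diff_add₁] at h2
  exact left_eq_add.mp h2.symm

/-- The defining property of the pairing at `(p, q)`. -/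
def IsVal (T : C) (p : P.obj.obj (op T)) (q : Q.obj.obj (op T)) (g : G.obj.obj (op T)) : Prop :=
  ∀ (T' : C) (h : T' ⟶ T) (x : B.E.obj.obj (op T')), B.πP T' x = P.obj.map h.op p →
    B.πQ T' x = Q.obj.map h.op q → diff B f T' x = G.obj.map h.op g

lemma existsUnique_isVal (T : C) (p : P.obj.obj (op T)) (q : Q.obj.obj (op T)) :
    ∃! g, IsVal B f T p q g := by
  obtain ⟨R, hR, hloc⟩ := B.locallySurjective T p q
  choose x hxP hxQ using hloc
  have hG : Presieve.IsSheaf J (Biext.uSh J G).obj :=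
    (isSheaf_iff_isSheaf_of_type _ _).1 (Biext.uSh J G).property
  let fam : Presieve.FamilyOfElements (Biext.uSh J G).obj R.arrows :=
    fun T' h hh => diff B f T' (x h hh)
  have hfam : fam.Compatible := by
    intro Y₁ Y₂ Z g₁ g₂ f₁ f₂ h₁ h₂ e
    show G.obj.map g₁.op (diff B f Y₁ (x f₁ h₁)) = G.obj.map g₂.op (diff B f Y₂ (x f₂ h₂))
    rw [← diff_map, ← diff_map]
    refine diff_congr B f ?_ ?_
    · rw [B.πP_map, B.πP_map, hxP, hxP, ← ConcreteCategory.comp_apply, ← ConcreteCategory.comp_apply,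
        ← Functor.map_comp, ← Functor.map_comp, ← op_comp, ← op_comp, e]
    · rw [B.πQ_map, B.πQ_map, hxQ, hxQ, ← ConcreteCategory.comp_apply, ← ConcreteCategory.comp_apply,
        ← Functor.map_comp, ← Functor.map_comp, ← op_comp, ← op_comp, e]
  obtain ⟨g, hg, -⟩ := hG R hR fam hfam
  refine ⟨g, ?_, ?_⟩
  · intro T' h y hyP hyQ
    refine (hG.isSeparated _ (J.pullback_stable h hR)).ext ?_
    intro T'' k hk
    show G.obj.map k.op (diff B f T' y) = G.obj.map k.op (G.obj.map h.op g)
    have e1 : G.obj.map (k ≫ h).op g = diff B f T'' (x (k ≫ h) hk) := hg (k ≫ h) hk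
    rw [← diff_map, ← ConcreteCategory.comp_apply (G.obj.map h.op), ← Functor.map_comp, ← op_comp, e1]
    refine diff_congr B f ?_ ?_
    · rw [B.πP_map, hyP, hxP, ← ConcreteCategory.comp_apply, ← Functor.map_comp, ← op_comp]
    · rw [B.πQ_map, hyQ, hxQ, ← ConcreteCategory.comp_apply, ← Functor.map_comp, ← op_comp]
  · intro g' hg'
    refine (hG.isSeparated _ hR).ext ?_
    intro T' h hh
    exact (hg' T' h (x h hh) (hxP h hh) (hxQ h hh)).symm.trans (hg h hh).symm

theorem exists_pairing :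
    ∃ φ : ∀ T : C, P.obj.obj (op T) → Q.obj.obj (op T) → G.obj.obj (op T),
      (∀ (T T' : C) (h : T' ⟶ T) p q,
        φ T' (P.obj.map h.op p) (Q.obj.map h.op q) = G.obj.map h.op (φ T p q)) ∧
      (∀ T p, φ T p 0 = 0) ∧ (∀ T q, φ T 0 q = 0) ∧
      ∀ T x, f.map T x = B.act T (φ T (B.πP T x) (B.πQ T x)) x := by
  choose φ hφ huniq using existsUnique_isVal B f
  refine ⟨φ, fun T T' h p q => (huniq T' _ _ _ ?_).symm, fun T p => (huniq T _ _ _ ?_).symm,
    fun T q => (huniq T _ _ _ ?_).symm, fun T x => ?_⟩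
  · intro T'' k x hP hQ
    have e := hφ T p q T'' (k ≫ h) x
      (by rw [hP, op_comp, Functor.map_comp]; rfl) (by rw [hQ, op_comp, Functor.map_comp]; rfl)
    rw [e, op_comp, Functor.map_comp]; rfl
  · intro T' h x _ hQ
    rw [map_zero] at hQ
    rw [diff_eq_zero_of_πQ B f hQ, map_zero]
  · intro T' h x hP _
    rw [map_zero] at hP
    rw [diff_eq_zero_of_πP B f hP, map_zero]
  · have e := hφ T (B.πP T x) (B.πQ T x) T (𝟙 T) x (by simp) (by simp)
    simp only [op_id, CategoryTheory.Functor.map_id] at e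
    exact (act_diff B f T x).symm.trans (congrArg (fun g => B.act T g x) e)

end Groth.Agent.AbSch51.BiextPairing
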