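import Groth.Prelude.Def_Biext
import Groth.Agent.AbSch51.BiextPairing
import Mathlib.CategoryTheory.Sites.EpiMono
import Mathlib.CategoryTheory.Sites.Abelian

/-!
Triviality of biextensions descends along multiplications on divisible sheaves.
-/

set_option autoImplicit false

universe u

open CategoryTheory Opposite

noncomputable section

namespace Groth.Agent.AbSch51.BiextDescent

variable {C : Type (u + 1)} [Category.{u} C] {J : GrothendieckTopology C}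
  {P Q G : Sheaf J AddCommGrpCat.{u + 1}}

lemma app_zsmul (P : Sheaf J AddCommGrpCat.{u + 1}) (n : ℤ) (T : C) (p : P.obj.obj (op T)) :
    (n • 𝟙 P : P ⟶ P).hom.app (op T) p = n • p := rfl

/-- divisibility gives local preimages -/
lemma exists_local_div (P : Sheaf J AddCommGrpCat.{u + 1}) [HasSheafify J AddCommGrpCat.{u + 1}]
    [J.WEqualsLocallyBijective AddCommGrpCat.{u + 1}] (n : ℤ)
    (h : Sheaf.IsLocallySurjective (n • 𝟙 P : P ⟶ P)) (T : C) (p : P.obj.obj (op T)) :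
    ∃ R ∈ J T, ∀ ⦃T' : C⦄ (f : T' ⟶ T), R f → ∃ p' : P.obj.obj (op T'), n • p' = P.obj.map f.op p := by
  refine ⟨_, Presheaf.imageSieve_mem J (n • 𝟙 P : P ⟶ P).hom p, fun T' f hf => ?_⟩
  obtain ⟨p', hp'⟩ := hf
  exact ⟨p', (app_zsmul P n T' p').symm.trans hp'⟩

lemma separated_type (E : Sheaf J (Type (u + 1))) {T : C} {R : Sieve T} (hR : R ∈ J T)
    {a b : E.obj.obj (op T)}
    (h : ∀ ⦃T' : C⦄ (f : T' ⟶ T), R f → E.obj.map f.op a = E.obj.map f.op b) : a = b :=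
  (((isSheaf_iff_isSheaf_of_type _ _).1 E.property) R hR).isSeparatedFor.ext h

lemma separated_ab (P : Sheaf J AddCommGrpCat.{u + 1}) {T : C} {R : Sieve T} (hR : R ∈ J T)
    {a b : P.obj.obj (op T)}
    (h : ∀ ⦃T' : C⦄ (f : T' ⟶ T), R f → P.obj.map f.op a = P.obj.map f.op b) : a = b :=
  separated_type (Biext.uSh J P) hR h

variable {n m : ℤ} {B B' : Biext J P Q G}
  (φ : Biext.HomOver J (n • 𝟙 P) (m • 𝟙 Q) (𝟙 G) B' B) (σ' : Biext.Splitting J B')

/-- image of the splitting -/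
def s (T : C) (p : P.obj.obj (op T)) (q : Q.obj.obj (op T)) : B.E.obj.obj (op T) :=
  φ.map T (σ'.σ T p q)

lemma πP_s (T : C) (p : P.obj.obj (op T)) (q : Q.obj.obj (op T)) :
    B.πP T (s φ σ' T p q) = n • p := by
  rw [s, φ.πP_map, app_zsmul, σ'.πP_σ]

lemma πQ_s (T : C) (p : P.obj.obj (op T)) (q : Q.obj.obj (op T)) :
    B.πQ T (s φ σ' T p q) = m • q := by
  rw [s, φ.πQ_map, app_zsmul, σ'.πQ_σ]

lemma s_map {T T' : C} (f : T' ⟶ T) (p : P.obj.obj (op T)) (q : Q.obj.obj (op T)) :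
    B.E.obj.map f.op (s φ σ' T p q) = s φ σ' T' (P.obj.map f.op p) (Q.obj.map f.op q) := by
  rw [s, ← φ.map_res, σ'.σ_map]
  rfl

lemma s_add₁ (T : C) (p p' : P.obj.obj (op T)) (q : Q.obj.obj (op T)) :
    s φ σ' T (p + p') q = B.add₁ T (s φ σ' T p q) (s φ σ' T p' q)
      ((πQ_s φ σ' T p q).trans (πQ_s φ σ' T p' q).symm) := by
  simp only [s, σ'.σ_add₁, φ.map_add₁]

lemma s_add₂ (T : C) (p : P.obj.obj (op T)) (q q' : Q.obj.obj (op T)) :
    s φ σ' T p (q + q') = B.add₂ T (s φ σ' T p q) (s φ σ' T p q')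
      ((πP_s φ σ' T p q).trans (πP_s φ σ' T p q').symm) := by
  simp only [s, σ'.σ_add₂, φ.map_add₂]

section Obstruction

/-- the obstruction in the first variable -/
def g₁ (T : C) (k : P.obj.obj (op T)) (hk : n • k = 0) (q : Q.obj.obj (op T)) :
    G.obj.obj (op T) :=
  (B.existsUnique_act T (s φ σ' T 0 q) (s φ σ' T k q) (by rw [πP_s, πP_s, hk, smul_zero])
    (by rw [πQ_s, πQ_s])).choose

lemma act_g₁ (T : C) (k : P.obj.obj (op T)) (hk : n • k = 0) (q : Q.obj.obj (op T)) :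
    B.act T (g₁ φ σ' T k hk q) (s φ σ' T 0 q) = s φ σ' T k q :=
  (B.existsUnique_act T (s φ σ' T 0 q) (s φ σ' T k q) (by rw [πP_s, πP_s, hk, smul_zero])
    (by rw [πQ_s, πQ_s])).choose_spec.1

lemma g₁_eq {T : C} {k : P.obj.obj (op T)} (hk : n • k = 0) {q : Q.obj.obj (op T)}
    {g : G.obj.obj (op T)} (h : B.act T g (s φ σ' T 0 q) = s φ σ' T k q) :
    g₁ φ σ' T k hk q = g :=
  ((B.existsUnique_act T (s φ σ' T 0 q) (s φ σ' T k q) (by rw [πP_s, πP_s, hk, smul_zero])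
    (by rw [πQ_s, πQ_s])).choose_spec.2 g h).symm

lemma s_add_ker₁ (T : C) (p k : P.obj.obj (op T)) (hk : n • k = 0) (q : Q.obj.obj (op T)) :
    s φ σ' T (p + k) q = B.act T (g₁ φ σ' T k hk q) (s φ σ' T p q) := by
  rw [s_add₁, BiextPairing.add₁_congr B rfl (act_g₁ φ σ' T k hk q).symm, B.add₁_comm, B.add₁_act]
  congr 1
  · rw [B.add₁_comm, ← s_add₁, add_zero]
  all_goals rw [πQ_s, πQ_s]

lemma g₁_add (T : C) (k k' : P.obj.obj (op T)) (hk : n • k = 0) (hk' : n • k' = 0)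
    (q : Q.obj.obj (op T)) :
    g₁ φ σ' T (k + k') (by rw [smul_add, hk, hk', add_zero]) q =
      g₁ φ σ' T k hk q + g₁ φ σ' T k' hk' q := by
  refine g₁_eq φ σ' _ ?_
  rw [s_add_ker₁ φ σ' T k k' hk' q, add_comm, B.add_act, act_g₁]

lemma g₁_addQ (T : C) (k : P.obj.obj (op T)) (hk : n • k = 0) (q q' : Q.obj.obj (op T)) :
    g₁ φ σ' T k hk (q + q') = g₁ φ σ' T k hk q + g₁ φ σ' T k hk q' := by
  refine g₁_eq φ σ' _ ?_
  rw [s_add₂ φ σ' T k, BiextPairing.add₂_congr B (act_g₁ φ σ' T k hk q).symm (act_g₁ φ σ' T k hk q').symm,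
    B.add₂_act, B.add₂_comm, B.add₂_act, B.add₂_comm, ← s_add₂, B.add_act]
  all_goals first
    | rw [B.πP_act, πP_s, πP_s]
    | rw [πP_s, πP_s]

lemma g₁_map {T T' : C} (f : T' ⟶ T) (k : P.obj.obj (op T)) (hk : n • k = 0) (q : Q.obj.obj (op T)) :
    G.obj.map f.op (g₁ φ σ' T k hk q) =
      g₁ φ σ' T' (P.obj.map f.op k) (by rw [← map_zsmul, hk, map_zero]) (Q.obj.map f.op q) := by
  refine (g₁_eq φ σ' _ ?_).symm
  rw [← s_map, ← act_g₁ φ σ' T k hk q, B.act_map, s_map, map_zero]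

lemma g₁_zero (hQ : ∀ T q, ∃ R ∈ J T, ∀ ⦃T' : C⦄ (f : T' ⟶ T), R f →
    ∃ q' : Q.obj.obj (op T'), n • q' = Q.obj.map f.op q)
    (T : C) (k : P.obj.obj (op T)) (hk : n • k = 0) (q : Q.obj.obj (op T)) :
    g₁ φ σ' T k hk q = 0 := by
  obtain ⟨R, hR, hdiv⟩ := hQ T q
  refine separated_ab G hR fun T' f hf => ?_
  obtain ⟨q', hq'⟩ := hdiv f hf
  refine (g₁_map φ σ' f k hk q).trans (Eq.trans ?_ (map_zero (G.obj.map f.op).hom).symm)
  simp only [← hq']
  have hk' : n • P.obj.map f.op k = 0 := by rw [← map_zsmul, hk, map_zero]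
  let b : AddMonoidHom.ker (zsmulAddGroupHom (α := P.obj.obj (op T')) n) →+
      Q.obj.obj (op T') →+ G.obj.obj (op T') :=
    AddMonoidHom.mk' (fun a => AddMonoidHom.mk' (fun x => g₁ φ σ' T' a.1 a.2 x)
      (fun x y => g₁_addQ φ σ' T' a.1 a.2 x y)) (fun a a' => AddMonoidHom.ext fun x =>
      g₁_add φ σ' T' a.1 a'.1 a.2 a'.2 x)
  show b ⟨P.obj.map f.op k, hk'⟩ (n • q') = 0
  rw [map_zsmul, ← AddMonoidHom.zsmul_apply, ← map_zsmul,
    show n • (⟨P.obj.map f.op k, hk'⟩ : AddMonoidHom.ker (zsmulAddGroupHom (α := P.obj.obj (op T')) n)) = 0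
      from Subtype.ext hk', map_zero, AddMonoidHom.zero_apply]

/-- the obstruction in the second variable -/
def g₂ (T : C) (p : P.obj.obj (op T)) (l : Q.obj.obj (op T)) (hl : m • l = 0) :
    G.obj.obj (op T) :=
  (B.existsUnique_act T (s φ σ' T p 0) (s φ σ' T p l) (by rw [πP_s, πP_s])
    (by rw [πQ_s, πQ_s, hl, smul_zero])).choose

lemma act_g₂ (T : C) (p : P.obj.obj (op T)) (l : Q.obj.obj (op T)) (hl : m • l = 0) :
    B.act T (g₂ φ σ' T p l hl) (s φ σ' T p 0) = s φ σ' T p l :=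
  (B.existsUnique_act T (s φ σ' T p 0) (s φ σ' T p l) (by rw [πP_s, πP_s])
    (by rw [πQ_s, πQ_s, hl, smul_zero])).choose_spec.1

lemma g₂_eq {T : C} {p : P.obj.obj (op T)} {l : Q.obj.obj (op T)} (hl : m • l = 0)
    {g : G.obj.obj (op T)} (h : B.act T g (s φ σ' T p 0) = s φ σ' T p l) :
    g₂ φ σ' T p l hl = g :=
  ((B.existsUnique_act T (s φ σ' T p 0) (s φ σ' T p l) (by rw [πP_s, πP_s])
    (by rw [πQ_s, πQ_s, hl, smul_zero])).choose_spec.2 g h).symm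

lemma s_add_ker₂ (T : C) (p : P.obj.obj (op T)) (q l : Q.obj.obj (op T)) (hl : m • l = 0) :
    s φ σ' T p (q + l) = B.act T (g₂ φ σ' T p l hl) (s φ σ' T p q) := by
  rw [s_add₂, BiextPairing.add₂_congr B rfl (act_g₂ φ σ' T p l hl).symm, B.add₂_comm, B.add₂_act]
  congr 1
  · rw [B.add₂_comm, ← s_add₂, add_zero]
  all_goals rw [πP_s, πP_s]

lemma g₂_add (T : C) (p : P.obj.obj (op T)) (l l' : Q.obj.obj (op T)) (hl : m • l = 0)
    (hl' : m • l' = 0) :
    g₂ φ σ' T p (l + l') (by rw [smul_add, hl, hl', add_zero]) =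
      g₂ φ σ' T p l hl + g₂ φ σ' T p l' hl' := by
  refine g₂_eq φ σ' _ ?_
  rw [s_add_ker₂ φ σ' T p l l' hl', add_comm, B.add_act, act_g₂]

lemma g₂_addP (T : C) (p p' : P.obj.obj (op T)) (l : Q.obj.obj (op T)) (hl : m • l = 0) :
    g₂ φ σ' T (p + p') l hl = g₂ φ σ' T p l hl + g₂ φ σ' T p' l hl := by
  refine g₂_eq φ σ' _ ?_
  rw [s_add₁ φ σ' T p p' l, BiextPairing.add₁_congr B (act_g₂ φ σ' T p l hl).symm (act_g₂ φ σ' T p' l hl).symm,
    B.add₁_act, B.add₁_comm, B.add₁_act, B.add₁_comm, ← s_add₁, B.add_act]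
  all_goals first
    | rw [B.πQ_act, πQ_s, πQ_s]
    | rw [πQ_s, πQ_s]

lemma g₂_map {T T' : C} (f : T' ⟶ T) (p : P.obj.obj (op T)) (l : Q.obj.obj (op T)) (hl : m • l = 0) :
    G.obj.map f.op (g₂ φ σ' T p l hl) =
      g₂ φ σ' T' (P.obj.map f.op p) (Q.obj.map f.op l) (by rw [← map_zsmul, hl, map_zero]) := by
  refine (g₂_eq φ σ' _ ?_).symm
  rw [← s_map, ← act_g₂ φ σ' T p l hl, B.act_map, s_map, map_zero]

lemma g₂_zero (hP : ∀ T p, ∃ R ∈ J T, ∀ ⦃T' : C⦄ (f : T' ⟶ T), R f →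
    ∃ p' : P.obj.obj (op T'), m • p' = P.obj.map f.op p)
    (T : C) (p : P.obj.obj (op T)) (l : Q.obj.obj (op T)) (hl : m • l = 0) :
    g₂ φ σ' T p l hl = 0 := by
  obtain ⟨R, hR, hdiv⟩ := hP T p
  refine separated_ab G hR fun T' f hf => ?_
  obtain ⟨p', hp'⟩ := hdiv f hf
  refine (g₂_map φ σ' f p l hl).trans (Eq.trans ?_ (map_zero (G.obj.map f.op).hom).symm)
  simp only [← hp']
  have hl' : m • Q.obj.map f.op l = 0 := by rw [← map_zsmul, hl, map_zero]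
  let b : AddMonoidHom.ker (zsmulAddGroupHom (α := Q.obj.obj (op T')) m) →+
      P.obj.obj (op T') →+ G.obj.obj (op T') :=
    AddMonoidHom.mk' (fun a => AddMonoidHom.mk' (fun x => g₂ φ σ' T' x a.1 a.2)
      (fun x y => g₂_addP φ σ' T' x y a.1 a.2)) (fun a a' => AddMonoidHom.ext fun x =>
      g₂_add φ σ' T' x a.1 a'.1 a.2 a'.2)
  show b ⟨Q.obj.map f.op l, hl'⟩ (m • p') = 0
  rw [map_zsmul, ← AddMonoidHom.zsmul_apply, ← map_zsmul,
    show m • (⟨Q.obj.map f.op l, hl'⟩ : AddMonoidHom.ker (zsmulAddGroupHom (α := Q.obj.obj (op T')) m)) = 0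
      from Subtype.ext hl', map_zero, AddMonoidHom.zero_apply]

end Obstruction

variable (hPn : ∀ T p, ∃ R ∈ J T, ∀ ⦃T' : C⦄ (f : T' ⟶ T), R f →
    ∃ p' : P.obj.obj (op T'), n • p' = P.obj.map f.op p)
  (hPm : ∀ T p, ∃ R ∈ J T, ∀ ⦃T' : C⦄ (f : T' ⟶ T), R f →
    ∃ p' : P.obj.obj (op T'), m • p' = P.obj.map f.op p)
  (hQn : ∀ T q, ∃ R ∈ J T, ∀ ⦃T' : C⦄ (f : T' ⟶ T), R f →
    ∃ q' : Q.obj.obj (op T'), n • q' = Q.obj.map f.op q)
  (hQm : ∀ T q, ∃ R ∈ J T, ∀ ⦃T' : C⦄ (f : T' ⟶ T), R f →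
    ∃ q' : Q.obj.obj (op T'), m • q' = Q.obj.map f.op q)

include hPm hQn in
lemma s_congr (T : C) {p p' : P.obj.obj (op T)} {q q' : Q.obj.obj (op T)} (hp : n • p = n • p')
    (hq : m • q = m • q') : s φ σ' T p q = s φ σ' T p' q' := by
  have hk : n • (p - p') = 0 := by rw [smul_sub, hp, sub_self]
  have hl : m • (q - q') = 0 := by rw [smul_sub, hq, sub_self]
  rw [show p = p' + (p - p') by abel, s_add_ker₁ φ σ' T p' _ hk, g₁_zero φ σ' hQn, B.zero_act,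
    show q = q' + (q - q') by abel, s_add_ker₂ φ σ' T p' q' _ hl, g₂_zero φ σ' hPm, B.zero_act]

/-- the value of the descended splitting -/
def IsVal (T : C) (p : P.obj.obj (op T)) (q : Q.obj.obj (op T)) (e : B.E.obj.obj (op T)) : Prop :=
  ∀ ⦃T' : C⦄ (f : T' ⟶ T) (p' : P.obj.obj (op T')) (q' : Q.obj.obj (op T')),
    n • p' = P.obj.map f.op p → m • q' = Q.obj.map f.op q → B.E.obj.map f.op e = s φ σ' T' p' q'

include hPn hQm in
lemma exists_sieve (T : C) (p : P.obj.obj (op T)) (q : Q.obj.obj (op T)) :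
    ∃ R ∈ J T, ∀ ⦃T' : C⦄ (f : T' ⟶ T), R f → ∃ (p' : P.obj.obj (op T')) (q' : Q.obj.obj (op T')),
      n • p' = P.obj.map f.op p ∧ m • q' = Q.obj.map f.op q := by
  obtain ⟨R₁, hR₁, h₁⟩ := hPn T p
  obtain ⟨R₂, hR₂, h₂⟩ := hQm T q
  refine ⟨R₁ ⊓ R₂, J.intersection_covering hR₁ hR₂, fun T' f hf => ?_⟩
  obtain ⟨p', hp'⟩ := h₁ f hf.1
  obtain ⟨q', hq'⟩ := h₂ f hf.2
  exact ⟨p', q', hp', hq'⟩

include hPn hQm in
lemma isVal_unique {T : C} {p : P.obj.obj (op T)} {q : Q.obj.obj (op T)} {e e' : B.E.obj.obj (op T)}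
    (he : IsVal φ σ' T p q e) (he' : IsVal φ σ' T p q e') : e = e' := by
  obtain ⟨R, hR, h⟩ := exists_sieve hPn hQm T p q
  refine separated_type B.E hR fun T' f hf => ?_
  obtain ⟨p', q', hp', hq'⟩ := h f hf
  rw [he f p' q' hp' hq', he' f p' q' hp' hq']

include hPn hPm hQn hQm in
lemma exists_isVal (T : C) (p : P.obj.obj (op T)) (q : Q.obj.obj (op T)) :
    ∃ e, IsVal φ σ' T p q e := by
  obtain ⟨R, hR, h⟩ := exists_sieve hPn hQm T p q
  choose pf qf hpf hqf using h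
  let x : Presieve.FamilyOfElements B.E.obj R.arrows := fun T' f hf => s φ σ' T' (pf f hf) (qf f hf)
  have hx : x.Compatible := by
    intro Y₁ Y₂ Z a₁ a₂ f₁ f₂ h₁ h₂ w
    show B.E.obj.map a₁.op (s φ σ' Y₁ (pf f₁ h₁) (qf f₁ h₁)) = B.E.obj.map a₂.op (s φ σ' Y₂ (pf f₂ h₂) (qf f₂ h₂))
    rw [s_map, s_map]
    refine s_congr φ σ' hPm hQn Z ?_ ?_
    · rw [← map_zsmul, ← map_zsmul, hpf, hpf, ← ConcreteCategory.comp_apply, ← Functor.map_comp,
        ← ConcreteCategory.comp_apply, ← Functor.map_comp, ← op_comp, ← op_comp, w]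
    · rw [← map_zsmul, ← map_zsmul, hqf, hqf, ← ConcreteCategory.comp_apply, ← Functor.map_comp,
        ← ConcreteCategory.comp_apply, ← Functor.map_comp, ← op_comp, ← op_comp, w]
  obtain ⟨e, he, -⟩ := (((isSheaf_iff_isSheaf_of_type _ _).1 B.E.property) R hR) x hx
  refine ⟨e, fun T' f p' q' hp' hq' => separated_type B.E (J.pullback_stable f hR) fun T'' g hg => ?_⟩
  rw [s_map, ← ConcreteCategory.comp_apply, ← Functor.map_comp, ← op_comp, he _ hg]
  refine s_congr φ σ' hPm hQn T'' ?_ ?_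
  · rw [hpf, ← map_zsmul, hp', ← ConcreteCategory.comp_apply, ← Functor.map_comp, ← op_comp]
  · rw [hqf, ← map_zsmul, hq', ← ConcreteCategory.comp_apply, ← Functor.map_comp, ← op_comp]

include φ σ' hPn hPm hQn hQm in
theorem isTrivial : Biext.IsTrivial J B := by
  choose τ hτ using exists_isVal φ σ' hPn hPm hQn hQm
  have hP : ∀ T p q, B.πP T (τ T p q) = p := fun T p q => by
    obtain ⟨R, hR, h⟩ := exists_sieve hPn hQm T p q
    refine separated_ab P hR fun T' f hf => ?_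
    obtain ⟨p', q', hp', hq'⟩ := h f hf
    rw [← B.πP_map, hτ T p q f p' q' hp' hq', πP_s, hp']
  have hQ : ∀ T p q, B.πQ T (τ T p q) = q := fun T p q => by
    obtain ⟨R, hR, h⟩ := exists_sieve hPn hQm T p q
    refine separated_ab Q hR fun T' f hf => ?_
    obtain ⟨p', q', hp', hq'⟩ := h f hf
    rw [← B.πQ_map, hτ T p q f p' q' hp' hq', πQ_s, hq']
  refine ⟨{ σ := τ, πP_σ := hP, πQ_σ := hQ, σ_map := ?_, σ_add₁ := ?_, σ_add₂ := ?_ }⟩
  · intro T T' f p q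
    refine isVal_unique φ σ' hPn hQm ?_ (hτ _ _ _)
    intro T'' g p' q' hp' hq'
    rw [← ConcreteCategory.comp_apply, ← Functor.map_comp, ← op_comp]
    refine hτ T p q (g ≫ f) p' q' ?_ ?_
    · rw [hp', ← ConcreteCategory.comp_apply, ← Functor.map_comp, ← op_comp]
    · rw [hq', ← ConcreteCategory.comp_apply, ← Functor.map_comp, ← op_comp]
  · intro T p p' q
    refine isVal_unique φ σ' hPn hQm (hτ _ _ _) ?_
    intro T' f a b ha hb
    obtain ⟨R, hR, h⟩ := hPn T' (P.obj.map f.op p)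
    refine separated_type B.E hR fun T'' g hg => ?_
    obtain ⟨a', ha'⟩ := h g hg
    rw [← ConcreteCategory.comp_apply, ← Functor.map_comp, ← op_comp] at ha' ⊢
    rw [B.add₁_map, s_map]
    have hb' : m • Q.obj.map g.op b = Q.obj.map (g ≫ f).op q := by
      rw [← map_zsmul, hb, ← ConcreteCategory.comp_apply, ← Functor.map_comp, ← op_comp]
    have ha'' : n • (P.obj.map g.op a - a') = P.obj.map (g ≫ f).op p' := by
      rw [smul_sub, ← map_zsmul, ha, ← ConcreteCategory.comp_apply, ← Functor.map_comp, ← op_comp,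
        map_add, ha', add_sub_cancel_left]
    rw [BiextPairing.add₁_congr B (hτ T p q _ a' _ ha' hb') (hτ T p' q _ _ _ ha'' hb'), ← s_add₁,
      add_sub_cancel]
  · intro T p q q'
    refine isVal_unique φ σ' hPn hQm (hτ _ _ _) ?_
    intro T' f a b ha hb
    obtain ⟨R, hR, h⟩ := hQm T' (Q.obj.map f.op q)
    refine separated_type B.E hR fun T'' g hg => ?_
    obtain ⟨b', hb'⟩ := h g hg
    rw [← ConcreteCategory.comp_apply, ← Functor.map_comp, ← op_comp] at hb' ⊢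
    rw [B.add₂_map, s_map]
    have ha' : n • P.obj.map g.op a = P.obj.map (g ≫ f).op p := by
      rw [← map_zsmul, ha, ← ConcreteCategory.comp_apply, ← Functor.map_comp, ← op_comp]
    have hb'' : m • (Q.obj.map g.op b - b') = Q.obj.map (g ≫ f).op q' := by
      rw [smul_sub, ← map_zsmul, hb, ← ConcreteCategory.comp_apply, ← Functor.map_comp, ← op_comp,
        map_add, hb', add_sub_cancel_left]
    rw [BiextPairing.add₂_congr B (hτ T p q _ _ b' ha' hb') (hτ T p q' _ _ _ ha' hb''), ← s_add₂,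
      add_sub_cancel]

end Groth.Agent.AbSch51.BiextDescent
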