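import Groth.Agent.AbSch51.Collapse
import Groth.Agent.AbSch51.ConnFibres

/-!
There are no nonzero biadditive morphisms out of a product of abelian schemes.
-/

set_option autoImplicit false
set_option linter.style.haveILetI false

universe u

open CategoryTheory CategoryTheory.Limits MonoidalCategory CartesianMonoidalCategory MonObj GrpObj
  AlgebraicGeometry

noncomputable section

namespace Groth.Agent.AbSch51.Bilinear

variable {S : Scheme.{u}} {A B C : Over S} [GrpObj A] [IsProper A.hom] [Smooth A.hom]
  [GeometricallyConnected A.hom] [GrpObj B] [IsProper B.hom] [Smooth B.hom]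
  [GeometricallyConnected B.hom] [GrpObj C] [IsSeparated C.hom]

/-- A morphism from a product of abelian schemes trivial on both axes is trivial. -/
theorem eq_one (β : A ⊗ B ⟶ C) (h₁ : lift (fst A B) (1 : A ⊗ B ⟶ B) ≫ β = 1)
    (h₂ : lift (1 : A ⊗ B ⟶ A) (snd A B) ≫ β = 1) : β = 1 := by
  have : IsProper (A ⊗ B).hom := inferInstanceAs (IsProper (pullback.fst A.hom B.hom ≫ A.hom))
  have : Smooth (A ⊗ B).hom := inferInstanceAs (Smooth (pullback.fst A.hom B.hom ≫ A.hom))
  have := ConnFibres.geometricallyConnected_tensor A B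
  have := geometricallyReduced_of_smooth (A ⊗ B).hom
  have h0 : η[A ⊗ B] ≫ β = η[C] := by
    have e : η[A ⊗ B] ≫ lift (fst A B) (1 : A ⊗ B ⟶ B) = η[A ⊗ B] := by
      refine CartesianMonoidalCategory.hom_ext _ _ ?_ ?_
      · rw [Category.assoc, lift_fst]
      · rw [Category.assoc, lift_snd, MonObj.comp_one, IsMonHom.one_hom (f := snd A B), MonObj.one_eq_one]
    rw [← e, Category.assoc, h₁, MonObj.comp_one, MonObj.one_eq_one]
  have := Collapse.isMonHom β h0
  have e : (lift (fst A B) (1 : A ⊗ B ⟶ B)) * lift (1 : A ⊗ B ⟶ A) (snd A B) = 𝟙 (A ⊗ B) := by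
    refine CartesianMonoidalCategory.hom_ext _ _ ?_ ?_
    · rw [MonObj.mul_comp, lift_fst, lift_fst, _root_.mul_one, Category.id_comp]
    · rw [MonObj.mul_comp, lift_snd, lift_snd, _root_.one_mul, Category.id_comp]
  have := congrArg (· ≫ β) e
  rw [MonObj.mul_comp, h₁, h₂, _root_.one_mul, Category.id_comp] at this
  exact this.symm

end Groth.Agent.AbSch51.Bilinear
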