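import Groth.Agent.AbSch51.ConstFun
import Groth.Agent.AbSch51.Fibre
import Groth.Agent.AbVarLib.Pointed

/-!
Rigidity over an arbitrary base: morphisms collapsing the fibres factor through the base.
-/

set_option autoImplicit false
set_option linter.style.haveILetI false

universe u

open CategoryTheory CategoryTheory.Limits MonoidalCategory CartesianMonoidalCategory MonObj GrpObj
  AlgebraicGeometry TopologicalSpace

noncomputable section

namespace Groth.Agent.AbSch51.Collapse

/-- A morphism constant on the fibres of a family with only constant functions factors through the base. -/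
theorem eq_of_collapse {X S Y : Scheme.{u}} (π : X ⟶ S) [IsProper π] [Flat π]
    [LocallyOfFinitePresentation π] [GeometricallyConnected π] [GeometricallyReduced π] (t : S ⟶ X)
    (ht : t ≫ π = 𝟙 S) (f : X ⟶ Y) (h : ∀ x, f x = f (t (π x))) : f = π ≫ t ≫ f := by
  have hloc : ∀ s : S, ∃ (U : S.Opens), s ∈ U ∧ ∃ V : Y.Opens, IsAffineOpen V ∧ π ⁻¹ᵁ U ≤ f ⁻¹ᵁ V := by
    intro s
    obtain ⟨V, hV, hsV, -⟩ := exists_isAffineOpen_mem_and_subset (U := (⊤ : Y.Opens)) (x := f (t s)) trivial
    refine ⟨⟨(π '' (f ⁻¹ᵁ V : Set X)ᶜ)ᶜ, (π.isClosedMap _ (f ⁻¹ᵁ V).2.isClosed_compl).isOpen_compl⟩,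
      ?_, V, hV, fun x hx => ?_⟩
    · rintro ⟨x, hx, rfl⟩
      exact hx (show f x ∈ V by rw [h x]; exact hsV)
    · by_contra hxV
      exact hx ⟨x, hxV, rfl⟩
  choose U hsU V hV hle using hloc
  have hU : ⨆ s, π ⁻¹ᵁ U s = ⊤ := eq_top_iff.2 fun x _ => Opens.mem_iSup.2 ⟨π x, hsU _⟩
  refine (X.openCoverOfIsOpenCover (fun s => π ⁻¹ᵁ U s) hU).hom_ext _ _ fun s => ?_
  show (π ⁻¹ᵁ U s).ι ≫ f = (π ⁻¹ᵁ U s).ι ≫ π ≫ t ≫ f
  have hrt : U s ≤ t ⁻¹ᵁ f ⁻¹ᵁ V s := fun z hz => hle s (show π (t z) ∈ U s by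
    rw [← Scheme.Hom.comp_apply, ht]; exact hz)
  let φ : (π ⁻¹ᵁ U s).toScheme ⟶ (V s).toScheme := f.resLE (V s) (π ⁻¹ᵁ U s) (hle s)
  let ψ : (U s).toScheme ⟶ (V s).toScheme := (t ≫ f).resLE (V s) (U s) hrt
  have key : φ = (π ∣_ U s) ≫ ψ := by
    have : IsAffine (V s).toScheme := hV s
    refine ext_of_isAffine ?_
    have hb : Function.Bijective (π ∣_ U s).appTop := by
      rw [Scheme.Hom.appTop, morphismRestrict_app]
      exact (ConcreteCategory.bijective_of_isIso (X.presheaf.map _)).comp (ConstFun.bijective_app π _)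
    let τ : (U s).toScheme ⟶ (π ⁻¹ᵁ U s).toScheme := t.resLE (π ⁻¹ᵁ U s) (U s) (fun z hz => by
      show π (t z) ∈ U s
      rw [← Scheme.Hom.comp_apply, ht]; exact hz)
    have hτ : τ ≫ (π ∣_ U s) = 𝟙 _ := by
      rw [← cancel_mono (U s).ι]
      simp [τ, ht]
    have hψ : ψ = τ ≫ φ := by
      rw [← cancel_mono (V s).ι]
      simp [τ, φ, ψ]
    ext a
    obtain ⟨b, hb'⟩ := hb.2 (φ.appTop a)
    have e1 : τ.appTop (φ.appTop a) = b := by
      rw [← hb', ← ConcreteCategory.comp_apply, ← Scheme.Hom.comp_appTop, hτ]; rfl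
    rw [← hb', hψ, Scheme.Hom.comp_appTop, Scheme.Hom.comp_appTop]
    show (π ∣_ U s).appTop b = (π ∣_ U s).appTop (τ.appTop (φ.appTop a))
    rw [e1]
  have := congrArg (· ≫ (V s).ι) key
  simpa [φ, ψ] using this

variable {S : Scheme.{u}} {X Y : Over S} [GrpObj X] [GrpObj Y]
  [IsProper X.hom] [Flat X.hom] [LocallyOfFinitePresentation X.hom] [GeometricallyConnected X.hom]
  [GeometricallyReduced X.hom] [IsSeparated Y.hom]

theorem isMonHom_fib (f : X ⟶ Y) (hf : η[X] ≫ f = η[Y]) (s : S) :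
    letI : GrpObj (fib X s) := Functor.grpObjObj
    letI : GrpObj (fib Y s) := Functor.grpObjObj
    IsMonHom (fibMap f s) := by
  letI : GrpObj (fib X s) := Functor.grpObjObj
  letI : GrpObj (fib Y s) := Functor.grpObjObj
  have : Smooth X.hom := S7795.result X
  have := AbVarLib.Basics.geometricallyIntegral (fib X s)
  have : IsSeparated (fib Y s).hom := inferInstanceAs (IsSeparated (pullback.snd Y.hom (S.fromSpecResidueField s)))
  refine AbVarLib.Pointed.isMonHom (fibMap f s) ?_
  simp only [Functor.obj.η_def, Category.assoc, ← Functor.map_comp, hf]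

/-- A morphism of pointed proper families to a group scheme is a homomorphism. -/
theorem isMonHom (f : X ⟶ Y) (hf : η[X] ≫ f = η[Y]) : IsMonHom f := by
  let d : X ⊗ X ⟶ Y := ((fst X X * snd X X) ≫ f) * (snd X X ≫ f)⁻¹ * (fst X X ≫ f)⁻¹
  have hfib : ∀ s : S, fibMap d s = fibMap (1 : X ⊗ X ⟶ Y) s := by
    intro s
    letI : GrpObj (fib X s) := Functor.grpObjObj
    letI : GrpObj (fib Y s) := Functor.grpObjObj
    have := isMonHom_fib f hf s
    let F := Over.pullback (S.fromSpecResidueField s)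
    let hh := Functor.homMonoidHom (X := X ⊗ X) (M := Y) F
    let hX := Functor.homMonoidHom (X := X ⊗ X) (M := X) F
    show hh d = hh 1
    rw [map_one, map_mul, map_mul, map_inv, map_inv]
    have e : hh ((fst X X * snd X X) ≫ f) = hh (fst X X ≫ f) * hh (snd X X ≫ f) := by
      show F.map ((fst X X * snd X X) ≫ f) = F.map (fst X X ≫ f) * F.map (snd X X ≫ f)
      simp only [Functor.map_comp]
      rw [← MonObj.mul_comp]
      exact congrArg (· ≫ fibMap f s) (map_mul hX (fst X X) (snd X X))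
    rw [e, mul_inv_cancel_right, mul_inv_cancel]
  let t : X ⟶ X ⊗ X := lift (𝟙 X) (toUnit X ≫ η[X])
  have hone : toUnit X ≫ η[X] ≫ f = (1 : X ⟶ Y) := by rw [hf, Hom.one_def]
  have htd : t ≫ d = 1 := by
    simp only [d, MonObj.comp_mul, GrpObj.comp_inv, t]
    rw [← Category.assoc, MonObj.comp_mul, lift_fst, lift_snd, ← Hom.one_def, _root_.mul_one,
      ← Category.assoc, lift_snd, show (1 : X ⟶ X) ≫ f = 1 by rw [Hom.one_def, Category.assoc, hone],
      inv_one, _root_.mul_one, lift_fst_assoc, mul_inv_cancel]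
  have hpt : ∀ z : (X ⊗ X).left, d.left z = (1 : X ⊗ X ⟶ Y).left z := fun z => by
    obtain ⟨s, hs⟩ : ∃ s, (X ⊗ X).hom z = s := ⟨_, rfl⟩
    obtain ⟨w, hw⟩ : z ∈ Set.range (pullback.fst (X ⊗ X).hom (S.fromSpecResidueField s)) := by
      show z ∈ Set.range ((X ⊗ X).hom.fiberι s)
      rw [Scheme.Hom.range_fiberι]; exact hs
    have h1 : ∀ g : X ⊗ X ⟶ Y, pullback.fst (X ⊗ X).hom (S.fromSpecResidueField s) ≫ g.left =
        (fibMap g s).left ≫ pullback.fst Y.hom (S.fromSpecResidueField s) :=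
      fun g => (pullback.lift_fst _ _ _).symm
    rw [← hw, ← Scheme.Hom.comp_apply, ← Scheme.Hom.comp_apply, h1, h1, hfib]
  have : GeometricallyConnected (fst X X).left :=
    MorphismProperty.pullback_fst (P := @GeometricallyConnected) X.hom X.hom inferInstance
  have : GeometricallyReduced (fst X X).left :=
    MorphismProperty.pullback_fst (P := @GeometricallyReduced) X.hom X.hom inferInstance
  have : IsProper (fst X X).left := inferInstanceAs (IsProper (pullback.fst X.hom X.hom))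
  have : Flat (fst X X).left := inferInstanceAs (Flat (pullback.fst X.hom X.hom))
  have : LocallyOfFinitePresentation (fst X X).left :=
    inferInstanceAs (LocallyOfFinitePresentation (pullback.fst X.hom X.hom))
  have hd : d = 1 := by
    apply Over.OverMorphism.ext
    rw [eq_of_collapse (fst X X).left t.left (by rw [← Over.comp_left, lift_fst]; rfl) d.left fun z => ?_]
    · rw [← Over.comp_left, ← Over.comp_left, htd, MonObj.comp_one]
    · show d.left z = (fst X X ≫ t ≫ d).left z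
      rw [htd, MonObj.comp_one]
      exact hpt z
  refine ⟨hf, ?_⟩
  rw [MonObj.mul_eq_mul, MonObj.mul_eq_mul, MonObj.comp_mul, tensorHom_fst, tensorHom_snd]
  rw [mul_inv_eq_one, mul_inv_eq_iff_eq_mul] at hd
  exact hd

end Groth.Agent.AbSch51.Collapse
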