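import Mathlib.CategoryTheory.Monoidal.Cartesian.Grp
import Mathlib.CategoryTheory.Monoidal.Cartesian.Over

/-!
Group objects: commutativity from inversion being a homomorphism; equality of group structures.
-/

set_option autoImplicit false
universe v u

open CategoryTheory MonoidalCategory CartesianMonoidalCategory MonObj GrpObj

namespace Groth.Agent.AbSch51.CommOfInv

variable {C : Type u} [Category.{v} C] [CartesianMonoidalCategory C] [BraidedCategory C]

theorem isCommMonObj (A : C) [GrpObj A] [IsMonHom ι[A]] : IsCommMonObj A := by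
  refine isCommMonObj_iff_isMulCommutative _ |>.mpr fun X => ⟨⟨fun a b => ?_⟩⟩
  have h : ∀ c : X ⟶ A, c ≫ ι[A] = c⁻¹ := fun c => by
    rw [GrpObj.inv_eq_inv, GrpObj.comp_inv, Category.comp_id]
  have := MonObj.mul_comp a b ι[A]
  rw [h, h, h, _root_.mul_inv_rev] at this
  exact inv_injective (by rw [_root_.mul_inv_rev, _root_.mul_inv_rev]; exact this)

omit [BraidedCategory C] in
theorem grpObj_ext {X : C} (h₁ h₂ : GrpObj X) (h : @IsMonHom _ _ _ X X h₁.toMonObj h₂.toMonObj (𝟙 X)) :
    h₁ = h₂ := by
  have hm : h₁.mul = h₂.mul := by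
    have := @IsMonHom.mul_hom _ _ _ X X h₁.toMonObj h₂.toMonObj (𝟙 X) h
    simpa using this
  apply GrpObj.ext
  refine MonObj.ext _ _ ?_
  exact hm

end Groth.Agent.AbSch51.CommOfInv
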