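import Groth.Agent.AbSch51.CubeRel
import Groth.Agent.CBC.SeesawConn
import Groth.Agent.AbRigid.Rigid

/-!
The relative theorem of the cube for three factors: triviality on two slices and on one fibre gives triviality over
an open and closed neighbourhood.
-/

set_option autoImplicit false
set_option linter.style.haveILetI false
universe u

open CategoryTheory CategoryTheory.Limits AlgebraicGeometry

noncomputable section

namespace Groth.Agent.AbSch51.CubeClopen

/-- Composition of geometrically integral morphisms. -/
theorem geometricallyIntegral_comp {A B S : Scheme.{u}} (a : A ⟶ B) (b : B ⟶ S) [GeometricallyIntegral a] [Flat a]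
    [UniversallyOpen a] [GeometricallyIntegral b] [LocallyOfFiniteType b] : GeometricallyIntegral (a ≫ b) := by
  refine ⟨fun K _ y C fst snd h => ?_⟩
  have : IsIntegral (pullback b y) :=
    GeometricallyIntegral.geometrically_isIntegral y _ _ (IsPullback.of_hasPullback b y)
  have : IsLocallyNoetherian (pullback b y) := LocallyOfFiniteType.isLocallyNoetherian (pullback.snd b y)
  have : IsIntegral (pullback a (pullback.fst b y)) := inferInstance
  have h2 : IsPullback (pullback.fst a (pullback.fst b y)) (pullback.snd a (pullback.fst b y) ≫ pullback.snd b y)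
      (a ≫ b) y := (IsPullback.of_hasPullback a (pullback.fst b y)).paste_vert (IsPullback.of_hasPullback b y)
  let e := h.isoIsPullback _ _ h2
  have : Nonempty C := ⟨e.inv (Classical.arbitrary _)⟩
  exact @isIntegral_of_isOpenImmersion _ _ e.hom _ _ _

set_option maxHeartbeats 1000000 in
theorem exists_clopen {S X Y Z : Scheme.{u}} (pX : X ⟶ S) (pY : Y ⟶ S) (pZ : Z ⟶ S)
    [Flat pX] [IsProper pX] [LocallyOfFinitePresentation pX] [GeometricallyIntegral pX]
    [Flat pY] [IsProper pY] [LocallyOfFinitePresentation pY] [GeometricallyIntegral pY]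
    (x : S ⟶ X) (hx : x ≫ pX = 𝟙 S) (y : S ⟶ Y) (hy : y ≫ pY = 𝟙 S)
    (L : (pullback (pullback.fst pX pY ≫ pX) pZ).Modules) (hL : PicF.IsInvertible L)
    (sx : pullback pY pZ ⟶ pullback (pullback.fst pX pY ≫ pX) pZ)
    (sy : pullback pX pZ ⟶ pullback (pullback.fst pX pY ≫ pX) pZ)
    (h₁ : sx ≫ pullback.fst _ _ ≫ pullback.fst pX pY = pullback.fst pY pZ ≫ pY ≫ x)
    (h₁' : sx ≫ pullback.fst _ _ ≫ pullback.snd pX pY = pullback.fst pY pZ)
    (h₁'' : sx ≫ pullback.snd _ _ = pullback.snd pY pZ)
    (h₂ : sy ≫ pullback.fst _ _ ≫ pullback.fst pX pY = pullback.fst pX pZ)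
    (h₂' : sy ≫ pullback.fst _ _ ≫ pullback.snd pX pY = pullback.fst pX pZ ≫ pX ≫ y)
    (h₂'' : sy ≫ pullback.snd _ _ = pullback.snd pX pZ)
    (hsx : Nonempty ((Scheme.Modules.pullback sx).obj L ≅ Coh.structureModule _))
    (hsy : Nonempty ((Scheme.Modules.pullback sy).obj L ≅ Coh.structureModule _))
    (z : Z)
    (hz : Nonempty ((Scheme.Modules.pullback ((pullback.snd (pullback.fst pX pY ≫ pX) pZ).fiberι z)).obj L ≅
      Coh.structureModule _)) :
    ∃ U : Z.Opens, IsClosed (U : Set Z) ∧ z ∈ U ∧
      ∀ {T : Scheme.{u}} (t : T ⟶ pullback (pullback.fst pX pY ≫ pX) pZ),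
        (∀ p, (t ≫ pullback.snd (pullback.fst pX pY ≫ pX) pZ) p ∈ U) →
          Nonempty ((Scheme.Modules.pullback t).obj L ≅ Coh.structureModule T) := by
  have := AbRigid.Rigid.geometricallyConnected_of_integral pX
  have := AbRigid.Rigid.geometricallyConnected_of_integral pY
  let f := pullback.snd pX pZ
  let g := pullback.snd pY pZ
  let q := pullback.snd f g ≫ g
  have : GeometricallyIntegral q := geometricallyIntegral_comp _ _
  have : GeometricallyConnected q := AbRigid.Rigid.geometricallyConnected_of_integral q
  let m : pullback f g ⟶ pullback (pullback.fst pX pY ≫ pX) pZ :=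
    pullback.lift
      (pullback.lift (pullback.fst f g ≫ pullback.fst pX pZ) (pullback.snd f g ≫ pullback.fst pY pZ)
        (by rw [Category.assoc, Category.assoc, pullback.condition, pullback.condition, ← Category.assoc,
          pullback.condition, Category.assoc]))
      q
      (by rw [pullback.lift_fst_assoc, Category.assoc, pullback.condition, ← Category.assoc, pullback.condition,
        Category.assoc])
  let j : pullback (pullback.fst pX pY ≫ pX) pZ ⟶ pullback f g :=
    pullback.lift
      (pullback.lift (pullback.fst _ _ ≫ pullback.fst pX pY) (pullback.snd _ _)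
        (by rw [Category.assoc]; exact pullback.condition))
      (pullback.lift (pullback.fst _ _ ≫ pullback.snd pX pY) (pullback.snd _ _)
        (by
          rw [Category.assoc]
          exact (congrArg (pullback.fst (pullback.fst pX pY ≫ pX) pZ ≫ ·) pullback.condition.symm).trans pullback.condition))
      (by rw [pullback.lift_snd, pullback.lift_snd])
  have hjm : j ≫ m = 𝟙 _ := by
    apply pullback.hom_ext
    · apply pullback.hom_ext <;>
        simp only [j, m, Category.assoc, pullback.lift_fst, pullback.lift_snd, pullback.lift_fst_assoc,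
          pullback.lift_snd_assoc, Category.id_comp]
    · simp only [j, m, q, f, g, Category.assoc, pullback.lift_snd, pullback.lift_snd_assoc, Category.id_comp]
  have hjq : j ≫ q = pullback.snd _ _ := by
    simp only [j, q, g, pullback.lift_snd_assoc, pullback.lift_snd]
  let xZ : Z ⟶ pullback pX pZ :=
    pullback.lift (pZ ≫ x) (𝟙 Z) (by rw [Category.assoc, hx, Category.comp_id, Category.id_comp])
  let yZ : Z ⟶ pullback pY pZ :=
    pullback.lift (pZ ≫ y) (𝟙 Z) (by rw [Category.assoc, hy, Category.comp_id, Category.id_comp])
  let L' := (Scheme.Modules.pullback m).obj L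
  have hL' : PicF.IsInvertible L' := PicLoc.isInvertible_pullback m hL
  have hs : CubeRel.Slices f g xZ (pullback.lift_snd _ _ _) yZ (pullback.lift_snd _ _ _) L' := by
    constructor
    · obtain ⟨e⟩ := CubeRel.trivial_comp (a := 𝟙 _) (b := sx) (c := pullback.lift (g ≫ xZ) (𝟙 _)
          (by rw [Category.assoc, pullback.lift_snd, Category.comp_id, Category.id_comp]) ≫ m) (by
        rw [Category.id_comp]
        apply pullback.hom_ext
        · apply pullback.hom_ext
          · simp only [m, xZ, f, g, Category.assoc, pullback.lift_fst, pullback.lift_fst_assoc]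
            rw [h₁, ← Category.assoc, ← Category.assoc, ← pullback.condition]
          · simp only [m, xZ, f, g, Category.assoc, pullback.lift_fst, pullback.lift_snd, pullback.lift_snd_assoc,
              pullback.lift_fst_assoc, Category.id_comp]
            exact h₁'
        · simp only [m, q, f, g, Category.assoc, pullback.lift_snd, pullback.lift_snd_assoc, Category.id_comp]
          exact h₁'') L hsx
      exact ⟨(Scheme.Modules.pullbackComp _ _).app L ≪≫ e⟩
    · obtain ⟨e⟩ := CubeRel.trivial_comp (a := 𝟙 _) (b := sy) (c := pullback.lift (𝟙 _) (f ≫ yZ)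
          (by rw [Category.assoc, pullback.lift_snd, Category.comp_id, Category.id_comp]) ≫ m) (by
        rw [Category.id_comp]
        apply pullback.hom_ext
        · apply pullback.hom_ext
          · simp only [m, yZ, f, g, Category.assoc, pullback.lift_fst, pullback.lift_fst_assoc, Category.id_comp]
            exact h₂
          · simp only [m, yZ, f, g, Category.assoc, pullback.lift_fst, pullback.lift_snd, pullback.lift_snd_assoc,
              pullback.lift_fst_assoc]
            rw [h₂', ← Category.assoc, ← Category.assoc, ← pullback.condition]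
        · simp only [m, q, yZ, f, g, Category.assoc, pullback.lift_snd, pullback.lift_snd_assoc, Category.comp_id]
          exact h₂'') L hsy
      exact ⟨(Scheme.Modules.pullbackComp _ _).app L ≪≫ e⟩
  obtain ⟨U, hU, htriv⟩ := CubeRel.exists_open_trivial hL' hs
  refine ⟨U, ?_, (hU z).mpr ?_, fun {T} t ht => ?_⟩
  · have : (U : Set Z) = {p : Z | Nonempty (CohIII.fiberMod q L' p ≅ Coh.structureModule (q.fiber p))} :=
      Set.ext fun p => hU p
    rw [this]
    exact CBC.SeesawConn.isClosed_trivial q (fun p => inferInstance) hL'
  · let a : q.fiber z ⟶ (pullback.snd (pullback.fst pX pY ≫ pX) pZ).fiber z :=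
      pullback.lift (pullback.fst q (Z.fromSpecResidueField z) ≫ m) (pullback.snd _ _)
        (by rw [Category.assoc, show m ≫ pullback.snd _ _ = q from pullback.lift_snd _ _ _]; exact pullback.condition)
    obtain ⟨e⟩ := CubeRel.trivial_comp (a := a) (c := q.fiberι z ≫ m) (pullback.lift_fst _ _ _) L hz
    exact ⟨(Scheme.Modules.pullbackComp _ _).app L ≪≫ e⟩
  · obtain ⟨e⟩ := htriv (t ≫ j) (by rw [Category.assoc, hjq]; exact ht)
    exact ⟨(Scheme.Modules.pullbackCongr (show t = (t ≫ j) ≫ m by rw [Category.assoc, hjm, Category.comp_id])).app L ≪≫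
      ((Scheme.Modules.pullbackComp _ _).app L).symm ≪≫ e⟩

end Groth.Agent.AbSch51.CubeClopen
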