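import Groth.Agent.AbSch51.CubeRel
import Groth.Agent.AbSch51.ConnFibres
import Groth.Agent.Cube.Main
import Groth.Agent.S7795

/-!
The theorem of the cube for abelian schemes over any base, as an identity of classes.
-/

set_option autoImplicit false
set_option linter.style.haveILetI false
universe u

open CategoryTheory CategoryTheory.Limits MonoidalCategory CartesianMonoidalCategory MonObj AlgebraicGeometry

noncomputable section

namespace Groth.Agent.AbSch51.CubeCls

open scoped Groth.Agent.PicLaw
open PicLaw.Mumford (op op_comp)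

theorem pl_cls_eq_one {Y Z : Scheme.{u}} (f : Y ⟶ Z) {L : Z.Modules} (hL : PicF.IsInvertible L) :
    PicLaw.pl f (PicGrp.cls L hL) = 1 ↔
      Nonempty ((Scheme.Modules.pullback f).obj L ≅ Coh.structureModule Y) := by
  rw [← PicLaw.cls_pullback f hL]
  exact PicGrp.cls_eq_one_iff _

variable {S : Scheme.{u}} {X : Over S} [GrpObj X]

theorem op_one (l : PicLoc.PicSet X.left) {V : Over S} : op (1 : V ⟶ X) l = op (toUnit V) (op η[X] l) := by
  rw [Hom.one_def, op_comp]

/-- The cube class over a base. -/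
def cube (l : PicLoc.PicSet X.left) {V : Over S} (f g h : V ⟶ X) : PicLoc.PicSet V.left :=
  op (f * g * h) l * op f l * op g l * op h l /
    (op (f * g) l * op (f * h) l * op (g * h) l * op (1 : V ⟶ X) l)

theorem op_cube (l : PicLoc.PicSet X.left) {V W : Over S} (p : W ⟶ V) (f g h : V ⟶ X) :
    op p (cube l f g h) = cube l (p ≫ f) (p ≫ g) (p ≫ h) := by
  simp only [cube, map_div, map_mul, ← op_comp, MonObj.comp_mul, MonObj.comp_one]

theorem cube_one_left (l : PicLoc.PicSet X.left) {V : Over S} (g h : V ⟶ X) : cube l 1 g h = 1 := by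
  rw [cube, div_eq_one]
  simp only [_root_.one_mul]
  ac_rfl

theorem cube_one_mid_right (l : PicLoc.PicSet X.left) {V : Over S} (f : V ⟶ X) : cube l f 1 1 = 1 := by
  rw [cube, div_eq_one]
  simp only [_root_.mul_one]

/-- The relation of the cube on a fibre. -/
theorem fibre_cube [IsProper X.hom] [Smooth X.hom] [GeometricallyConnected X.hom]
    (l : PicLoc.PicSet X.left) {T : Over S} (f g h : T ⟶ X) (s : S) :
    PicLaw.pl (pullback.fst T.hom (S.fromSpecResidueField s)) (cube l f g h) = 1 := by
  let r := S.fromSpecResidueField s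
  let F := Over.pullback r
  let A := fib X s
  letI : GrpObj A := Functor.grpObjObj
  have hA := AbVarLib.Basics.geometricallyIntegral A
  let lA : PicLoc.PicSet A.left := PicLaw.pl (pullback.fst X.hom r) l
  have key : ∀ m : T ⟶ X, PicLaw.pl (pullback.fst T.hom r) (op m l) = op (F.map m) lA := fun m => by
    show _ = PicLaw.pl (F.map m).left (PicLaw.pl (pullback.fst X.hom r) l)
    rw [← PicLaw.pl_comp, ← PicLaw.pl_comp]
    exact PicLaw.pl_congr (pullback.lift_fst _ _ _).symm _
  have h1 : op (F.map (1 : T ⟶ X)) lA = 1 := by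
    rw [Functor.map_one]
    exact AbVarLib.CubeCons.op_one lA
  have hc := AbVarLib.CubeCons.cube_rel (Cube.cubeHyp A) lA (F.map f) (F.map g) (F.map h)
  rw [← Functor.map_mul F f g, ← Functor.map_mul F f h, ← Functor.map_mul F g h, ← Functor.map_mul F (f * g) h] at hc
  show PicLaw.pl (pullback.fst T.hom r) (cube l f g h) = 1
  simp only [cube, map_div, map_mul, key, h1, _root_.mul_one]
  exact div_eq_one.mpr hc

set_option maxHeartbeats 1000000 in
/-- **The theorem of the cube.** -/
theorem cube_eq_one [IsProper X.hom] [Flat X.hom] [LocallyOfFinitePresentation X.hom]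
    [GeometricallyReduced X.hom] [GeometricallyConnected X.hom]
    (l : PicLoc.PicSet X.left) {V : Over S} (f g h : V ⟶ X) : cube l f g h = 1 := by
  have hsm : Smooth X.hom := S7795.result X
  have : IsProper (X ⊗ X).hom := show IsProper (pullback.fst X.hom X.hom ≫ X.hom) from inferInstance
  have hsW : Smooth (X ⊗ X).hom := show Smooth (pullback.fst X.hom X.hom ≫ X.hom) from inferInstance
  have : Flat (X ⊗ X).hom := show Flat (pullback.fst X.hom X.hom ≫ X.hom) from inferInstance
  have : LocallyOfFinitePresentation (X ⊗ X).hom :=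
    show LocallyOfFinitePresentation (pullback.fst X.hom X.hom ≫ X.hom) from inferInstance
  have hcW : GeometricallyConnected (X ⊗ X).hom := ConnFibres.geometricallyConnected_tensor X X
  have : GeometricallyReduced (X ⊗ X).hom := geometricallyReduced_of_smooth (X ⊗ X).hom
  have hP : pullback.snd X.hom (X ⊗ X).hom ≫ (X ⊗ X).hom = (X ⊗ (X ⊗ X)).hom := pullback.condition.symm
  have hsP : Smooth (pullback.snd X.hom (X ⊗ X).hom ≫ (X ⊗ X).hom) := inferInstance
  have : GeometricallyConnected (pullback.snd X.hom (X ⊗ X).hom ≫ (X ⊗ X).hom) := by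
    rw [hP]; exact ConnFibres.geometricallyConnected_tensor X (X ⊗ X)
  have : GeometricallyReduced (pullback.snd X.hom (X ⊗ X).hom ≫ (X ⊗ X).hom) := geometricallyReduced_of_smooth _
  let p1 : (X ⊗ (X ⊗ X)) ⟶ X := fst X (X ⊗ X)
  let p2 : (X ⊗ (X ⊗ X)) ⟶ X := snd X (X ⊗ X) ≫ fst X X
  let p3 : (X ⊗ (X ⊗ X)) ⟶ X := snd X (X ⊗ X) ≫ snd X X
  suffices hu : cube l p1 p2 p3 = 1 by
    have := congrArg (op (lift f (lift g h))) hu
    rw [op_cube, map_one] at this
    simpa only [p1, p2, p3, lift_fst, lift_snd_assoc, lift_snd] using this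
  obtain ⟨C, hC, hCc⟩ := PicLaw.exists_cls_eq (cube l p1 p2 p3)
  have hsl : CubeRel.Slices X.hom (X ⊗ X).hom η[X].left (Over.w η[X]) (lift η[X] η[X]).left
      (Over.w (lift η[X] η[X])) C := by
    constructor
    · refine (pl_cls_eq_one _ hC).mp ?_
      rw [PicLaw.pl_congr (g := (lift (toUnit (X ⊗ X) ≫ η[X]) (𝟙 (X ⊗ X))).left) (by
        apply pullback.hom_ext
        · rw [pullback.lift_fst]
          exact (congrArg CommaMorphism.left (lift_fst (toUnit (X ⊗ X) ≫ η[X]) (𝟙 (X ⊗ X)))).symm
        · rw [pullback.lift_snd]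
          exact (congrArg CommaMorphism.left (lift_snd (toUnit (X ⊗ X) ≫ η[X]) (𝟙 (X ⊗ X)))).symm), ← hCc]
      show op _ (cube l p1 p2 p3) = 1
      rw [op_cube]
      simp only [p1, p2, p3, lift_fst, lift_snd_assoc, ← Hom.one_def]
      exact cube_one_left l _ _
    · refine (pl_cls_eq_one _ hC).mp ?_
      rw [PicLaw.pl_congr (g := (lift (𝟙 X) (toUnit X ≫ lift η[X] η[X])).left) (by
        apply pullback.hom_ext
        · rw [pullback.lift_fst]
          exact (congrArg CommaMorphism.left (lift_fst (𝟙 X) (toUnit X ≫ lift η[X] η[X]))).symm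
        · rw [pullback.lift_snd]
          exact (congrArg CommaMorphism.left (lift_snd (𝟙 X) (toUnit X ≫ lift η[X] η[X]))).symm), ← hCc]
      show op _ (cube l p1 p2 p3) = 1
      rw [op_cube]
      simp only [p1, p2, p3, lift_fst, lift_snd_assoc, Category.assoc, lift_snd, ← Hom.one_def]
      exact cube_one_mid_right l _
  obtain ⟨U, hU, htriv⟩ := CubeRel.exists_open_trivial hC hsl
  have hfib : ∀ s : S, s ∈ U := fun s => by
    refine (hU s).mpr ?_
    let j : pullback (pullback.snd X.hom (X ⊗ X).hom ≫ (X ⊗ X).hom) (S.fromSpecResidueField s) ⟶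
        pullback (X ⊗ (X ⊗ X)).hom (S.fromSpecResidueField s) :=
      pullback.lift (pullback.fst _ _) (pullback.snd _ _) (by rw [← hP]; exact pullback.condition)
    have hz : Nonempty ((Scheme.Modules.pullback (pullback.fst (X ⊗ (X ⊗ X)).hom (S.fromSpecResidueField s))).obj C ≅
        Coh.structureModule _) :=
      (pl_cls_eq_one _ hC).mp (by rw [← hCc]; exact fibre_cube l p1 p2 p3 s)
    exact CubeRel.trivial_comp (a := j) (pullback.lift_fst _ _ _) C hz
  have := (pl_cls_eq_one _ hC).mpr (htriv (𝟙 _) fun y => hfib _)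
  rwa [PicLaw.pl_id, ← hCc] at this

end Groth.Agent.AbSch51.CubeCls
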