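import Groth.Agent.Cube.Util
import Groth.Agent.Cube.Alg
import Groth.Agent.Cube.Deform

/-!
A one-cocycle of functions on the boxes of a product of two schemes with constant functions only is a
coboundary as soon as it is one on the two slices through rational points.
-/

set_option autoImplicit false
universe u

open CategoryTheory CategoryTheory.Limits MonoidalCategory CartesianMonoidalCategory AlgebraicGeometry
open TopologicalSpace
open scoped TensorProduct

noncomputable section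

namespace Groth.Agent.AbSch51.CubeH1

open Groth.Agent.Cube Groth.Agent.QCoh Groth.Agent.Props.GenLocus

variable {k : Type u} [Field k] {X W : Over (Spec (CommRingCat.of k))}

theorem le_pre_point_right (w₀ : 𝟙_ (Over (Spec (CommRingCat.of k))) ⟶ W) {V : W.left.Opens}
    (hV : ⊤ ≤ w₀.left ⁻¹ᵁ V) {U U' : X.left.Opens} (hU : U' ≤ U) :
    U' ≤ (lift (𝟙 X) (toUnit X ≫ w₀)).left ⁻¹ᵁ box U V := by
  refine le_pre_box _ ?_ ?_
  · rw [lift_fst]
    exact hU
  · rw [lift_snd]
    exact fun y _ => hV (Opens.mem_top ((toUnit X).left y))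

theorem pull_point_mulMap_right (w₀ : 𝟙_ (Over (Spec (CommRingCat.of k))) ⟶ W) {V : W.left.Opens}
    (hV : ⊤ ≤ w₀.left ⁻¹ᵁ V) (U : X.left.Opens) (z : Γ(X.left, U) ⊗[k] Γ(W.left, V)) :
    pull (lift (𝟙 X) (toUnit X ≫ w₀)) (box U V) U (le_pre_point_right w₀ hV le_rfl) (mulMap U V z) =
      TensorProduct.rid k _ ((evPt w₀ V hV).toLinearMap.lTensor _ z) := by
  induction z using TensorProduct.induction_on with
  | zero => simp only [map_zero]
  | add y z hy hz => simp only [map_add, hy, hz]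
  | tmul a b =>
    rw [pull_mulMap_tmul, LinearMap.lTensor_tmul, TensorProduct.rid_tmul, Algebra.smul_def,
      AlgHom.toLinearMap_apply, pull_congr (lift_fst _ _), pull_congr (lift_snd _ _)]
    rw [← pull_pull (toUnit X) w₀ hV (V' := U) (fun _ _ => trivial) b, ← algebraMap_evPt w₀ V hV, AlgHom.commutes,
      mul_comm]
    congr 1
    exact (pull_id U U le_rfl a).trans (rres_self _ _)

theorem rres_mulMap {U U' : X.left.Opens} {V V' : W.left.Opens} (hU : U' ≤ U) (hV : V' ≤ V)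
    (z : Γ(X.left, U) ⊗[k] Γ(W.left, V)) :
    rres (box_mono hU hV) (mulMap U V z) =
      mulMap U' V' (TensorProduct.map (pull (𝟙 X) U U' (le_id hU)).toLinearMap
        (pull (𝟙 W) V V' (le_id hV)).toLinearMap z) := by
  refine (pull_id _ _ (box_mono hU hV) _).symm.trans ?_
  rw [pull_mulMap (𝟙 X) (𝟙 W) (𝟙 (X ⊗ W)) (by simp) (by simp) (le_id hU) (le_id hV) (le_id (box_mono hU hV))]
  rfl

theorem pull_id_linear {A : Over (Spec (CommRingCat.of k))} (U : A.left.Opens) :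
    (pull (𝟙 A) U U (le_id le_rfl)).toLinearMap = LinearMap.id :=
  pull_id_self U

theorem rres_mulMap_left {U U' : X.left.Opens} {V : W.left.Opens} (hU : U' ≤ U)
    (z : Γ(X.left, U) ⊗[k] Γ(W.left, V)) :
    rres (box_mono hU le_rfl) (mulMap U V z) =
      mulMap U' V ((pull (𝟙 X) U U' (le_id hU)).toLinearMap.rTensor _ z) :=
  (rres_mulMap hU le_rfl z).trans (by rw [pull_id_linear]; rfl)

theorem rres_mulMap_right {U : X.left.Opens} {V V' : W.left.Opens} (hV : V' ≤ V)
    (z : Γ(X.left, U) ⊗[k] Γ(W.left, V)) :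
    rres (box_mono le_rfl hV) (mulMap U V z) =
      mulMap U V' ((pull (𝟙 W) V V' (le_id hV)).toLinearMap.lTensor _ z) :=
  (rres_mulMap le_rfl hV z).trans (by rw [pull_id_linear]; rfl)

theorem exists_mem_point {A : Over (Spec (CommRingCat.of k))}
    (x₀ : 𝟙_ (Over (Spec (CommRingCat.of k))) ⟶ A) {ι : Type u} (U : ι → A.left.Opens)
    (hcov : ∀ x, ∃ i, x ∈ U i) : ∃ i, ⊤ ≤ x₀.left ⁻¹ᵁ U i := by
  have : Nonempty ↥(𝟙_ (Over (Spec (CommRingCat.of k)))).left := inferInstanceAs (Nonempty (PrimeSpectrum k))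
  have : Subsingleton ↥(𝟙_ (Over (Spec (CommRingCat.of k)))).left :=
    inferInstanceAs (Subsingleton (PrimeSpectrum k))
  obtain ⟨p⟩ := ‹Nonempty ↥(𝟙_ (Over (Spec (CommRingCat.of k)))).left›
  obtain ⟨i, hi⟩ := hcov (x₀.left p)
  exact ⟨i, fun q _ => (Subsingleton.elim p q ▸ hi : x₀.left q ∈ U i)⟩

theorem exists_const {A : Over (Spec (CommRingCat.of k))} (hA : Function.Surjective (str A ⊤))
    {ι : Type u} (U : ι → A.left.Opens) (hcov : ∀ x, ∃ i, x ∈ U i) (a : ∀ i, Γ(A.left, U i))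
    (ha : ∀ i j, rres inf_le_left (a i) = rres (inf_le_right : U i ⊓ U j ≤ U j) (a j)) :
    ∃ c : k, ∀ i, algebraMap k Γ(A.left, U i) c = a i := by
  obtain ⟨G, hG⟩ := exists_glue_fun hcov a ha
  obtain ⟨c, rfl⟩ := hA G
  refine ⟨c, fun i => ?_⟩
  rw [← hG i]
  refine ((pull (𝟙 A) ⊤ (U i) (le_id le_top)).commutes c).symm.trans ?_
  exact pull_id _ _ le_top _

set_option maxHeartbeats 1000000 in
/-- **The slice criterion for first cohomology.** -/
theorem exists_primitive [IsSeparated X.hom] [IsSeparated W.hom]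
    (x₀ : 𝟙_ (Over (Spec (CommRingCat.of k))) ⟶ X) (w₀ : 𝟙_ (Over (Spec (CommRingCat.of k))) ⟶ W)
    (hX : Function.Surjective (str X ⊤)) (hW : Function.Surjective (str W ⊤))
    {ι κ : Type u} [Finite ι] [Finite κ] (U : ι → X.left.Opens) (V : κ → W.left.Opens)
    (hU : ∀ i, IsAffineOpen (U i)) (hV : ∀ a, IsAffineOpen (V a))
    (hUcov : ∀ x, ∃ i, x ∈ U i) (hVcov : ∀ x, ∃ a, x ∈ V a)
    (c : ∀ p q : ι × κ, Γ((X ⊗ W).left, box (U p.1) (V p.2) ⊓ box (U q.1) (V q.2)))
    (hc : ∀ (p q r : ι × κ) (O : (X ⊗ W).left.Opens) (hp : O ≤ box (U p.1) (V p.2))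
      (hq : O ≤ box (U q.1) (V q.2)) (hr : O ≤ box (U r.1) (V r.2)),
      rres (le_inf hp hq) (c p q) + rres (le_inf hq hr) (c q r) = rres (le_inf hp hr) (c p r))
    (hx : ∃ d : ∀ p : ι × κ, Γ(W.left, (lift (toUnit W ≫ x₀) (𝟙 W)).left ⁻¹ᵁ box (U p.1) (V p.2)),
      ∀ p q, (lift (toUnit W ≫ x₀) (𝟙 W)).left.app _ (c p q) =
        rres (Scheme.Hom.preimage_mono _ inf_le_left) (d p) - rres (Scheme.Hom.preimage_mono _ inf_le_right) (d q))
    (hy : ∃ d : ∀ p : ι × κ, Γ(X.left, (lift (𝟙 X) (toUnit X ≫ w₀)).left ⁻¹ᵁ box (U p.1) (V p.2)),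
      ∀ p q, (lift (𝟙 X) (toUnit X ≫ w₀)).left.app _ (c p q) =
        rres (Scheme.Hom.preimage_mono _ inf_le_left) (d p) - rres (Scheme.Hom.preimage_mono _ inf_le_right) (d q)) :
    ∃ h : ∀ p : ι × κ, Γ((X ⊗ W).left, box (U p.1) (V p.2)),
      ∀ p q, c p q = rres inf_le_left (h p) - rres inf_le_right (h q) := by
  classical
  obtain ⟨i₀, hi₀⟩ := exists_mem_point x₀ U hUcov
  obtain ⟨a₀, ha₀⟩ := exists_mem_point w₀ V hVcov
  have hU2 : ∀ i j, IsAffineOpen (U i ⊓ U j) := fun i j => isAffineOpen_inf X (hU i) (hU j)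
  have hV2 : ∀ a b, IsAffineOpen (V a ⊓ V b) := fun a b => isAffineOpen_inf W (hV a) (hV b)
  choose f hf using fun i a b => (bijective_mulMap (hU i) (hV2 a b)).2
    (rres (le_inf (box_mono le_rfl inf_le_left) (box_mono le_rfl inf_le_right)) (c (i, a) (i, b)))
  choose g hg using fun i j a => (bijective_mulMap (hU2 i j) (hV a)).2
    (rres (le_inf (box_mono inf_le_left le_rfl) (box_mono inf_le_right le_rfl)) (c (i, a) (j, a)))
  let s1 : ∀ i j, Γ(X.left, U i) →ₗ[k] Γ(X.left, U i ⊓ U j) := fun i j =>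
    (pull (𝟙 X) (U i) (U i ⊓ U j) (le_id inf_le_left)).toLinearMap
  let s2 : ∀ i j, Γ(X.left, U j) →ₗ[k] Γ(X.left, U i ⊓ U j) := fun i j =>
    (pull (𝟙 X) (U j) (U i ⊓ U j) (le_id inf_le_right)).toLinearMap
  let t1 : ∀ a b, Γ(W.left, V a) →ₗ[k] Γ(W.left, V a ⊓ V b) := fun a b =>
    (pull (𝟙 W) (V a) (V a ⊓ V b) (le_id inf_le_left)).toLinearMap
  let t2 : ∀ a b, Γ(W.left, V b) →ₗ[k] Γ(W.left, V a ⊓ V b) := fun a b =>
    (pull (𝟙 W) (V b) (V a ⊓ V b) (le_id inf_le_right)).toLinearMap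
  have hrel : ∀ i j a b, (s1 i j).rTensor _ (f i a b) - (s2 i j).rTensor _ (f j a b) =
      (t1 a b).lTensor _ (g i j a) - (t2 a b).lTensor _ (g i j b) := by
    intro i j a b
    apply (bijective_mulMap (hU2 i j) (hV2 a b)).1
    simp only [map_sub, s1, s2, t1, t2]
    rw [← rres_mulMap_left (inf_le_left : U i ⊓ U j ≤ U i), ← rres_mulMap_left (inf_le_right : U i ⊓ U j ≤ U j),
      ← rres_mulMap_right (inf_le_left : V a ⊓ V b ≤ V a), ← rres_mulMap_right (inf_le_right : V a ⊓ V b ≤ V b),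
      hf, hf, hg, hg]
    simp only [rres_rres]
    rw [sub_eq_sub_iff_add_eq_add]
    refine (hc (i, a) (i, b) (j, b) (box (U i ⊓ U j) (V a ⊓ V b)) (box_mono inf_le_left inf_le_left)
      (box_mono inf_le_left inf_le_right) (box_mono inf_le_right inf_le_right)).trans ?_
    exact (hc (i, a) (j, a) (j, b) (box (U i ⊓ U j) (V a ⊓ V b)) (box_mono inf_le_left inf_le_left)
      (box_mono inf_le_right inf_le_left) (box_mono inf_le_right inf_le_right)).symm
  have hker : ∀ a : ∀ i, Γ(X.left, U i), (∀ i j, s1 i j (a i) = s2 i j (a j)) →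
      ∃ r : k, a = r • fun _ => 1 := by
    intro a ha
    obtain ⟨r, hr⟩ := exists_const hX U hUcov a fun i j => by
      have h := ha i j
      simp only [s1, s2, AlgHom.toLinearMap_apply, pull_id] at h
      exact h
    exact ⟨r, funext fun i => by rw [← hr i]; simp [Algebra.smul_def]⟩
  let inc : ∀ a, k →ₗ[k] Γ(W.left, V a) := fun a => Algebra.linearMap k _
  have hinc : ∀ a b w, t1 a b (inc a w) = t2 a b (inc b w) := fun a b w => by
    simp only [t1, t2, inc, AlgHom.toLinearMap_apply, Algebra.linearMap_apply, AlgHom.commutes]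
  have hkerQ : ∀ q : ∀ a, Γ(W.left, V a), (∀ a b, t1 a b (q a) = t2 a b (q b)) →
      ∃ w, ∀ a, inc a w = q a := by
    intro q hq
    exact exists_const hW V hVcov q fun a b => by
      have h := hq a b
      simp only [t1, t2, AlgHom.toLinearMap_apply, pull_id] at h
      exact h
  obtain ⟨dx, hdx⟩ := hx
  obtain ⟨dy, hdy⟩ := hy
  have hlex : ∀ a, V a ≤ (lift (toUnit W ≫ x₀) (𝟙 W)).left ⁻¹ᵁ box (U i₀) (V a) := fun a =>
    le_pre_point x₀ hi₀ le_rfl
  have hley : ∀ i, U i ≤ (lift (𝟙 X) (toUnit X ≫ w₀)).left ⁻¹ᵁ box (U i) (V a₀) := fun i =>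
    le_pre_point_right w₀ ha₀ le_rfl
  obtain ⟨h, hh1, hh2⟩ := Alg.exists_potential s1 s2 (fun _ => 1) hker i₀ (evPt x₀ (U i₀) hi₀).toLinearMap
    (by simp) t1 t2 inc hinc hkerQ a₀ (evPt w₀ (V a₀) ha₀).toLinearMap
    (fun w => by simp [inc]) f g hrel
    ⟨fun a => rres (hlex a) (dx (i₀, a)), fun a b => by
      rw [← pull_point_mulMap x₀ hi₀, hf, pull_rres, pull_eq_rres_app]
      erw [hdx (i₀, a) (i₀, b)]
      rw [map_sub, rres_rres, rres_rres]
      simp only [t1, t2, AlgHom.toLinearMap_apply]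
      refine congrArg₂ (· - ·) ?_ ?_
      · exact ((pull_id _ _ inf_le_left _).trans (rres_rres _ _ _)).symm
      · exact ((pull_id _ _ inf_le_right _).trans (rres_rres _ _ _)).symm⟩
    ⟨fun i => (TensorProduct.rid k _).symm (rres (hley i) (dy (i, a₀))), fun i j => by
      apply (TensorProduct.rid k _).injective
      rw [← pull_point_mulMap_right w₀ ha₀, hg, pull_rres, pull_eq_rres_app]
      erw [hdy (i, a₀) (j, a₀)]
      rw [map_sub, map_sub, rres_rres, rres_rres]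
      simp only [TensorProduct.rid_symm_apply, LinearMap.rTensor_tmul, TensorProduct.rid_tmul, one_smul,
        s1, s2, AlgHom.toLinearMap_apply]
      refine congrArg₂ (· - ·) ?_ ?_
      · exact ((pull_id _ _ inf_le_left _).trans (rres_rres _ _ _)).symm
      · exact ((pull_id _ _ inf_le_right _).trans (rres_rres _ _ _)).symm⟩
  refine ⟨fun p => mulMap (U p.1) (V p.2) (h p.1 p.2), fun p q => ?_⟩
  obtain ⟨i, a⟩ := p
  obtain ⟨j, b⟩ := q
  have hle : box (U i ⊓ U j) (V a ⊓ V b) ≤ box (U i) (V a) ⊓ box (U j) (V b) := (box_inf _ _ _ _).ge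
  refine (rres_bijective_of_eq hle (box_inf _ _ _ _).le).1 ?_
  rw [map_sub, rres_rres, rres_rres]
  have e1 : rres (le_inf (box_mono le_rfl inf_le_left) (box_mono le_rfl inf_le_right) :
        box (U i) (V a ⊓ V b) ≤ _) (c (i, a) (i, b)) =
      rres (box_mono le_rfl inf_le_left) (mulMap (U i) (V a) (h i a)) -
        rres (box_mono le_rfl inf_le_right) (mulMap (U i) (V b) (h i b)) := by
    rw [rres_mulMap_right (inf_le_left : V a ⊓ V b ≤ V a), rres_mulMap_right (inf_le_right : V a ⊓ V b ≤ V b),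
      ← map_sub, ← hf, ← hh1 i a b]
  have e2 : rres (le_inf (box_mono inf_le_left le_rfl) (box_mono inf_le_right le_rfl) :
        box (U i ⊓ U j) (V b) ≤ _) (c (i, b) (j, b)) =
      rres (box_mono inf_le_left le_rfl) (mulMap (U i) (V b) (h i b)) -
        rres (box_mono inf_le_right le_rfl) (mulMap (U j) (V b) (h j b)) := by
    rw [rres_mulMap_left (inf_le_left : U i ⊓ U j ≤ U i), rres_mulMap_left (inf_le_right : U i ⊓ U j ≤ U j),
      ← map_sub, ← hg, ← hh2 i j b]
  have e1' := congrArg (rres (box_mono inf_le_left le_rfl : box (U i ⊓ U j) (V a ⊓ V b) ≤ _)) e1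
  have e2' := congrArg (rres (box_mono le_rfl inf_le_right : box (U i ⊓ U j) (V a ⊓ V b) ≤ _)) e2
  simp only [map_sub, rres_rres] at e1' e2'
  refine (hc (i, a) (i, b) (j, b) (box (U i ⊓ U j) (V a ⊓ V b)) (box_mono inf_le_left inf_le_left)
    (box_mono inf_le_left inf_le_right) (box_mono inf_le_right inf_le_right)).symm.trans ?_
  rw [e1', e2', sub_add_sub_cancel]

end Groth.Agent.AbSch51.CubeH1
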