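import Groth.Agent.AbSch51.CubeH1
import Groth.Agent.Cube.Base

/-!
The infinitesimal step of the relative theorem of the cube: over a local ring, an invertible module on a
product of two families, trivial on both slices and modulo an element killed by the maximal ideal, is trivial.
-/

set_option autoImplicit false
universe u

open CategoryTheory CategoryTheory.Limits MonoidalCategory CartesianMonoidalCategory AlgebraicGeometry
open TopologicalSpace

noncomputable section

namespace Groth.Agent.AbSch51.CubeInf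

open Groth.Agent.Cube Groth.Agent.QCoh Groth.Agent.Props.GenLocus

variable {A : Type u} [CommRing A]

/-- Reduction modulo an element. -/
abbrev redMap (e : A) : Spec (CommRingCat.of (A ⧸ Ideal.span {e})) ⟶ Spec (CommRingCat.of A) :=
  Spec.map (CommRingCat.ofHom (Ideal.Quotient.mk (Ideal.span {e})))

theorem glb_comp_appLE {W' W : Scheme.{u}} {B : Type u} [CommRing B] (φ : A →+* B) (q : W ⟶ Spec (CommRingCat.of A))
    (q' : W' ⟶ Spec (CommRingCat.of B)) (i : W' ⟶ W)
    (hw : i ≫ q = q' ≫ Spec.map (CommRingCat.ofHom φ)) (U : W.Opens) (r : A) :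
    i.app U (glb q U r) = glb q' (i ⁻¹ᵁ U) (φ r) := by
  have h : ((Scheme.ΓSpecIso (CommRingCat.of A)).inv ≫ q.appLE ⊤ U (fun _ _ => trivial)) ≫ i.app U =
      CommRingCat.ofHom φ ≫ (Scheme.ΓSpecIso (CommRingCat.of B)).inv ≫
        q'.appLE ⊤ (i ⁻¹ᵁ U) (fun _ _ => trivial) := by
    rw [Category.assoc, Scheme.ΓSpecIso_inv_naturality_assoc, Scheme.Hom.app_eq_appLE,
      Scheme.Hom.appLE_comp_appLE, appLE_congr' hw]
    congr 1
  exact ConcreteCategory.congr_hom h r

theorem rres_glb {W : Scheme.{u}} (q : W ⟶ Spec (CommRingCat.of A)) {U V : W.Opens} (h : V ≤ U) (r : A) :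
    rres h (glb q U r) = glb q V r := by
  show W.presheaf.map _ _ = _
  simp only [glb, CommRingCat.hom_comp, RingHom.comp_apply]
  rw [← CommRingCat.comp_apply, Scheme.Hom.appLE_map]

theorem app_rres {W P : Scheme.{u}} (σ : W ⟶ P) {U V : P.Opens} (h : V ≤ U) (a : Γ(P, U)) :
    σ.app V (rres h a) = rres (σ.preimage_mono h) (σ.app U a) :=
  ConcreteCategory.congr_hom (σ.naturality (homOfLE h).op) a

theorem app_glb_comp {W P : Scheme.{u}} (σ : W ⟶ P) (q : P ⟶ Spec (CommRingCat.of A))
    (g : W ⟶ Spec (CommRingCat.of A)) (h : σ ≫ q = g) (U : P.Opens) (r : A) :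
    σ.app U (glb q U r) = glb g (σ ⁻¹ᵁ U) r := by
  subst h
  simp only [glb, CommRingCat.hom_comp, RingHom.comp_apply]
  rw [← CommRingCat.comp_apply, Scheme.Hom.app_eq_appLE, Scheme.Hom.appLE_comp_appLE]

theorem app_app_of_eq {Z Z' P' P : Scheme.{u}} {τ : Z ⟶ P'} {i : P' ⟶ P} {j : Z ⟶ Z'} {σ : Z' ⟶ P}
    (h : τ ≫ i = j ≫ σ) (U : P.Opens) (a : Γ(P, U)) :
    τ.app _ (i.app U a) = rres (le_of_eq (by rw [← Scheme.Hom.comp_preimage, h, Scheme.Hom.comp_preimage]) :
      τ ⁻¹ᵁ (i ⁻¹ᵁ U) ≤ j ⁻¹ᵁ (σ ⁻¹ᵁ U)) (j.app _ (σ.app U a)) := by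
  rw [← CommRingCat.comp_apply, ← Scheme.Hom.comp_app, Scheme.Hom.congr_app h]
  rfl

theorem exists_glb_mul {e : A} {W : Scheme.{u}} (q : W ⟶ Spec (CommRingCat.of A)) {U : W.Opens}
    (hU : IsAffineOpen U) (a : Γ(W, U)) (h : (pullback.fst q (redMap e)).app U a = 0) :
    ∃ b, a = glb q U e * b := by
  have := mem_map_of_app_eq_zero (Ideal.Quotient.mk (Ideal.span {e})) Ideal.Quotient.mk_surjective
    (IsPullback.of_hasPullback q (redMap e)) hU a h
  rw [Ideal.mk_ker, Ideal.map_span, Set.image_singleton, Ideal.mem_span_singleton] at this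
  exact this

section Local

variable [IsLocalRing A]

theorem app_residue_eq_zero {e : A} (he0 : e ≠ 0) (he : ∀ r ∈ IsLocalRing.maximalIdeal A, r * e = 0)
    {W W₀ : Scheme.{u}} {i : W₀ ⟶ W} {q : W ⟶ Spec (CommRingCat.of A)} [Flat q]
    {q₀ : W₀ ⟶ Spec (CommRingCat.of (IsLocalRing.ResidueField A))}
    (hw : i ≫ q = q₀ ≫ Spec.map (CommRingCat.ofHom (IsLocalRing.residue A))) {U : W.Opens}
    (hU : IsAffineOpen U) (b : Γ(W, U)) (hb : glb q U e * b = 0) : i.app U b = 0 := by
  let := (glb q U).toAlgebra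
  have hflat : Module.Flat A Γ(W, U) := flat_glb q hU
  obtain ⟨l, c, y, hy, hc⟩ := Module.Flat.isTrivialRelation_of_sum_smul_eq_zero (M := Γ(W, U))
    (f := fun _ : Fin 1 => e) (x := fun _ => b) (by
      simp only [Finset.univ_unique, Finset.sum_singleton, Algebra.smul_def]
      exact hb)
  rw [show b = _ from hy 0, map_sum]
  refine Finset.sum_eq_zero fun j _ => ?_
  have hcj : c 0 j ∈ IsLocalRing.maximalIdeal A := by
    by_contra hu
    have hu' : IsUnit (c 0 j) := IsLocalRing.notMem_maximalIdeal.mp hu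
    have := hc j
    simp only [Finset.univ_unique, Finset.sum_singleton] at this
    exact he0 (hu'.mul_left_eq_zero.mp this)
  rw [Algebra.smul_def, map_mul, RingHom.algebraMap_toAlgebra,
    glb_comp_appLE (IsLocalRing.residue A) q q₀ i hw, (IsLocalRing.residue_eq_zero_iff _).mpr hcj,
    map_zero, zero_mul]

theorem glb_mul_eq_zero {e : A} (he : ∀ r ∈ IsLocalRing.maximalIdeal A, r * e = 0)
    {W W₀ : Scheme.{u}} {i : W₀ ⟶ W} {q : W ⟶ Spec (CommRingCat.of A)}
    {q₀ : W₀ ⟶ Spec (CommRingCat.of (IsLocalRing.ResidueField A))}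
    (H : IsPullback i q₀ q (Spec.map (CommRingCat.ofHom (IsLocalRing.residue A)))) {U : W.Opens}
    (hU : IsAffineOpen U) (b : Γ(W, U)) (hb : i.app U b = 0) : glb q U e * b = 0 := by
  have h := mem_map_of_app_eq_zero _ IsLocalRing.residue_surjective H hU b hb
  rw [IsLocalRing.ker_residue] at h
  refine Submodule.span_induction (p := fun z _ => glb q U e * z = 0) ?_ (mul_zero _)
    (fun y z _ _ hy hz => by rw [mul_add, hy, hz, add_zero])
    (fun a z _ hz => by rw [smul_eq_mul, mul_left_comm, hz, mul_zero]) h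
  rintro _ ⟨r, hr, rfl⟩
  rw [← map_mul, mul_comm, he r hr, map_zero]

end Local

/-- Pulling back the trivialised transition functions along a slice. -/
theorem exists_slice [IsLocalRing A] {e : A} (he0 : e ≠ 0) (hem : e ∈ IsLocalRing.maximalIdeal A)
    (he : ∀ r ∈ IsLocalRing.maximalIdeal A, r * e = 0)
    {P W W₀ : Scheme.{u}} (q : P ⟶ Spec (CommRingCat.of A)) (g : W ⟶ Spec (CommRingCat.of A)) [Flat g]
    [W.IsSeparated]
    (hW : Function.Bijective (glb (pullback.snd g (redMap e)) ⊤))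
    (σ : W ⟶ P) [IsClosedImmersion σ] (hσ : σ ≫ q = g)
    {iW : W₀ ⟶ W} {g₀ : W₀ ⟶ Spec (CommRingCat.of (IsLocalRing.ResidueField A))}
    (hiW : iW ≫ g = g₀ ≫ Spec.map (CommRingCat.ofHom (IsLocalRing.residue A)))
    {ι : Type u} {U : ι → P.Opens} (hU : ∀ p, IsAffineOpen (U p)) (hUcov : ∀ x, ∃ p, x ∈ U p)
    {L : P.Modules} {s : ∀ p, Γ(L, U p)} (hs : ∀ p, IsGen L (U p) (s p))
    (u : ∀ p p', Γ(P, U p ⊓ U p'))
    (hu : ∀ p p', res L inf_le_left (s p) = u p p' • res L inf_le_right (s p'))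
    (hu1 : ∀ p p', (pullback.fst q (redMap e)).app _ (u p p') = 1)
    (b : ∀ p p', Γ(P, U p ⊓ U p')) (hb : ∀ p p', u p p' - 1 = glb q _ e * b p p')
    (hiso : Nonempty ((Scheme.Modules.pullback σ).obj L ≅ Coh.structureModule W)) :
    ∃ d : ∀ p, Γ(W, σ ⁻¹ᵁ U p), ∀ p p', iW.app _ (σ.app _ (b p p')) =
      rres (iW.preimage_mono (σ.preimage_mono inf_le_left)) (iW.app _ (d p)) -
        rres (iW.preimage_mono (σ.preimage_mono inf_le_right)) (iW.app _ (d p')) := by
  obtain ⟨v, hv, hvu⟩ := exists_coboundary_of_iso σ hs u hu hiso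
  let j := pullback.fst g (redMap e)
  let g' := pullback.snd g (redMap e)
  let σ' : pullback g (redMap e) ⟶ pullback q (redMap e) :=
    pullback.lift (j ≫ σ) g' (by rw [Category.assoc, hσ]; exact pullback.condition)
  have hσ' : σ' ≫ pullback.fst q (redMap e) = j ≫ σ := pullback.lift_fst _ _ _
  have h1 : ∀ p p', j.app _ (σ.app _ (u p p')) = 1 := fun p p' => by
    rw [app_app_of_eq hσ'.symm, hu1, map_one, map_one]
  have hcov : ∀ x, ∃ p, x ∈ j ⁻¹ᵁ (σ ⁻¹ᵁ U p) := fun x => hUcov (σ (j x))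
  obtain ⟨G, hG⟩ := exists_glue_fun hcov (fun p => j.app _ (v p)) fun p p' => by
    have h := congrArg (j.app _) (hvu p p')
    rw [map_mul, h1, one_mul, app_rres, app_rres] at h
    exact h.symm
  have hGu : IsUnit G := isUnit_of_local _ (fun p => le_top) (fun x _ => hcov x) G fun p => by
    rw [hG p]; exact (hv p).map _
  obtain ⟨cbar, hcbar⟩ := hW.2 G
  have hcu : IsUnit cbar := by
    obtain ⟨G', hG'⟩ := hGu.exists_right_inv
    obtain ⟨c', hc'⟩ := hW.2 G'
    exact IsUnit.of_mul_eq_one c' (hW.1 (by rw [map_mul, map_one, hcbar, hc', hG']))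
  obtain ⟨c, rfl⟩ := Ideal.Quotient.mk_surjective cbar
  have hc : IsUnit c := by
    have : IsLocalHom (Ideal.Quotient.mk (Ideal.span {e})) :=
      isLocalHom_of_le_jacobson_bot _ (by
        rw [IsLocalRing.jacobson_eq_maximalIdeal _ bot_ne_top, Ideal.span_le, Set.singleton_subset_iff]
        exact hem)
    exact (isUnit_map_iff _ _).mp hcu
  obtain ⟨c', hc'⟩ := hc.exists_left_inv
  have hcc : Ideal.Quotient.mk (Ideal.span {e}) c' * Ideal.Quotient.mk (Ideal.span {e}) c = 1 :=
    ((Ideal.Quotient.mk (Ideal.span {e})).map_mul c' c).symm.trans (by rw [hc', map_one])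
  choose d hd using fun p => exists_glb_mul g ((hU p).preimage σ) (glb g _ c' * v p - 1) (by
    rw [map_sub, map_mul, map_one, ← hG p,
      glb_comp_appLE _ g g' j pullback.condition, ← hcbar, ← rres_glb g' le_top, ← map_mul,
      ← map_mul, hcc, map_one, map_one, sub_self])
  refine ⟨d, fun p p' => ?_⟩
  let O := σ ⁻¹ᵁ (U p ⊓ U p')
  have hO : IsAffineOpen O := ((hU p).preimage σ).inf ((hU p').preimage σ)
  let η := glb g O e
  have hη : η * η = 0 := by rw [← map_mul, he e hem, map_zero]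
  have hσb : σ.app _ (u p p') = 1 + η * σ.app _ (b p p') := by
    rw [← sub_eq_iff_eq_add', ← map_one (σ.app _).hom, ← map_sub, hb, map_mul, app_glb_comp σ q g hσ]
  have hd' : ∀ (r : ι) (h : O ≤ σ ⁻¹ᵁ U r), glb g O c' * rres h (v r) = 1 + η * rres h (d r) := fun r h => by
    rw [← sub_eq_iff_eq_add']
    have := congrArg (rres h) (hd r)
    simpa only [map_sub, map_one, map_mul, rres_glb] using this
  have e3 := congrArg (glb g O c' * ·) (hvu p p')
  simp only at e3
  rw [mul_left_comm, hσb, hd', hd'] at e3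
  have h4 : η * (σ.app _ (b p p') - (rres (σ.preimage_mono inf_le_left) (d p) -
      rres (σ.preimage_mono inf_le_right) (d p'))) = 0 := by
    linear_combination e3 - (σ.app _ (b p p') * rres (σ.preimage_mono inf_le_right) (d p')) * hη
  have h5 := app_residue_eq_zero he0 he hiW hO _ h4
  rw [map_sub, map_sub, app_rres, app_rres, sub_eq_zero] at h5
  exact h5

variable {X W : Scheme.{u}} (f : X ⟶ Spec (CommRingCat.of A)) (g : W ⟶ Spec (CommRingCat.of A))

theorem isAffineOpen_prod {U : X.Opens} {V : W.Opens} (hU : IsAffineOpen U) (hV : IsAffineOpen V) :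
    IsAffineOpen (pullback.fst f g ⁻¹ᵁ U ⊓ pullback.snd f g ⁻¹ᵁ V) := by
  have : IsAffine (U : Scheme.{u}) := hU
  have : IsAffine (V : Scheme.{u}) := hV
  have : IsAffine ((⊤ : (Spec (CommRingCat.of A)).Opens) : Scheme.{u}) := isAffineOpen_top _
  exact .of_isIso (Scheme.Hom.isPullback_resLE (IsPullback.of_hasPullback f g) (US := ⊤) (UT := V) (UX := U)
    (fun _ _ => trivial) (fun _ _ => trivial) (UY := _) rfl).isoPullback.hom

variable [IsLocalRing A]

/-- The closed fibre. -/
abbrev res₀ {Y : Scheme.{u}} (y : Y ⟶ Spec (CommRingCat.of A)) :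
    Over (Spec (CommRingCat.of (IsLocalRing.ResidueField A))) :=
  Over.mk (pullback.snd y (Spec.map (CommRingCat.ofHom (IsLocalRing.residue A))))

/-- The closed fibre of the product, as product of the closed fibres. -/
def incl₀ : (res₀ f ⊗ res₀ g).left ⟶ pullback f g :=
  pullback.lift ((fst (res₀ f) (res₀ g)).left ≫ pullback.fst _ _) ((snd (res₀ f) (res₀ g)).left ≫ pullback.fst _ _)
    (by
      have h : (fst (res₀ f) (res₀ g)).left ≫ pullback.snd f _ = (snd (res₀ f) (res₀ g)).left ≫ pullback.snd g _ :=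
        pullback.condition (f := (res₀ f).hom) (g := (res₀ g).hom)
      rw [Category.assoc, Category.assoc, pullback.condition, pullback.condition]
      rw [← Category.assoc, h, Category.assoc])

theorem isPullback_incl₀ :
    IsPullback (incl₀ f g) ((snd (res₀ f) (res₀ g)).left ≫ (res₀ g).hom) (pullback.snd f g ≫ g)
      (Spec.map (CommRingCat.ofHom (IsLocalRing.residue A))) := by
  refine IsPullback.paste_vert (h₂₁ := pullback.fst g (Spec.map (CommRingCat.ofHom (IsLocalRing.residue A)))) ?_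
    (IsPullback.of_hasPullback _ _)
  refine IsPullback.of_right (h₁₂ := pullback.fst f g) (v₁₃ := f) (h₂₂ := g) ?_
    (pullback.lift_snd _ _ _) (IsPullback.of_hasPullback _ _)
  rw [incl₀, pullback.lift_fst, pullback.condition]
  exact (IsPullback.of_hasPullback (res₀ f).hom (res₀ g).hom).paste_horiz (IsPullback.of_hasPullback f _)

set_option maxHeartbeats 1000000 in
/-- **The infinitesimal step.** -/
theorem trivial_of_mod [Flat f] [Flat g] [IsSeparated f] [IsSeparated g] [QuasiCompact f] [QuasiCompact g]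
    (e : A) (hem : e ∈ IsLocalRing.maximalIdeal A) (he : ∀ r ∈ IsLocalRing.maximalIdeal A, r * e = 0)
    (hfA : Function.Bijective (glb (pullback.snd f (redMap e)) ⊤))
    (hgA : Function.Bijective (glb (pullback.snd g (redMap e)) ⊤))
    (hX : Function.Surjective (str (res₀ f) ⊤)) (hW : Function.Surjective (str (res₀ g) ⊤))
    (x : Spec (CommRingCat.of A) ⟶ X) (hx : x ≫ f = 𝟙 _)
    (w : Spec (CommRingCat.of A) ⟶ W) (hw : w ≫ g = 𝟙 _)
    (L : (pullback f g).Modules) (hL : PicF.IsInvertible L)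
    (h0 : Nonempty ((Scheme.Modules.pullback (pullback.fst (pullback.snd f g ≫ g) (redMap e))).obj L ≅
      Coh.structureModule _))
    (hsx : Nonempty ((Scheme.Modules.pullback (pullback.lift (g ≫ x) (𝟙 W)
      (by rw [Category.assoc, hx, Category.comp_id, Category.id_comp]))).obj L ≅ Coh.structureModule W))
    (hsw : Nonempty ((Scheme.Modules.pullback (pullback.lift (𝟙 X) (f ≫ w)
      (by rw [Category.assoc, hw, Category.comp_id, Category.id_comp]))).obj L ≅ Coh.structureModule X)) :
    Nonempty (L ≅ Coh.structureModule (pullback f g)) := by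
  classical
  let q := pullback.snd f g ≫ g
  have hee : e * e = 0 := he e hem
  -- affine covers
  have : X.IsSeparated := ⟨by rw [terminal.hom_ext (terminal.from X) (f ≫ terminal.from _)]; infer_instance⟩
  have : W.IsSeparated := ⟨by rw [terminal.hom_ext (terminal.from W) (g ≫ terminal.from _)]; infer_instance⟩
  have : (pullback f g).IsSeparated :=
    ⟨by rw [terminal.hom_ext (terminal.from _) (pullback.fst f g ≫ terminal.from _)]; infer_instance⟩
  have : CompactSpace X := QuasiCompact.compactSpace_of_compactSpace f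
  have : CompactSpace W := QuasiCompact.compactSpace_of_compactSpace g
  obtain ⟨ι, hι, U, hU, hUcov⟩ : ∃ (ι : Type u) (_ : Finite ι) (U : ι → X.Opens),
      (∀ i, IsAffineOpen (U i)) ∧ ∀ p, ∃ i, p ∈ U i :=
    ⟨_, inferInstance, fun i : (X.affineCover.finiteSubcover).I₀ => _,
      fun i => isAffineOpen_opensRange ((X.affineCover.finiteSubcover).f i),
      fun p => ⟨_, (X.affineCover.finiteSubcover).covers p⟩⟩
  obtain ⟨κ, hκ, V, hV, hVcov⟩ : ∃ (κ : Type u) (_ : Finite κ) (V : κ → W.Opens),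
      (∀ i, IsAffineOpen (V i)) ∧ ∀ p, ∃ i, p ∈ V i :=
    ⟨_, inferInstance, fun i : (W.affineCover.finiteSubcover).I₀ => _,
      fun i => isAffineOpen_opensRange ((W.affineCover.finiteSubcover).f i),
      fun p => ⟨_, (W.affineCover.finiteSubcover).covers p⟩⟩
  let B : ι × κ → (pullback f g).Opens := fun p =>
    pullback.fst f g ⁻¹ᵁ U p.1 ⊓ pullback.snd f g ⁻¹ᵁ V p.2
  have hB : ∀ p, IsAffineOpen (B p) := fun p => isAffineOpen_prod f g (hU p.1) (hV p.2)
  have hB2 : ∀ p p', IsAffineOpen (B p ⊓ B p') := fun p p' => (hB p).inf (hB p')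
  have hBcov : ∀ z, ∃ p, z ∈ B p := fun z => by
    obtain ⟨i, hi⟩ := hUcov (pullback.fst f g z)
    obtain ⟨a, ha⟩ := hVcov (pullback.snd f g z)
    exact ⟨(i, a), hi, ha⟩
  -- frames congruent to a trivialisation
  have : IsClosedImmersion (redMap e) := IsClosedImmersion.spec_of_surjective _ Ideal.Quotient.mk_surjective
  have : Surjective (redMap e) := ⟨fun p => by
    have h : p ∈ Set.range (PrimeSpectrum.comap (Ideal.Quotient.mk (Ideal.span {e}))) := by
      rw [range_comap_of_surjective _ _ Ideal.Quotient.mk_surjective, Ideal.mk_ker]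
      exact Ideal.span_le.mpr fun z hz => by
        rw [Set.mem_singleton_iff] at hz; subst hz
        exact p.isPrime.mem_of_pow_mem 2 (by rw [pow_two, hee]; exact zero_mem _)
    exact h⟩
  have : IsClosedImmersion (pullback.fst q (redMap e)) :=
    MorphismProperty.pullback_fst _ _ inferInstance
  have : Surjective (pullback.fst q (redMap e)) := MorphismProperty.pullback_fst _ _ inferInstance
  obtain ⟨s, u, hgen, hu, hu1⟩ := exists_frames (pullback.fst q (redMap e)) hL h0 (U := B) hB
  choose b hb using fun p p' => exists_glb_mul q (hB2 p p') (u p p' - 1) (by rw [map_sub, map_one, hu1, sub_self])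
  by_cases he0 : e = 0
  · refine nonempty_iso_of_coboundary hBcov hgen u hu (fun _ => 1) (fun _ => isUnit_one) fun p p' => ?_
    have h := hb p p'
    rw [he0, map_zero, zero_mul, sub_eq_zero] at h
    rw [h, map_one, map_one, mul_one]
  -- the cocycle on the closed fibre
  let i := incl₀ f g
  have H := isPullback_incl₀ f g
  have : IsClosedImmersion (Spec.map (CommRingCat.ofHom (IsLocalRing.residue A))) :=
    IsClosedImmersion.spec_of_surjective _ IsLocalRing.residue_surjective
  have : IsClosedImmersion i := MorphismProperty.of_isPullback H.flip inferInstance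
  let iX : (res₀ f).left ⟶ X := pullback.fst _ _
  let iW : (res₀ g).left ⟶ W := pullback.fst _ _
  have : IsClosedImmersion iX := MorphismProperty.pullback_fst _ _ inferInstance
  have : IsClosedImmersion iW := MorphismProperty.pullback_fst _ _ inferInstance
  have hi : ∀ p, i ⁻¹ᵁ B p = box (iX ⁻¹ᵁ U p.1) (iW ⁻¹ᵁ V p.2) := fun p => by
    simp only [B, box, Scheme.Hom.preimage_inf, ← Scheme.Hom.comp_preimage, i, incl₀, pullback.lift_fst,
      pullback.lift_snd]
    rfl
  have hi2 : ∀ p p', box (iX ⁻¹ᵁ U p.1) (iW ⁻¹ᵁ V p.2) ⊓ box (iX ⁻¹ᵁ U p'.1) (iW ⁻¹ᵁ V p'.2) ≤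
      i ⁻¹ᵁ (B p ⊓ B p') := fun p p' => le_of_eq (by rw [Scheme.Hom.preimage_inf, hi, hi])
  let c := fun p p' => rres (hi2 p p') (i.app _ (b p p'))
  have hcoc : ∀ (p p' p'' : ι × κ) (O : (res₀ f ⊗ res₀ g).left.Opens)
      (hp : O ≤ box (iX ⁻¹ᵁ U p.1) (iW ⁻¹ᵁ V p.2)) (hp' : O ≤ box (iX ⁻¹ᵁ U p'.1) (iW ⁻¹ᵁ V p'.2))
      (hp'' : O ≤ box (iX ⁻¹ᵁ U p''.1) (iW ⁻¹ᵁ V p''.2)),
      rres (le_inf hp hp') (c p p') + rres (le_inf hp' hp'') (c p' p'') = rres (le_inf hp hp'') (c p p'') := by
    intro p p' p'' O hp hp' hp''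
    let T := B p ⊓ B p' ⊓ B p''
    have l1 : T ≤ B p := inf_le_left.trans inf_le_left
    have l2 : T ≤ B p' := inf_le_left.trans inf_le_right
    have l3 : T ≤ B p'' := inf_le_right
    have e1 : ∀ (r r' : ι × κ) (h : T ≤ B r ⊓ B r'), rres h (u r r') = 1 + glb q T e * rres h (b r r') :=
      fun r r' h => by
        rw [← sub_eq_iff_eq_add', ← map_one (rres h).hom, ← map_sub, hb, map_mul, rres_glb]
    have h := transition_mul hgen u hu p p' p'' l1 l2 l3
    rw [e1, e1, e1] at h
    have hsq : glb q T e * glb q T e = 0 := by rw [← map_mul, hee, map_zero]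
    have h4 : glb q T e * (rres (le_inf l1 l2) (b p p') + rres (le_inf l2 l3) (b p' p'') -
        rres (le_inf l1 l3) (b p p'')) = 0 := by
      linear_combination h - (rres (le_inf l1 l2) (b p p') * rres (le_inf l2 l3) (b p' p'')) * hsq
    have h5 := app_residue_eq_zero (i := i) he0 he H.w ((hB2 p p').inf (hB p'')) _ h4
    rw [map_sub, map_add, app_rres, app_rres, app_rres, sub_eq_zero] at h5
    have hOT : O ≤ i ⁻¹ᵁ T := fun z hz =>
      ⟨⟨((hi p).ge) (hp hz), ((hi p').ge) (hp' hz)⟩, ((hi p'').ge) (hp'' hz)⟩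
    have h6 := congrArg (rres hOT) h5
    simpa only [c, map_add, rres_rres] using h6
  -- sections
  let x₀ : 𝟙_ (Over (Spec (CommRingCat.of (IsLocalRing.ResidueField A)))) ⟶ res₀ f :=
    Over.homMk (pullback.lift (Spec.map (CommRingCat.ofHom (IsLocalRing.residue A)) ≫ x) (𝟙 _)
      (by rw [Category.assoc, hx, Category.comp_id, Category.id_comp])) (pullback.lift_snd _ _ _)
  let w₀ : 𝟙_ (Over (Spec (CommRingCat.of (IsLocalRing.ResidueField A)))) ⟶ res₀ g :=
    Over.homMk (pullback.lift (Spec.map (CommRingCat.ofHom (IsLocalRing.residue A)) ≫ w) (𝟙 _)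
      (by rw [Category.assoc, hw, Category.comp_id, Category.id_comp])) (pullback.lift_snd _ _ _)
  let σx : W ⟶ pullback f g :=
    pullback.lift (g ≫ x) (𝟙 W) (by rw [Category.assoc, hx, Category.comp_id, Category.id_comp])
  let σw : X ⟶ pullback f g :=
    pullback.lift (𝟙 X) (f ≫ w) (by rw [Category.assoc, hw, Category.comp_id, Category.id_comp])
  have : IsClosedImmersion σx := by
    have : IsClosedImmersion (σx ≫ pullback.snd f g) := by rw [pullback.lift_snd]; infer_instance
    exact IsClosedImmersion.of_comp σx (pullback.snd f g)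
  have : IsClosedImmersion σw := by
    have : IsClosedImmersion (σw ≫ pullback.fst f g) := by rw [pullback.lift_fst]; infer_instance
    exact IsClosedImmersion.of_comp σw (pullback.fst f g)
  have hqx : σx ≫ q = g := by simp only [σx, q, pullback.lift_snd_assoc, Category.id_comp]
  have hqw : σw ≫ q = f := by
    simp only [σw, q, pullback.lift_snd_assoc, Category.assoc, hw, Category.comp_id]
  have hcx : (lift (toUnit (res₀ g) ≫ x₀) (𝟙 (res₀ g))).left ≫ i = iW ≫ σx := by
    apply pullback.hom_ext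
    · simp only [i, incl₀, σx, Category.assoc, pullback.lift_fst, ← Over.comp_left_assoc, lift_fst]
      simp only [Over.comp_left, Category.assoc, x₀, Over.homMk_left, pullback.lift_fst]
      rw [← Category.assoc, ← Category.assoc]
      exact congrArg (· ≫ x) pullback.condition.symm
    · simp only [i, incl₀, σx, Category.assoc, pullback.lift_snd, ← Over.comp_left_assoc, lift_snd,
        Over.id_left, Category.id_comp, Category.comp_id]
      rfl
  have hcw : (lift (𝟙 (res₀ f)) (toUnit (res₀ f) ≫ w₀)).left ≫ i = iX ≫ σw := by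
    apply pullback.hom_ext
    · simp only [i, incl₀, σw, Category.assoc, pullback.lift_fst, ← Over.comp_left_assoc, lift_fst,
        Over.id_left, Category.id_comp, Category.comp_id]
      rfl
    · simp only [i, incl₀, σw, Category.assoc, pullback.lift_snd, ← Over.comp_left_assoc, lift_snd]
      simp only [Over.comp_left, Category.assoc, w₀, Over.homMk_left, pullback.lift_fst]
      rw [← Category.assoc, ← Category.assoc]
      exact congrArg (· ≫ w) pullback.condition.symm
  obtain ⟨dx, hdx⟩ := exists_slice he0 hem he q g hgA σx hqx (iW := iW) pullback.condition hB hBcov hgen u hu hu1 b hb hsx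
  obtain ⟨dw, hdw⟩ := exists_slice he0 hem he q f hfA σw hqw (iW := iX) pullback.condition hB hBcov hgen u hu hu1 b hb hsw
  have tr : ∀ {Z Z' : Scheme.{u}} (τ : Z ⟶ (res₀ f ⊗ res₀ g).left) (σ : Z' ⟶ pullback f g) (j : Z ⟶ Z')
      (_ : τ ≫ i = j ≫ σ) (d : ∀ p, Γ(Z', σ ⁻¹ᵁ B p))
      (_ : ∀ p p', j.app _ (σ.app _ (b p p')) =
        rres (j.preimage_mono (σ.preimage_mono inf_le_left)) (j.app _ (d p)) -
          rres (j.preimage_mono (σ.preimage_mono inf_le_right)) (j.app _ (d p'))),
      ∃ D : ∀ p, Γ(Z, τ ⁻¹ᵁ box (iX ⁻¹ᵁ U p.1) (iW ⁻¹ᵁ V p.2)), ∀ p p', τ.app _ (c p p') =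
        rres (τ.preimage_mono inf_le_left) (D p) - rres (τ.preimage_mono inf_le_right) (D p') := by
    intro Z Z' τ σ j hτ d hd
    have hpre : ∀ O, τ ⁻¹ᵁ (i ⁻¹ᵁ O) = j ⁻¹ᵁ (σ ⁻¹ᵁ O) := fun O => by
      rw [← Scheme.Hom.comp_preimage, ← Scheme.Hom.comp_preimage, hτ]
    refine ⟨fun p => rres (by rw [← hi, hpre]) (j.app _ (d p)), fun p p' => ?_⟩
    simp only [c, rres_rres]
    rw [app_rres]
    have e1 : τ.app _ (i.app _ (b p p')) = rres (hpre _).le (j.app _ (σ.app _ (b p p'))) := by
      rw [← CommRingCat.comp_apply, ← Scheme.Hom.comp_app, Scheme.Hom.congr_app hτ]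
      rfl
    rw [e1, hd, map_sub, map_sub]
    simp only [rres_rres]
  have : IsSeparated (res₀ f).hom := inferInstanceAs (IsSeparated (pullback.snd f _))
  have : IsSeparated (res₀ g).hom := inferInstanceAs (IsSeparated (pullback.snd g _))
  obtain ⟨h, hh⟩ := CubeH1.exists_primitive x₀ w₀ hX hW (fun j => iX ⁻¹ᵁ U j) (fun a => iW ⁻¹ᵁ V a)
    (fun j => (hU j).preimage iX) (fun a => (hV a).preimage iW) (fun z => hUcov _) (fun z => hVcov _) c hcoc
    (tr _ σx iW hcx dx hdx) (tr _ σw iX hcw dw hdw)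
  -- lifting the primitive
  choose η hη using fun p => i.app_surjective (B p) (hB p) (rres (hi p).le (h p))
  refine nonempty_iso_of_coboundary hBcov hgen u hu (fun p => 1 - glb q _ e * η p) (fun p => ?_) fun p p' => ?_
  · refine IsUnit.of_mul_eq_one (1 + glb q _ e * η p) ?_
    have hsq : glb q (B p) e * glb q (B p) e = 0 := by rw [← map_mul, hee, map_zero]
    linear_combination (-(η p * η p)) * hsq
  have hdiff : glb q _ e * (b p p' - (rres inf_le_left (η p) - rres inf_le_right (η p'))) = 0 := by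
    refine glb_mul_eq_zero he H (hB2 p p') _ ((rres_bijective_of_eq (hi2 p p') ?_).1 ?_)
    · rw [Scheme.Hom.preimage_inf, hi, hi]
    simp only [i] at hη
    simp only [map_sub, map_zero, app_rres, hη, rres_rres, sub_eq_zero]
    exact hh p p'
  have hsq : glb q (B p ⊓ B p') e * glb q (B p ⊓ B p') e = 0 := by rw [← map_mul, hee, map_zero]
  simp only [map_sub, map_one, map_mul, rres_glb]
  have hu' := hb p p'
  linear_combination (1 - glb q _ e * rres inf_le_left (η p)) * hu' + hdiff -
    (rres inf_le_left (η p) * b p p') * hsq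

end Groth.Agent.AbSch51.CubeInf
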