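import Groth.Agent.AbSch51.CubeCls
import Groth.Agent.GrpScheme.PowPullback

/-!
Pullback of classes along multiplication by an integer over any base.
-/

set_option autoImplicit false
universe u

open CategoryTheory MonoidalCategory CartesianMonoidalCategory MonObj AlgebraicGeometry

noncomputable section

namespace Groth.Agent.AbSch51.CubePow

open scoped Groth.Agent.PicLaw
open PicLaw.Mumford (op op_comp)
open CubeCls

/-- The quadratic recurrence. -/
theorem recurrence {G : Type*} [CommGroup G] (f : ℕ → G) (p q : G) (h0 : f 0 = 1) (h1 : f 1 = p)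
    (h : ∀ m, f (m + 1) * f (m + 1) * p * q = f (m + 2) * f m) (n : ℕ) :
    f n = p ^ (n * (n + 1) / 2) * q ^ (n * (n - 1) / 2) := by
  suffices hs : ∀ m, f m = p ^ (m * (m + 1) / 2) * q ^ (m * (m - 1) / 2) ∧
      f (m + 1) = p ^ ((m + 1) * (m + 2) / 2) * q ^ ((m + 1) * m / 2) from (hs n).1
  intro m
  induction m with
  | zero => simp [h0, h1]
  | succ m ih =>
    refine ⟨ih.2, ?_⟩
    have h' := h m
    rw [ih.1, ih.2] at h'
    obtain ⟨a, b, c, ha, hb, hc⟩ : ∃ a b c, m * (m - 1) / 2 = a ∧ (m + 1) * m / 2 = b ∧ (m + 2) * (m + 1) / 2 = c :=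
      ⟨_, _, _, rfl, rfl, rfl⟩
    have hab : b = a + m := by
      subst ha hb
      rcases m with _ | j
      · rfl
      · rw [Nat.succ_sub_one, show (j + 1 + 1) * (j + 1) = (j + 1) * j + 2 * (j + 1) by ring,
          Nat.add_mul_div_left _ _ (by norm_num : 0 < 2)]
    have hbc : c = b + (m + 1) := by
      subst hb hc
      rw [show (m + 2) * (m + 1) = (m + 1) * m + 2 * (m + 1) by ring,
        Nat.add_mul_div_left _ _ (by norm_num : 0 < 2)]
    rw [show (m + 1) * (m + 2) / 2 = c by rw [← hc, Nat.mul_comm],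
      show m * (m + 1) / 2 = b by rw [← hb, Nat.mul_comm], ha, hb] at h'
    rw [show (m + 1 + 1) * (m + 1 + 2) / 2 = c + (m + 2) by
        rw [← hc, show (m + 1 + 1) * (m + 1 + 2) = (m + 2) * (m + 1) + 2 * (m + 2) by ring,
          Nat.add_mul_div_left _ _ (by norm_num : 0 < 2)],
      show (m + 1 + 1) * (m + 1) / 2 = c by rw [← hc]]
    generalize f (m + 1 + 1) = z at h'
    have key : z = p ^ c * q ^ b * (p ^ c * q ^ b) * p * q / (p ^ b * q ^ a) :=
      eq_div_of_mul_eq' h'.symm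
    rw [key, div_eq_iff_eq_mul, hbc, hab]
    simp only [pow_add, pow_succ, pow_zero, _root_.one_mul]
    ac_rfl

variable {S : Scheme.{u}} {X : Over S} [GrpObj X] [IsProper X.hom] [Flat X.hom]
  [LocallyOfFinitePresentation X.hom] [GeometricallyReduced X.hom] [GeometricallyConnected X.hom]
  {V : Over S} (l : PicLoc.PicSet X.left) (x : V ⟶ X)

/-- `[n]^* l · ε^(n²) = l^(n(n+1)/2) · [-1]^* l^(n(n-1)/2) · ε` with `ε` the class at the unit. -/
theorem op_pow (n : ℕ) :
    op (x ^ n) l * op (1 : V ⟶ X) l ^ (n ^ 2) =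
      op x l ^ (n * (n + 1) / 2) * op x⁻¹ l ^ (n * (n - 1) / 2) * op (1 : V ⟶ X) l := by
  set ε := op (1 : V ⟶ X) l with hε
  have h := recurrence (fun m => op (x ^ m) l / ε) (op x l / ε) (op x⁻¹ l / ε) (by simp [hε]) (by simp)
    (fun m => by
      have hc := div_eq_one.mp (cube_eq_one l (x ^ (m + 1)) x x⁻¹)
      rw [mul_inv_cancel_right, mul_inv_cancel, ← pow_succ,
        show x ^ (m + 1) * x⁻¹ = x ^ m by rw [pow_succ, mul_inv_cancel_right]] at hc
      simp only [div_mul_div_comm]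
      rw [hc, ← hε]
      simp only [div_eq_mul_inv, mul_inv]
      generalize op (x ^ (m + 1 + 1)) l = A
      generalize op (x ^ m) l = B
      generalize ε = E
      calc A * B * E * E * (E⁻¹ * E⁻¹ * E⁻¹ * E⁻¹)
          = A * E⁻¹ * (B * E⁻¹) * ((E * E⁻¹) * (E * E⁻¹)) := by ac_rfl
        _ = _ := by simp only [div_eq_mul_inv, mul_inv, mul_inv_cancel, _root_.mul_one]; ac_rfl) n
  rw [div_eq_iff_eq_mul] at h
  rw [h, div_pow, div_pow]
  have hn : n * (n + 1) / 2 + n * (n - 1) / 2 = n ^ 2 := by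
    rcases n with _ | j
    · simp
    · rw [Nat.succ_sub_one, show (j + 1) * (j + 1 + 1) = (j + 1) * j + 2 * (j + 1) by ring,
        Nat.add_mul_div_left _ _ (by norm_num : 0 < 2)]
      have h2 := Nat.even_mul_succ_self j
      obtain ⟨r, hr⟩ := h2
      rw [mul_comm (j + 1) j, hr, show (r + r) / 2 = r by omega]
      nlinarith
  rw [← hn, pow_add, div_mul_div_comm, mul_right_comm, div_mul_cancel]

theorem op_zpow (n : ℤ) :
    op (x ^ n) l * op (1 : V ⟶ X) l ^ (n.natAbs ^ 2) =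
      op x l ^ ((n ^ 2 + n) / 2).toNat * op x⁻¹ l ^ ((n ^ 2 - n) / 2).toNat * op (1 : V ⟶ X) l := by
  have hcast : ∀ m : ℕ, (((m : ℤ) ^ 2 + m) / 2).toNat = m * (m + 1) / 2 ∧
      (((m : ℤ) ^ 2 - m) / 2).toNat = m * (m - 1) / 2 := fun m => by
    have h1 : ((m : ℤ) ^ 2 + m) = ((m * (m + 1) : ℕ) : ℤ) := by push_cast; ring
    have h2 : ((m : ℤ) ^ 2 - m) = ((m * (m - 1) : ℕ) : ℤ) := by
      rcases m with _ | j
      · simp
      · rw [Nat.succ_sub_one]; push_cast; ring
    rw [h1, h2]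
    exact ⟨by omega, by omega⟩
  rcases Int.eq_nat_or_neg n with ⟨m, rfl | rfl⟩
  · rw [Int.natAbs_natCast, zpow_natCast, (hcast m).1, (hcast m).2]
    exact op_pow l x m
  · rw [Int.natAbs_neg, Int.natAbs_natCast, zpow_neg, zpow_natCast, ← inv_pow,
      show ((-(m : ℤ)) ^ 2 + -(m : ℤ)) = (m : ℤ) ^ 2 - m by ring,
      show ((-(m : ℤ)) ^ 2 - -(m : ℤ)) = (m : ℤ) ^ 2 + m by ring, (hcast m).1, (hcast m).2, op_pow l x⁻¹ m,
      inv_inv]
    ac_rfl

end Groth.Agent.AbSch51.CubePow
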