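import Groth.Agent.AbSch51.CubeInf
import Groth.Agent.AbSch51.ConstFun
import Groth.Agent.S7817
import Groth.Agent.ProjForm.Unit
import Groth.Agent.GrpdLib.DimOnePts

/-!
Invertible modules on a product of two proper flat families trivial on both slices: the points of the base
over which they are trivial form an open subscheme over which they are trivial.
-/

set_option autoImplicit false
set_option linter.style.haveILetI false
universe u

open CategoryTheory CategoryTheory.Limits AlgebraicGeometry

noncomputable section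

namespace Groth.Agent.AbSch51.CubeRel

theorem bijective_glb {R : Type u} [CommRing R] {Y : Scheme.{u}} (y : Y ⟶ Spec (CommRingCat.of R))
    [IsProper y] [Flat y] [LocallyOfFinitePresentation y] [GeometricallyConnected y] [GeometricallyReduced y] :
    Function.Bijective (Cube.glb y ⊤) := by
  have h := ConstFun.bijective_appTop_of_isAffine y ⊤
  rw [Scheme.Hom.app_eq_appLE] at h
  exact h.comp (ConcreteCategory.bijective_of_isIso (Scheme.ΓSpecIso (CommRingCat.of R)).inv)

/-- Transport of triviality along an equality of compositions. -/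
theorem trivial_comp {Y Z W : Scheme.{u}} {a : Y ⟶ Z} {b : Z ⟶ W} {c : Y ⟶ W} (h : a ≫ b = c) (M : W.Modules)
    (hb : Nonempty ((Scheme.Modules.pullback b).obj M ≅ Coh.structureModule Z)) :
    Nonempty ((Scheme.Modules.pullback c).obj M ≅ Coh.structureModule Y) := by
  obtain ⟨e⟩ := hb
  exact ⟨(Scheme.Modules.pullbackCongr h.symm).app M ≪≫ ((Scheme.Modules.pullbackComp a b).app M).symm ≪≫
    (Scheme.Modules.pullback a).mapIso e ≪≫ QCoh.pullbackUnitIso a⟩

variable {S X W : Scheme.{u}} (f : X ⟶ S) (g : W ⟶ S)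
  [IsProper f] [Flat f] [LocallyOfFinitePresentation f] [GeometricallyConnected f] [GeometricallyReduced f]
  [IsProper g] [Flat g] [LocallyOfFinitePresentation g] [GeometricallyConnected g] [GeometricallyReduced g]
  (x : S ⟶ X) (hx : x ≫ f = 𝟙 S) (w : S ⟶ W) (hw : w ≫ g = 𝟙 S)

/-- Triviality on the two slices. -/
def Slices (L : (pullback f g).Modules) : Prop :=
  Nonempty ((Scheme.Modules.pullback (pullback.lift (g ≫ x) (𝟙 W)
      (by rw [Category.assoc, hx, Category.comp_id, Category.id_comp]))).obj L ≅ Coh.structureModule W) ∧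
    Nonempty ((Scheme.Modules.pullback (pullback.lift (𝟙 X) (f ≫ w)
      (by rw [Category.assoc, hw, Category.comp_id, Category.id_comp]))).obj L ≅ Coh.structureModule X)

variable {f g x hx w hw} {L : (pullback f g).Modules}

omit [IsProper f] [Flat f] [LocallyOfFinitePresentation f] [GeometricallyConnected f] [GeometricallyReduced f]
  [IsProper g] [Flat g] [LocallyOfFinitePresentation g] [GeometricallyConnected g] [GeometricallyReduced g] in
/-- Trivial along the double section. -/
theorem trivial_section (hs : Slices f g x hx w hw L) :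
    Nonempty ((Scheme.Modules.pullback (pullback.lift x w (hx.trans hw.symm) : S ⟶ pullback f g)).obj L ≅
      Coh.structureModule S) :=
  trivial_comp (a := w) (by
    apply pullback.hom_ext
    · rw [Category.assoc, pullback.lift_fst, pullback.lift_fst, reassoc_of% hw]
    · rw [Category.assoc, pullback.lift_snd, pullback.lift_snd, Category.comp_id]) L hs.1

omit [IsProper f] [Flat f] [LocallyOfFinitePresentation f] [GeometricallyConnected f] [GeometricallyReduced f]
  [IsProper g] [Flat g] [LocallyOfFinitePresentation g] [GeometricallyConnected g] [GeometricallyReduced g] in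
/-- Being pulled back from the base and being trivial agree. -/
theorem from_base_iff (hs : Slices f g x hx w hw L) {T : Scheme.{u}} (u : T ⟶ S) :
    (∃ M : T.Modules, FlatMod.IsFinLocFree M ∧
      Nonempty ((Scheme.Modules.pullback (pullback.fst (pullback.snd f g ≫ g) u)).obj L ≅
        (Scheme.Modules.pullback (pullback.snd (pullback.snd f g ≫ g) u)).obj M)) ↔
      Nonempty ((Scheme.Modules.pullback (pullback.fst (pullback.snd f g ≫ g) u)).obj L ≅ Coh.structureModule _) := by
  refine ⟨fun ⟨M, hM, ⟨e⟩⟩ => ?_, fun ⟨e⟩ =>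
    ⟨Coh.structureModule T, ProjForm.isFinLocFree_of_isInvertible (PicLoc.isInvertible_structureModule T),
      ⟨e ≪≫ (QCoh.pullbackUnitIso _).symm⟩⟩⟩
  let σ : T ⟶ pullback (pullback.snd f g ≫ g) u :=
    pullback.lift (u ≫ pullback.lift x w (hx.trans hw.symm)) (𝟙 T)
      (by rw [Category.assoc, pullback.lift_snd_assoc, hw, Category.comp_id, Category.id_comp])
  obtain ⟨e1⟩ := trivial_comp (a := u) (c := σ ≫ pullback.fst (pullback.snd f g ≫ g) u)
    (by rw [pullback.lift_fst]) L (trivial_section hs)
  let eM : M ≅ Coh.structureModule T :=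
    ((Scheme.Modules.pullbackId T).app M).symm ≪≫
    (Scheme.Modules.pullbackCongr (show (𝟙 T) = σ ≫ pullback.snd (pullback.snd f g ≫ g) u from
      (pullback.lift_snd _ _ _).symm)).app M ≪≫
    ((Scheme.Modules.pullbackComp _ _).app M).symm ≪≫
    (Scheme.Modules.pullback σ).mapIso e.symm ≪≫ (Scheme.Modules.pullbackComp _ _).app L ≪≫ e1
  exact ⟨e ≪≫ (Scheme.Modules.pullback _).mapIso eM ≪≫ QCoh.pullbackUnitIso _⟩

variable {Z : Scheme.{u}} {ι : Z ⟶ S}

omit [IsProper f] [Flat f] [LocallyOfFinitePresentation f] [GeometricallyConnected f] [GeometricallyReduced f]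
  [IsProper g] [Flat g] [LocallyOfFinitePresentation g] [GeometricallyConnected g] [GeometricallyReduced g] in
theorem trivial_of_factor
    (hι : ∀ (T : Scheme.{u}) (u : T ⟶ S), (∃ u' : T ⟶ Z, u' ≫ ι = u) ↔
      Nonempty ((Scheme.Modules.pullback (pullback.fst (pullback.snd f g ≫ g) u)).obj L ≅ Coh.structureModule _))
    {T T' : Scheme.{u}} {t : T' ⟶ pullback f g} {r : T' ⟶ T} {u : T ⟶ S} (u' : T ⟶ Z) (hu : u' ≫ ι = u)
    (h : t ≫ pullback.snd f g ≫ g = r ≫ u) :
    Nonempty ((Scheme.Modules.pullback t).obj L ≅ Coh.structureModule T') :=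
  trivial_comp (pullback.lift_fst t r h) L ((hι T u).1 ⟨u', hu⟩)

set_option maxHeartbeats 1000000 in
/-- Descending one element killed by the maximal ideal. -/
theorem factor_step (hL : PicF.IsInvertible L) (hs : Slices f g x hx w hw L)
    (hι : ∀ (T : Scheme.{u}) (u : T ⟶ S), (∃ u' : T ⟶ Z, u' ≫ ι = u) ↔
      Nonempty ((Scheme.Modules.pullback (pullback.fst (pullback.snd f g ≫ g) u)).obj L ≅ Coh.structureModule _))
    {R : Type u} [CommRing R] [IsLocalRing R] (v : Spec (CommRingCat.of R) ⟶ S)
    (e : R) (hem : e ∈ IsLocalRing.maximalIdeal R) (he : ∀ r ∈ IsLocalRing.maximalIdeal R, r * e = 0)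
    (h : ∃ u', u' ≫ ι = CubeInf.redMap e ≫ v) : ∃ u', u' ≫ ι = v := by
  rw [hι]
  let fR := pullback.snd f v
  let gR := pullback.snd g v
  have := fun (a : Spec (CommRingCat.of R) ⟶ S) => (inferInstance : IsProper (pullback.snd f a))
  let m : pullback fR gR ⟶ pullback f g :=
    pullback.map fR gR f g (pullback.fst f v) (pullback.fst g v) v pullback.condition.symm pullback.condition.symm
  have hm : m ≫ pullback.snd f g ≫ g = (pullback.snd fR gR ≫ gR) ≫ v := by
    simp only [m, pullback.map, pullback.lift_snd_assoc, Category.assoc]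
    rw [pullback.condition]
  obtain ⟨u', hu'⟩ := h
  have hfR : Function.Bijective (Cube.glb (pullback.snd fR (CubeInf.redMap e)) ⊤) := bijective_glb _
  have hgR : Function.Bijective (Cube.glb (pullback.snd gR (CubeInf.redMap e)) ⊤) := bijective_glb _
  have hsurj : ∀ {Y : Scheme.{u}} (y : Y ⟶ Spec (CommRingCat.of R)) [IsProper y] [Flat y]
      [LocallyOfFinitePresentation y] [GeometricallyConnected y] [GeometricallyReduced y],
      Function.Surjective (Cube.str (CubeInf.res₀ y) ⊤) := fun y =>
    (bijective_glb (pullback.snd y (Spec.map (CommRingCat.ofHom (IsLocalRing.residue R))))).2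
  let xR : Spec (CommRingCat.of R) ⟶ pullback f v :=
    pullback.lift (v ≫ x) (𝟙 _) (by rw [Category.assoc, hx, Category.comp_id, Category.id_comp])
  let wR : Spec (CommRingCat.of R) ⟶ pullback g v :=
    pullback.lift (v ≫ w) (𝟙 _) (by rw [Category.assoc, hw, Category.comp_id, Category.id_comp])
  have htriv := CubeInf.trivial_of_mod fR gR e hem he hfR hgR (hsurj fR) (hsurj gR) xR (pullback.lift_snd _ _ _)
    wR (pullback.lift_snd _ _ _) ((Scheme.Modules.pullback m).obj L) (PicLoc.isInvertible_pullback m hL)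
    (by
      obtain ⟨e1⟩ := trivial_of_factor hι (t := pullback.fst (pullback.snd fR gR ≫ gR) (CubeInf.redMap e) ≫ m)
        (r := pullback.snd (pullback.snd fR gR ≫ gR) (CubeInf.redMap e)) u' hu'
        (by rw [Category.assoc, hm, ← Category.assoc, pullback.condition, Category.assoc])
      exact ⟨(Scheme.Modules.pullbackComp _ _).app L ≪≫ e1⟩)
    (by
      obtain ⟨e1⟩ := trivial_comp (a := pullback.fst g v) (c := pullback.lift (gR ≫ xR) (𝟙 _)
          (by rw [Category.assoc, pullback.lift_snd, Category.comp_id, Category.id_comp]) ≫ m) (by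
        apply pullback.hom_ext
        · simp only [m, xR, gR, fR, Category.assoc, pullback.map, pullback.lift_fst, pullback.lift_fst_assoc]
          rw [← Category.assoc, pullback.condition, Category.assoc]
        · simp only [m, xR, gR, fR, Category.assoc, pullback.map, pullback.lift_snd, pullback.lift_snd_assoc,
            Category.id_comp, Category.comp_id]) L hs.1
      exact ⟨(Scheme.Modules.pullbackComp _ _).app L ≪≫ e1⟩)
    (by
      obtain ⟨e1⟩ := trivial_comp (a := pullback.fst f v) (c := pullback.lift (𝟙 _) (fR ≫ wR)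
          (by rw [Category.assoc, pullback.lift_snd, Category.comp_id, Category.id_comp]) ≫ m) (by
        apply pullback.hom_ext
        · simp only [m, wR, gR, fR, Category.assoc, pullback.map, pullback.lift_fst, pullback.lift_fst_assoc,
            Category.id_comp, Category.comp_id]
        · simp only [m, wR, gR, fR, Category.assoc, pullback.map, pullback.lift_snd, pullback.lift_snd_assoc,
            pullback.lift_fst]
          rw [← Category.assoc, pullback.condition, Category.assoc]) L hs.2
      exact ⟨(Scheme.Modules.pullbackComp _ _).app L ≪≫ e1⟩)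
  obtain ⟨e2⟩ := htriv
  let j : pullback (pullback.snd f g ≫ g) v ⟶ pullback fR gR :=
    pullback.lift
      (pullback.lift (pullback.fst _ _ ≫ pullback.fst f g) (pullback.snd _ _)
        (by rw [Category.assoc, pullback.condition (f := f), pullback.condition]))
      (pullback.lift (pullback.fst _ _ ≫ pullback.snd f g) (pullback.snd _ _)
        (by rw [Category.assoc, pullback.condition]))
      (by rw [pullback.lift_snd, pullback.lift_snd])
  refine trivial_comp (a := j) (b := m) ?_ L ⟨e2⟩
  apply pullback.hom_ext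
  · simp only [j, m, Category.assoc, pullback.map, pullback.lift_fst, pullback.lift_fst_assoc]
  · simp only [j, m, Category.assoc, pullback.map, pullback.lift_snd, pullback.lift_snd_assoc, pullback.lift_fst]

/-- The reduction of a point of the base. -/
abbrev modMap {A : Type u} [CommRing A] (I : Ideal A) :
    Spec (CommRingCat.of (A ⧸ I)) ⟶ Spec (CommRingCat.of A) :=
  Spec.map (CommRingCat.ofHom (Ideal.Quotient.mk I))

/-- The spectrum of a local ring at a point of the locus factors through it. -/
theorem factor_stalk (hL : PicF.IsInvertible L) (hs : Slices f g x hx w hw L)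
    [IsImmersion ι] [LocallyOfFinitePresentation ι]
    (hι : ∀ (T : Scheme.{u}) (u : T ⟶ S), (∃ u' : T ⟶ Z, u' ≫ ι = u) ↔
      Nonempty ((Scheme.Modules.pullback (pullback.fst (pullback.snd f g ≫ g) u)).obj L ≅ Coh.structureModule _))
    (z : Z) : ∃ u', u' ≫ ι = S.fromSpecStalk (ι z) := by
  let A := S.presheaf.stalk (ι z)
  let v := S.fromSpecStalk (ι z)
  let ιA := pullback.snd ι v
  -- a closed immersion
  have hclosed : IsLocalRing.closedPoint A ∈ Set.range ιA := by
    rw [Scheme.Pullback.range_snd]
    exact ⟨z, Scheme.fromSpecStalk_closedPoint.symm⟩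
  have : IsClosedImmersion ιA := by
    have hcob : (ιA.coborderRange : Set (Spec A)) = Set.univ := by
      refine Set.eq_univ_of_forall fun p => ?_
      exact (IsLocalRing.specializes_closedPoint p).mem_open ιA.coborderRange.isOpen
        (subset_coborder hclosed)
    have : IsIso ιA.coborderRange.ι := by
      rw [show ιA.coborderRange = ⊤ from TopologicalSpace.Opens.ext hcob]
      exact inferInstanceAs (IsIso (Scheme.topIso _).hom)
    rw [← ιA.liftCoborder_ι]
    infer_instance
  obtain ⟨J, e, he⟩ := IsClosedImmersion.Spec_iff.mp (inferInstance : IsClosedImmersion ιA)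
  have hJle : J ≤ IsLocalRing.maximalIdeal A := by
    refine IsLocalRing.le_maximalIdeal fun hJ => ?_
    obtain ⟨p, hp⟩ := hclosed
    have hmem : IsLocalRing.closedPoint A ∈ Set.range (PrimeSpectrum.comap (Ideal.Quotient.mk J)) := by
      rw [he] at hp
      exact ⟨e.hom p, hp⟩
    rw [range_comap_of_surjective _ _ Ideal.Quotient.mk_surjective, Ideal.mk_ker] at hmem
    exact (IsLocalRing.closedPoint A).isPrime.ne_top (top_unique (hJ ▸ hmem))
  have hfp : LocallyOfFinitePresentation (modMap J) := by
    have : e.inv ≫ ιA = modMap J := by rw [he, Iso.inv_hom_id_assoc]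
    rw [← this]
    infer_instance
  have hJfg : J.FG := by
    have := (HasRingHomProperty.Spec_iff (P := @LocallyOfFinitePresentation)).mp hfp
    rw [CommRingCat.hom_ofHom] at this
    have hfp2 := this
    let := (Ideal.Quotient.mk J).toAlgebra
    have : Algebra.FinitePresentation A (A ⧸ J) := hfp2
    have h2 := Algebra.FinitePresentation.ker_fG_of_surjective (Algebra.ofId A (A ⧸ J)) Ideal.Quotient.mk_surjective
    rwa [show RingHom.ker (Algebra.ofId A (A ⧸ J)).toRingHom = J from Ideal.mk_ker] at h2
  let T : Ideal A → Prop := fun I => ∃ u', u' ≫ ι = modMap I ≫ v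
  have hTJ : T J := ⟨e.inv ≫ pullback.fst ι v, by
    rw [Category.assoc, pullback.condition, ← Category.assoc]
    congr 1
    show e.inv ≫ ιA = _
    rw [he, Iso.inv_hom_id_assoc]⟩
  have hmono : ∀ {I I' : Ideal A}, I ≤ I' → T I → T I' := fun {I I'} h ⟨u', hu'⟩ =>
    ⟨Spec.map (CommRingCat.ofHom (Ideal.Quotient.factor h)) ≫ u', by
      rw [Category.assoc, hu', ← Category.assoc, ← Spec.map_comp, ← CommRingCat.ofHom_comp,
        Ideal.Quotient.factor_comp_mk]⟩
  -- one more element
  have hstep : ∀ (I : Ideal A) (a : A), I ≤ IsLocalRing.maximalIdeal A → a ∈ IsLocalRing.maximalIdeal A →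
      (∀ r ∈ IsLocalRing.maximalIdeal A, r * a ∈ I) → T (I ⊔ Ideal.span {a}) → T I := by
    intro I a hI ha hra ⟨u', hu'⟩
    have hne : I ≠ ⊤ := ne_top_of_le_ne_top Ideal.IsPrime.ne_top' hI
    have : Nontrivial (A ⧸ I) := Ideal.Quotient.nontrivial_iff.mpr hne
    have : IsLocalRing (A ⧸ I) := .of_surjective' (Ideal.Quotient.mk I) Ideal.Quotient.mk_surjective
    have : IsLocalHom (Ideal.Quotient.mk I) :=
      isLocalHom_of_le_jacobson_bot _ (by rw [IsLocalRing.jacobson_eq_maximalIdeal _ bot_ne_top]; exact hI)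
    refine factor_step hL hs hι (modMap I ≫ v) (Ideal.Quotient.mk I a) ?_ ?_ ?_
    · exact (map_mem_nonunits_iff (Ideal.Quotient.mk I) a).mpr ha
    · intro r hr
      obtain ⟨r, rfl⟩ := Ideal.Quotient.mk_surjective r
      rw [← map_mul, Ideal.Quotient.eq_zero_iff_mem]
      exact hra r (fun hu => hr (hu.map _))
    · let φ : A →+* (A ⧸ I) ⧸ Ideal.span {Ideal.Quotient.mk I a} :=
        (Ideal.Quotient.mk _).comp (Ideal.Quotient.mk I)
      have hker : ∀ y ∈ I ⊔ Ideal.span {a}, φ y = 0 := by
        show I ⊔ Ideal.span {a} ≤ RingHom.ker φ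
        refine sup_le (fun y hy => ?_) (Ideal.span_le.mpr fun y hy => ?_)
        · simp only [φ, RingHom.mem_ker, RingHom.comp_apply, Ideal.Quotient.eq_zero_iff_mem.mpr hy, map_zero]
        · rw [Set.mem_singleton_iff] at hy
          subst hy
          exact Ideal.Quotient.eq_zero_iff_mem.mpr (Ideal.mem_span_singleton_self _)
      refine ⟨Spec.map (CommRingCat.ofHom (Ideal.Quotient.lift _ φ hker)) ≫ u', ?_⟩
      rw [Category.assoc, hu', ← Category.assoc, ← Category.assoc, ← Spec.map_comp, ← Spec.map_comp]
      rfl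
  obtain ⟨s, hsJ⟩ := hJfg
  let I₀ := IsLocalRing.maximalIdeal A * J
  have hall : ∀ t : Finset A, t ⊆ s → T (I₀ ⊔ Ideal.span (t : Set A)) → T I₀ := by
    classical
    intro t
    induction t using Finset.induction with
    | empty => intro _ h; simpa using h
    | insert a t hat ih =>
      intro hts h
      rw [Finset.insert_subset_iff] at hts
      refine ih hts.2 (hstep _ a ?_ (hJle (hsJ ▸ Ideal.subset_span hts.1)) (fun r hr => ?_) ?_)
      · refine sup_le ((Ideal.mul_le_right).trans hJle) (le_trans ?_ hJle)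
        exact hsJ ▸ Ideal.span_mono (Finset.coe_subset.mpr hts.2)
      · exact Ideal.mem_sup_left (Ideal.mul_mem_mul hr (hsJ ▸ Ideal.subset_span hts.1))
      · refine hmono (le_of_eq ?_) h
        rw [Finset.coe_insert, Ideal.span_insert, sup_comm (Ideal.span {a}), sup_assoc]
  obtain ⟨u', hu'⟩ := hall s subset_rfl (hmono (le_of_eq_of_le hsJ.symm le_sup_right) hTJ)
  -- the kernel
  have hJ0 : J = ⊥ := by
    let l : Spec (CommRingCat.of (A ⧸ I₀)) ⟶ pullback ι v := pullback.lift u' (modMap I₀) hu'
    obtain ⟨ψ, hψ⟩ := Spec.map_surjective (l ≫ e.hom)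
    have h2 : Spec.map (CommRingCat.ofHom (Ideal.Quotient.mk J) ≫ ψ) =
        Spec.map (CommRingCat.ofHom (Ideal.Quotient.mk I₀)) := by
      rw [Spec.map_comp, hψ, Category.assoc]
      show l ≫ e.hom ≫ modMap J = modMap I₀
      rw [← he]
      exact pullback.lift_snd _ _ _
    have h3 := congrArg CommRingCat.Hom.hom (Spec.map_injective h2)
    refine Submodule.eq_bot_of_le_smul_of_le_jacobson_bot (IsLocalRing.maximalIdeal A) J ⟨s, hsJ⟩ ?_
      (IsLocalRing.maximalIdeal_le_jacobson _)
    intro y hy
    rw [smul_eq_mul]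
    refine Ideal.Quotient.eq_zero_iff_mem.mp ((RingHom.congr_fun h3 y).symm.trans ?_)
    show ψ.hom (Ideal.Quotient.mk J y) = 0
    rw [Ideal.Quotient.eq_zero_iff_mem.mpr hy, map_zero]
  have : IsIso (modMap J) := by
    subst hJ0
    have : IsIso (CommRingCat.ofHom (Ideal.Quotient.mk (⊥ : Ideal A))) :=
      (ConcreteCategory.isIso_iff_bijective _).mpr
        ⟨(RingHom.injective_iff_ker_eq_bot _).mpr (Ideal.mk_ker), Ideal.Quotient.mk_surjective⟩
    infer_instance
  obtain ⟨u'', hu''⟩ := hTJ
  exact ⟨inv (modMap J) ≫ u'', by rw [Category.assoc, hu'', IsIso.inv_hom_id_assoc]⟩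

/-- Flatness of the locus. -/
theorem isOpenImmersion_of_factor_stalk [IsImmersion ι] [LocallyOfFinitePresentation ι]
    (h : ∀ z, ∃ u', u' ≫ ι = S.fromSpecStalk (ι z)) : IsOpenImmersion ι := by
  have hstalk : ∀ z, IsIso (ι.stalkMap z) := by
    intro z
    obtain ⟨u', hu'⟩ := h z
    have hz : u' (IsLocalRing.closedPoint _) = z := by
      apply ι.isEmbedding.injective
      rw [← Scheme.Hom.comp_apply, hu', Scheme.fromSpecStalk_closedPoint]
    refine (ConcreteCategory.isIso_iff_bijective _).mpr ⟨?_, ι.stalkMap_surjective z⟩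
    have e := Scheme.Hom.stalkMap_congr_hom _ _ hu' (IsLocalRing.closedPoint _)
    have hiso : IsIso ((u' ≫ ι).stalkMap (IsLocalRing.closedPoint _)) := by
      have := GrpdLib.DimOnePts.isIso_stalkMap_fromSpecStalk (ι z) (IsLocalRing.closedPoint _)
      rw [e]; infer_instance
    rw [Scheme.Hom.stalkMap_comp] at hiso
    have hinj : Function.Injective (ι.stalkMap (u' (IsLocalRing.closedPoint (S.presheaf.stalk (ι z))))) :=
      fun a b hab => ((ConcreteCategory.isIso_iff_bijective _).mp hiso).1
        (congrArg (u'.stalkMap (IsLocalRing.closedPoint _)) hab)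
    rwa [hz] at hinj
  have : Flat ι := Flat.of_stalkMap ι fun z =>
    RingHom.Flat.of_bijective (have := hstalk z; ConcreteCategory.bijective_of_isIso (ι.stalkMap z))
  exact IsOpenImmersion.of_isIso_stalkMap ι (.of_isEmbedding_isOpenMap ι.isEmbedding ι.isOpenMap)

/-- **The open locus of triviality.** -/
theorem exists_open_trivial [GeometricallyConnected (pullback.snd f g ≫ g)]
    [GeometricallyReduced (pullback.snd f g ≫ g)] (hL : PicF.IsInvertible L) (hs : Slices f g x hx w hw L) :
    ∃ U : S.Opens,
      (∀ s : S, s ∈ U ↔ Nonempty ((Scheme.Modules.pullback ((pullback.snd f g ≫ g).fiberι s)).obj L ≅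
        Coh.structureModule _)) ∧
      ∀ {T : Scheme.{u}} (t : T ⟶ pullback f g), (∀ y, (t ≫ pullback.snd f g ≫ g) y ∈ U) →
        Nonempty ((Scheme.Modules.pullback t).obj L ≅ Coh.structureModule T) := by
  obtain ⟨Z, ι, _, _, -, hfac, -⟩ := S7817.result (pullback.snd f g ≫ g) L (ProjForm.isFinLocFree_of_isInvertible hL)
  have hι : ∀ (T : Scheme.{u}) (u : T ⟶ S), (∃ u' : T ⟶ Z, u' ≫ ι = u) ↔
      Nonempty ((Scheme.Modules.pullback (pullback.fst (pullback.snd f g ≫ g) u)).obj L ≅ Coh.structureModule _) :=
    fun T u => (hfac T u).trans (from_base_iff hs u)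
  have : IsOpenImmersion ι := isOpenImmersion_of_factor_stalk fun z => factor_stalk hL hs hι z
  refine ⟨ι.opensRange, fun s => ⟨?_, fun h => ?_⟩, fun {T} t ht => ?_⟩
  · rintro ⟨z, rfl⟩
    have := S7817.isIso_residueFieldMap ι z
    exact (hι _ _).1 ⟨Spec.map (inv (ι.residueFieldMap z)) ≫ Z.fromSpecResidueField z, by
      rw [Category.assoc, ← Scheme.Hom.SpecMap_residueFieldMap_fromSpecResidueField, ← Category.assoc,
        ← Spec.map_comp, IsIso.hom_inv_id, Spec.map_id, Category.id_comp]⟩
  · obtain ⟨u', hu'⟩ := (hι _ (S.fromSpecResidueField s)).2 h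
    exact ⟨u' (IsLocalRing.closedPoint (S.residueField s)), by
      rw [← Scheme.Hom.comp_apply, hu', Scheme.fromSpecResidueField_apply]⟩
  · refine trivial_of_factor hι (r := 𝟙 T) (u := t ≫ pullback.snd f g ≫ g)
      (IsOpenImmersion.lift ι _ (by rintro _ ⟨y, rfl⟩; exact ht y)) (IsOpenImmersion.lift_fac _ _ _)
      (Category.id_comp _).symm

end Groth.Agent.AbSch51.CubeRel
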