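import Groth.Agent.S0034
import Groth.Agent.Wt.Degree
import Groth.Agent.EulerChar.Basic
import Mathlib.LinearAlgebra.Dimension.Constructions

/-!
Euler characteristics after a finite base change over a field.
-/

set_option autoImplicit false

universe u

open CategoryTheory CategoryTheory.Limits AlgebraicGeometry
open scoped TensorProduct

noncomputable section

namespace Groth.Agent.AbSch51.FinBC

lemma toGlobal_comp_SpecMap {R S : Type u} [CommRing R] [CommRing S] {X : Scheme.{u}} (q : X ⟶ Spec (CommRingCat.of S))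
    (φ : CommRingCat.of R ⟶ CommRingCat.of S) :
    Coh.toGlobal (q ≫ Spec.map φ) = (Coh.toGlobal q).comp φ.hom := by
  refine RingHom.ext fun r => ?_
  change (q ≫ Spec.map φ).appTop ((Scheme.ΓSpecIso (CommRingCat.of R)).inv r) =
    q.appTop ((Scheme.ΓSpecIso (CommRingCat.of S)).inv (φ r))
  rw [Scheme.Hom.comp_appTop]
  exact congrArg q.appTop (ConcreteCategory.congr_hom (Scheme.ΓSpecIso_inv_naturality φ).symm r)

variable (k : Type u) [Field k] {X Z N : Scheme.{u}} [X.Over (Spec (CommRingCat.of k))]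
  [Z.Over (Spec (CommRingCat.of k))] [IsProper (X ↘ Spec (CommRingCat.of k))]

/-- `χ(X ×_k N, G) = χ(X, G) · deg N` for `N` finite over `k`. -/
theorem euler_baseChange_finite (p : Z ⟶ X) (q : Z ⟶ N) (π : N ⟶ Spec (CommRingCat.of k)) [IsFinite π]
    (h : IsPullback p q (X ↘ Spec (CommRingCat.of k)) π)
    (w : p ≫ (X ↘ Spec (CommRingCat.of k)) = Z ↘ Spec (CommRingCat.of k))
    (G : X.Modules) (hG : Coh.IsQCoh G) (v : Spec (CommRingCat.of k)) :
    Curv2.euler k Z ((Scheme.Modules.pullback p).obj G) = (π.finrank v : ℤ) * Curv2.euler k X G := by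
  have : IsAffine N := isAffine_of_isAffineHom π
  have : CompactSpace X := EulerChar.compactSpace k
  have : QuasiSeparatedSpace X :=
    quasiSeparatedSpace_of_quasiSeparated (X ↘ Spec (CommRingCat.of k))
  let φ : CommRingCat.of k ⟶ Γ(N, ⊤) := (Scheme.ΓSpecIso (CommRingCat.of k)).inv ≫ π.appTop
  letI : Algebra k Γ(N, ⊤) := φ.hom.toAlgebra
  letI : Z.Over (Spec (CommRingCat.of Γ(N, ⊤))) := ⟨q ≫ N.isoSpec.hom⟩
  have hπ : N.isoSpec.hom ≫ Spec.map φ = π := by
    rw [Spec.map_comp, Scheme.isoSpec_hom_naturality_assoc]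
    simp [Scheme.isoSpec_Spec_hom, ← Spec.map_comp]
  have halg : CommRingCat.ofHom (algebraMap k Γ(N, ⊤)) = φ := rfl
  have hsq : IsPullback p (Z ↘ Spec (CommRingCat.of Γ(N, ⊤))) (X ↘ Spec (CommRingCat.of k))
      (Spec.map (CommRingCat.ofHom (algebraMap k Γ(N, ⊤)))) := by
    rw [halg]
    exact h.of_iso (Iso.refl _) (Iso.refl _) N.isoSpec (Iso.refl _) (by simp) (by simp; rfl) (by simp)
      (by rw [Iso.refl_hom, Category.comp_id, hπ])
  have hs : Coh.toGlobal (Z ↘ Spec (CommRingCat.of k)) =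
      (Coh.toGlobal (Z ↘ Spec (CommRingCat.of Γ(N, ⊤)))).comp φ.hom := by
    rw [← w, h.w]
    refine Eq.trans (congrArg Coh.toGlobal ?_) (toGlobal_comp_SpecMap (Z ↘ Spec (CommRingCat.of Γ(N, ⊤))) φ)
    exact (congrArg (q ≫ ·) hπ).symm.trans (Category.assoc _ _ _).symm
  have hdeg : Module.finrank k Γ(N, ⊤) = π.finrank v := by
    have := Wt.Degree.rank_eq_finrank π v
    exact Module.finrank_eq_of_rank_eq this
  simp only [Curv2.euler]
  rw [mul_finsum]
  refine finsum_congr fun i => ?_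
  obtain ⟨e⟩ := S0034.result k Γ(N, ⊤) X Z p hsq G i
  let e' : (Γ(N, ⊤) : Type u) ⊗[k] Coh.HH X G i ≃ₗ[k] Coh.HH Z ((Scheme.Modules.pullback p).obj G) i :=
    { e.toAddEquiv with
      map_smul' := fun r x => by
        show e (r • x) = r • e x
        rw [algebra_compatible_smul Γ(N, ⊤) r x, LinearEquiv.map_smul]
        show Coh.toGlobal (Z ↘ Spec (CommRingCat.of Γ(N, ⊤))) (φ r) • e x =
          Coh.toGlobal (Z ↘ Spec (CommRingCat.of k)) r • e x
        rw [hs]; rfl }
  rw [← e'.finrank_eq, Module.finrank_tensorProduct, hdeg]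
  push_cast
  ring

end Groth.Agent.AbSch51.FinBC
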