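import Groth.Agent.HilbPolyX.Sheaf
import Groth.Agent.HilbPolyX.Ample
import Groth.Agent.CohOps.Generic
import Groth.Agent.EulerChar.Push
import Groth.Agent.EulerChar.Rank
import Groth.Agent.AmpCrit.ProjForm
import Groth.Agent.FEtCat.Rank
import Groth.Agent.CycLib.ModStalk
import Groth.Agent.CohDev.Dim

/-!
The top coefficient of the Hilbert polynomial is additive in the rank at the generic point, and the
Hilbert polynomial of the direct image of the structure module along an affine morphism.
-/

set_option autoImplicit false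

universe u

open CategoryTheory CategoryTheory.Limits AlgebraicGeometry Polynomial
open Groth.Agent.PullStalk.Exact Groth.Agent.PullStalk.Sky

noncomputable section

namespace Groth.Agent.AbSch51.HilbDeg

variable (k : Type u) [Field k] {X : Scheme.{u}} [X.Over (Spec (CommRingCat.of k))]
  [IsProper (X ↘ Spec (CommRingCat.of k))] {L : X.Modules} (hL : CohB1.IsAmple L)

include hL in
/-- A map bijective at the generic point does not change the top coefficient. -/
theorem coeff_eq_of_bijective [IrreducibleSpace X] {g : ℕ}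
    (hdim : topologicalKrullDim X = (g : WithBot ℕ∞)) {A B : X.Modules} (f : A ⟶ B)
    (hA : Coh.IsCoh A) (hB : Coh.IsCoh B)
    (hf : Function.Bijective (stalkLin f (genericPoint X))) :
    (HilbPolyX.hilb k L A).coeff g = (HilbPolyX.hilb k L B).coeff g := by
  haveI := EulerChar.isNoetherian k (X := X)
  have hsmall : ∀ M : X.Modules, Coh.IsCoh M → genericPoint X ∉ CohB1.support M →
      (HilbPolyX.hilb k L M).coeff g = 0 := fun M hM hη =>
    HilbPolyX.coeff_eq_zero k hL.1 hM (HilbPolyX.isHilbPoly_hilb k hL hM)
      (n := g) (CohDev.dim_lt_of_irreducible (W := CohB1.support M) (C := Set.univ)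
        (CohDev.isClosed_support hM) (IrreducibleSpace.isIrreducible_univ X)
        (Set.subset_univ _) (fun h => hη (h (Set.mem_univ _))) (n := g)
        (by rw [← hdim]; exact topologicalKrullDim_subspace_le X _)) le_rfl
  obtain ⟨I, p, q, w₁, w₂, hI, h₁, h₂⟩ := CohDev.exists_image f hA hB
  have hK : Coh.IsCoh (kernel f) := CohDev.isCoh_kernel' f hA hB
  have hC : Coh.IsCoh (cokernel f) := CohDev.isCoh_cokernel f hA.1 hB
  have e1 := HilbPolyX.hilb_add k hL h₁ hK hA hI
  have e2 := HilbPolyX.hilb_add k hL h₂ hI hB hC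
  rw [show HilbPolyX.hilb k L A = _ from e1, show HilbPolyX.hilb k L B = _ from e2, coeff_add, coeff_add,
    hsmall _ hK (CohDev.not_mem_support_kernel f hf.1),
    hsmall _ hC (CohDev.not_mem_support_cokernel f hf.2), zero_add, add_zero]

include hL in
theorem coeff_pow {g : ℕ} {G : X.Modules} (hG : Coh.IsCoh G) : ∀ r : ℕ,
    (HilbPolyX.hilb k L (CohDev.pow G r)).coeff g = r * (HilbPolyX.hilb k L G).coeff g
  | 0 => by
    have hz : IsZero (CohDev.pow G 0) := by
      rw [IsZero.iff_id_eq_zero, ← biproduct.total]; simp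
    rw [HilbPolyX.hilb_eq_zero_of_isZero k hL hz]; simp
  | r + 1 => by
    haveI := EulerChar.isNoetherian k (X := X)
    have h := (CohDev.isCoh_pow_and_kcl hG r).1
    rw [HilbPolyX.hilb_iso k hL (CohDev.powSucc G r) (CohDev.isCoh_pow_and_kcl hG (r + 1)).1]
    have e := HilbPolyX.hilb_add k hL (S := ShortComplex.mk (biprod.inl : G ⟶ G ⊞ CohDev.pow G r) biprod.snd (by simp))
      (ShortComplex.Splitting.ofHasBinaryBiproduct G (CohDev.pow G r)).shortExact hG (CohDev.isCoh_biprod hG h) h
    rw [show HilbPolyX.hilb k L (G ⊞ CohDev.pow G r) = _ from e, coeff_add, coeff_pow hG r]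
    push_cast
    ring

include hL in
/-- Rank `d` at the generic point gives `d` times the top coefficient of the structure module. -/
theorem coeff_eq_rank_mul [IrreducibleSpace X] {g d : ℕ}
    (hdim : topologicalKrullDim X = (g : WithBot ℕ∞)) {M : X.Modules} (hM : Coh.IsCoh M)
    (e : (Fin d → X.presheaf.stalk (genericPoint X)) ≃ₗ[X.presheaf.stalk (genericPoint X)]
      M.presheaf.stalk (genericPoint X)) :
    (HilbPolyX.hilb k L M).coeff g = d * (HilbPolyX.hilb k L (Coh.structureModule X)).coeff g := by
  haveI := EulerChar.isNoetherian k (X := X)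
  have hO : Coh.IsCoh (Coh.structureModule X) := ProperFin.isCoh_structureModule X
  have hP := (CohDev.isCoh_pow_and_kcl hO d).1
  obtain ⟨H, a, b, hH, -, ha, hb⟩ := CohDev.exists_roof_at hP hM (genericPoint X)
    ((((CohDev.powStalkEquiv (Coh.structureModule X) d (genericPoint X)).trans
      (LinearEquiv.piCongrRight fun _ => (HomShQC.unitStalk (genericPoint X)).symm))).trans e)
  rw [← coeff_eq_of_bijective k hL hdim b hH hM hb, coeff_eq_of_bijective k hL hdim a hH hP ha,
    coeff_pow k hL hO d]

end Groth.Agent.AbSch51.HilbDeg
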