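import Mathlib.Algebra.MvPolynomial.Funext
import Mathlib.RingTheory.Polynomial.Pochhammer
import Mathlib.Order.Interval.Set.Infinite
import Mathlib.Data.Nat.Cast.Field
import Mathlib.Tactic.FieldSimp
import Mathlib.Tactic.Positivity
import Groth.Agent.Snapper.MvPoly

/-!
A bivariate polynomial homogeneous for the action of the squaring substitution is a power.
-/

set_option autoImplicit false

open MvPolynomial

namespace Groth.Agent.AbSch51.Homog

theorem exists_const {g : ℕ} {Q : MvPolynomial (Fin 2) ℚ} (hQ : Q.totalDegree ≤ g)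
    (h : ∀ a b m : ℕ, 1 ≤ m →
      eval ![((a * (m * (m + 1) / 2) + b * (m * (m - 1) / 2) : ℕ) : ℚ),
        ((a * (m * (m - 1) / 2) + b * (m * (m + 1) / 2) : ℕ) : ℚ)] Q =
        (m : ℚ) ^ (2 * g) * eval ![(a : ℚ), (b : ℚ)] Q) :
    ∃ c : ℚ, ∀ n : ℕ, eval ![(n : ℚ), 0] Q = c * (n : ℚ) ^ g := by
  classical
  let φ : Fin 2 → MvPolynomial (Fin 2) ℚ := ![C (1 / 2) * (X 0 + X 1), C (1 / 2) * (X 0 + C (-1) * X 1)]
  have hφ : ∀ j, (φ j).totalDegree ≤ 1 := fun j => by
    fin_cases j <;> refine (totalDegree_mul _ _).trans ?_ <;>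
      rw [totalDegree_C, Nat.zero_add] <;> refine (totalDegree_add _ _).trans (max_le ?_ ?_) <;>
      first
        | exact (totalDegree_X _).le
        | exact (totalDegree_mul _ _).trans (by rw [totalDegree_C, totalDegree_X])
  set R := aeval φ Q with hR
  have hRd : R.totalDegree ≤ g := (Snapper.totalDegree_aeval_le φ hφ Q).trans hQ
  have hRe : ∀ x y : ℚ, eval ![x + y, x - y] R = eval ![x, y] Q := fun x y => by
    rw [hR, ← aeval_eq_eval, comp_aeval_apply, aeval_eq_eval]
    change eval (fun i => aeval ![x + y, x - y] (φ i)) Q = _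
    congr 2
    funext i
    fin_cases i <;> simp [φ] <;> ring
  refine ⟨coeff (Finsupp.single (0 : Fin 2) g) R, fun n => ?_⟩
  let s : ℚ := (n : ℚ) + 0
  let t : ℚ := (n : ℚ) - 0
  let ψ : Fin 2 → Polynomial ℚ := ![Polynomial.C s * Polynomial.X ^ 2, Polynomial.C t * Polynomial.X]
  let p : Polynomial ℚ := aeval ψ R
  have hp : p = Polynomial.C (eval ![(n : ℚ), 0] Q) * Polynomial.X ^ (2 * g) := by
    refine Polynomial.eq_of_infinite_eval_eq _ _ (((Set.Ici_infinite (1 : ℕ)).image (Nat.cast_injective (R := ℚ)).injOn).mono ?_)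
    rintro _ ⟨m, hm, rfl⟩
    show Polynomial.eval (m : ℚ) p = _
    rw [← Polynomial.coe_aeval_eq_eval, comp_aeval_apply]
    simp only [Polynomial.coe_aeval_eq_eval]
    try simp only [Polynomial.eval_mul, Polynomial.eval_C, Polynomial.eval_pow, Polynomial.eval_X]
    have h1 := h n 0 m hm
    simp only [Nat.zero_mul, Nat.add_zero, Nat.cast_mul, Nat.cast_zero] at h1
    rw [mul_comm _ ((m : ℚ) ^ (2 * g)), ← h1, ← hRe, aeval_eq_eval]
    refine congrArg (fun z => eval z R) (funext fun i => ?_)
    have hu : ((m * (m + 1) / 2 : ℕ) : ℚ) = (m : ℚ) * (m + 1) / 2 := by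
      rw [Nat.cast_div (Nat.even_mul_succ_self m).two_dvd (by norm_num)]; push_cast; ring
    have hv : ((m * (m - 1) / 2 : ℕ) : ℚ) = (m : ℚ) * (m - 1) / 2 := by
      rw [Nat.cast_div (Nat.even_mul_pred_self m).two_dvd (by norm_num), Nat.cast_mul,
        Nat.cast_sub (show 1 ≤ m from hm)]
      push_cast; ring
    fin_cases i <;> simp [ψ, s, t, hu, hv] <;> ring
  have hc : p.coeff (2 * g) = coeff (Finsupp.single (0 : Fin 2) g) R * s ^ g := by
    show (aeval ψ R).coeff (2 * g) = _
    conv_lhs => rw [R.as_sum, map_sum, Polynomial.finsetSum_coeff]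
    have hterm : ∀ d : Fin 2 →₀ ℕ, aeval ψ (monomial d (coeff d R)) =
        Polynomial.C (coeff d R * s ^ d 0 * t ^ d 1) * Polynomial.X ^ (2 * d 0 + d 1) := fun d => by
      rw [aeval_monomial, Finsupp.prod_fintype _ _ (by simp), Fin.prod_univ_two]
      simp [ψ, pow_add, pow_mul, mul_pow]
      ring
    simp only [hterm, Polynomial.coeff_C_mul_X_pow]
    rw [Finset.sum_eq_single (Finsupp.single (0 : Fin 2) g)]
    · simp
    · intro d hd hne
      refine if_neg fun he => hne ?_
      have hle := (le_totalDegree hd).trans hRd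
      rw [Finsupp.sum_fintype _ _ (by simp), Fin.sum_univ_two] at hle
      ext i
      fin_cases i <;> simp <;> omega
    · intro hd
      simp [notMem_support_iff.mp hd]
  rw [hp, Polynomial.coeff_C_mul_X_pow, if_pos rfl] at hc
  simpa [s] using hc

theorem coeff_binom {g : ℕ} (I : ℕ → ℤ) {c : ℚ}
    (h : ∀ m : ℕ, ∑ i ∈ Finset.range (g + 1), ((m + i - 1).choose i : ℚ) * (I i : ℚ) = c * (m : ℚ) ^ g) :
    (I g : ℚ) = g.factorial * c := by
  let P : Polynomial ℚ := ∑ i ∈ Finset.range (g + 1),
    Polynomial.C ((I i : ℚ) / i.factorial) * ascPochhammer ℚ i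
  have hP : P = Polynomial.C c * Polynomial.X ^ g := by
    refine Polynomial.eq_of_infinite_eval_eq _ _ ((Set.infinite_range_of_injective Nat.cast_injective).mono ?_)
    rintro _ ⟨m, rfl⟩
    show P.eval (m : ℚ) = (Polynomial.C c * Polynomial.X ^ g).eval (m : ℚ)
    simp only [P, Polynomial.eval_finsetSum, Polynomial.eval_mul, Polynomial.eval_C, Polynomial.eval_pow,
      Polynomial.eval_X]
    rw [← h m]
    refine Finset.sum_congr rfl fun i _ => ?_
    rw [← ascPochhammer_eval_cast, ascPochhammer_nat_eq_ascFactorial, Nat.ascFactorial_eq_factorial_mul_choose']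
    push_cast
    field_simp
  have hc := congrArg (fun q => Polynomial.coeff q g) hP
  simp only [P, Polynomial.finsetSum_coeff, Polynomial.coeff_C_mul, Polynomial.coeff_X_pow, if_pos] at hc
  rw [Finset.sum_eq_single g (fun i hi hne => ?_) (by simp)] at hc
  · have h1 : (ascPochhammer ℚ g).coeff g = 1 := by
      have := (monic_ascPochhammer ℚ g).coeff_natDegree
      rwa [ascPochhammer_natDegree] at this
    rw [h1, mul_one, mul_one, div_eq_iff (by positivity)] at hc
    rw [hc, mul_comm]
  · rw [Polynomial.coeff_eq_zero_of_natDegree_lt, mul_zero]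
    rw [ascPochhammer_natDegree]
    simp only [Finset.mem_range] at hi
    omega

end Groth.Agent.AbSch51.Homog
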