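import Groth.Agent.S1937
import Groth.Agent.S7795
import Groth.Agent.AbSch51.ConstFun
import Groth.Agent.CBC.TrivBundle
import Groth.Agent.Omega.LocalStructure
import Groth.Agent.Omega.DiagUniv
import Groth.Agent.PinchLib.Modules
import Groth.Agent.KFlat.LocFree
import Groth.Prelude.Def_Omega2

/-! Invariant differentials of an abelian scheme over any base. -/

set_option autoImplicit false
universe u
open CategoryTheory CategoryTheory.Limits MonoidalCategory CartesianMonoidalCategory MonObj GrpObj AlgebraicGeometry

namespace Groth.Agent.AbSch51.InvDiff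

variable {S : Scheme.{u}}

theorem isFinLocFree_omega {X : Scheme.{u}} (f : X ⟶ S) [Smooth f] [QuasiSeparated f] :
    FlatMod.IsFinLocFree (Omega.sheaf f) := by
  refine Omega.LocalStructure.isFinLocFree_of_smooth
    (Omega.DiagUniv.isUniversal_dOmega f) fun {U} hU {V} hV e => ?_
  let := (f.appLE U V e).hom.toAlgebra
  have h : (f.appLE U V e).hom.Smooth :=
    HasRingHomProperty.appLE @Smooth f inferInstance ⟨U, hU⟩ ⟨V, hV⟩ e
  haveI : Algebra.Smooth Γ(S, U) Γ(X, V) := RingHom.smooth_algebraMap.1 h
  exact ⟨inferInstance, inferInstance⟩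

variable (X : Over S) [GrpObj X] [IsProper X.hom] [Flat X.hom] [LocallyOfFinitePresentation X.hom]
  [GeometricallyReduced X.hom] [GeometricallyConnected X.hom]

/-- the module of invariant differentials -/
noncomputable abbrev W : S.Modules := Omega.conormal η[X].left

theorem exists_iso : Nonempty (Omega.sheaf X.hom ≅ (Scheme.Modules.pullback X.hom).obj (W X)) :=
  S1937.omega_iso X

theorem nonempty_unit_pullback_iso :
    Nonempty ((Scheme.Modules.pullback η[X].left).obj (Omega.sheaf X.hom) ≅ W X) := by
  obtain ⟨e⟩ := exists_iso X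
  have h : η[X].left ≫ X.hom = 𝟙 S := Over.w η[X]
  exact ⟨(Scheme.Modules.pullback η[X].left).mapIso e ≪≫
    (Scheme.Modules.pullbackComp η[X].left X.hom).app _ ≪≫
    (Scheme.Modules.pullbackCongr h).app _ ≪≫ (Scheme.Modules.pullbackId S).app _⟩

theorem isFinLocFree_unit_pullback :
    FlatMod.IsFinLocFree ((Scheme.Modules.pullback η[X].left).obj (Omega.sheaf X.hom)) := by
  haveI : Smooth X.hom := S7795.result X
  exact KFlat.LocFree.isFinLocFree_pull η[X].left (isFinLocFree_omega X.hom)

theorem isFinLocFree_W : FlatMod.IsFinLocFree (W X) := by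
  obtain ⟨e⟩ := nonempty_unit_pullback_iso X
  exact KFlat.LocFree.isFinLocFree_of_iso e (isFinLocFree_unit_pullback X)

theorem isIso_unit :
    IsIso ((Scheme.Modules.pullbackPushforwardAdjunction X.hom).unit.app (W X)) :=
  CBC.TrivBundle.isIso_unit_vb X.hom (ConstFun.bijective_app X.hom) (isFinLocFree_W X)

/-- restriction of differentials to the unit section is bijective on global sections -/
theorem isIso_push_unit :
    IsIso ((Scheme.Modules.pushforward X.hom).map
      ((Scheme.Modules.pullbackPushforwardAdjunction η[X].left).unit.app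
        ((Scheme.Modules.pullback X.hom).obj (W X)))) := by
  let e := η[X].left
  let f := X.hom
  have h : e ≫ f = 𝟙 S := Over.w η[X]
  have happ : ∀ U : S.Opens, Function.Bijective ((e ≫ f).app U) := by
    have : IsIso (e ≫ f) := by rw [h]; exact inferInstanceAs (IsIso (𝟙 S))
    exact fun U => ConcreteCategory.bijective_of_isIso ((e ≫ f).app U)
  haveI := CBC.TrivBundle.isIso_unit_vb (e ≫ f) happ (isFinLocFree_W X)
  have hconj := unit_conjugateEquiv
    ((Scheme.Modules.pullbackPushforwardAdjunction f).comp (Scheme.Modules.pullbackPushforwardAdjunction e))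
    (Scheme.Modules.pullbackPushforwardAdjunction (e ≫ f)) (Scheme.Modules.pullbackComp e f).inv (W X)
  rw [Scheme.Modules.conjugateEquiv_pullbackComp_inv] at hconj
  have h1 : IsIso (((Scheme.Modules.pullbackPushforwardAdjunction f).comp
      (Scheme.Modules.pullbackPushforwardAdjunction e)).unit.app (W X)) := by
    refine @IsIso.of_isIso_comp_right _ _ _ _ _ _ ((Scheme.Modules.pushforwardComp e f).hom.app _) inferInstance ?_
    rw [hconj]
    infer_instance
  rw [Adjunction.comp_unit_app] at h1
  have := isIso_unit X
  exact @IsIso.of_isIso_comp_left _ _ _ _ _ _ _ this h1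

end Groth.Agent.AbSch51.InvDiff
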