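import Groth.Agent.AbSch51.FinBC
import Groth.Agent.AmpCrit.Devissage
import Groth.Agent.AbVarLib.Pointed
import Groth.Agent.AbVarLib.Isogeny
import Groth.Agent.AbVarLib.Basics
import Groth.Agent.GrpScheme.KernelPair
import Groth.Agent.GrpScheme.AffineHom
import Groth.Agent.EulerChar.Push
import Groth.Agent.EulerChar.Deg
import Groth.Agent.KFlat.FlatPull
import Groth.Agent.S11133
import Groth.Agent.ZClosLib.CohDescent

/-!
`χ(X, f^* F) = deg f · χ(Y, F)` for finite flat morphisms of abelian varieties.
-/

set_option autoImplicit false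
set_option linter.style.haveILetI false

universe u

open CategoryTheory CategoryTheory.Limits MonoidalCategory CartesianMonoidalCategory MonObj GrpObj
  AlgebraicGeometry

noncomputable section

namespace Groth.Agent.AbSch51.IsogenyEuler

variable {k : Type u} [Field k] {X Y : Over (Spec (CommRingCat.of k))}
  [GrpObj X] [IsProper X.hom] [GeometricallyIntegral X.hom] [GrpObj Y] [IsProper Y.hom]
  (f : X ⟶ Y) [IsFinite f.left] [Flat f.left]

/-- The kernel pair of a morphism of abelian varieties is `X ⊗ N` with `N` finite of the same degree. -/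
theorem exists_kernelPair (d : ℕ) (hd : ∀ y, Scheme.Hom.finrank f.left y = d) :
    ∃ (N : Over (Spec (CommRingCat.of k))) (m : X ⊗ N ⟶ X),
      IsFinite N.hom ∧ (∀ v, N.hom.finrank v = d) ∧ IsPullback (fst X N).left m.left f.left f.left := by
  set c : 𝟙_ (Over (Spec (CommRingCat.of k))) ⟶ Y := η[X] ≫ f with hc
  let t : Y ⟶ Y := 𝟙 Y * (toUnit Y ≫ c)⁻¹
  let t' : Y ⟶ Y := 𝟙 Y * (toUnit Y ≫ c)
  have h1 : ∀ {A B : Over (Spec (CommRingCat.of k))} (a : A ⟶ B) (w : 𝟙_ (Over (Spec (CommRingCat.of k))) ⟶ Y),
      a ≫ toUnit B ≫ w = toUnit A ≫ w := fun a w => by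
    rw [← Category.assoc, toUnit_unique (a ≫ toUnit _) (toUnit _)]
  let e : Y ≅ Y :=
    { hom := t
      inv := t'
      hom_inv_id := by
        simp only [t, t', MonObj.comp_mul, Category.comp_id, h1, inv_mul_cancel_right]
      inv_hom_id := by
        simp only [t, t', MonObj.comp_mul, GrpObj.comp_inv, Category.comp_id, h1, mul_inv_cancel_right] }
  have hft : f ≫ t = f * (toUnit X ≫ η[X] ≫ f)⁻¹ := by
    simp only [t, MonObj.comp_mul, GrpObj.comp_inv, Category.comp_id, h1, hc]
  have : IsMonHom (f ≫ t) := hft ▸ AbVarLib.Pointed.isMonHom_mul_inv f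
  obtain ⟨N, _, i, _, hker⟩ := GrpScheme.AffineHom.exists_kernel (f ≫ t)
  have : IsIso t.left := ((Over.forget _).mapIso e).isIso_hom
  have hsqN := GrpdLib.GrpOver.isPullback_left hker
  have hcomp : IsPullback (𝟙 X.left) f.left (f ≫ t).left t.left :=
    IsPullback.of_horiz_isIso ⟨by simp⟩
  have hdft : ∀ y, (f ≫ t).left.finrank y = d := fun y => by
    have : IsFinite (f ≫ t).left := by rw [Over.comp_left]; infer_instance
    have : Flat (f ≫ t).left := by rw [Over.comp_left]; infer_instance
    obtain ⟨y', rfl⟩ := t.left.surjective y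
    rw [← hd y', Scheme.Hom.finrank_of_isPullback _ _ _ _ hcomp y']
  have hfin : IsFinite (f ≫ t).left := by rw [Over.comp_left]; infer_instance
  have hflat : Flat (f ≫ t).left := by rw [Over.comp_left]; infer_instance
  have hNfin : IsFinite N.hom := MorphismProperty.of_isPullback (P := @IsFinite) hsqN hfin
  have hker' : IsPullback (fst X N) (fst X N * (snd X N ≫ i)) f f :=
    (GrpScheme.KernelPair.isPullback hker).of_iso (Iso.refl _) (Iso.refl _) (Iso.refl _) e.symm
      (by simp) (by simp) (by simp [show t ≫ t' = 𝟙 Y from e.hom_inv_id, e])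
      (by simp [show t ≫ t' = 𝟙 Y from e.hom_inv_id, e])
  exact ⟨N, _, hNfin, fun v => (Scheme.Hom.finrank_of_isPullback _ _ _ _ hsqN v).trans (hdft _),
    GrpdLib.GrpOver.isPullback_left hker'⟩

theorem euler_pow {Z : Scheme.{u}} [Z.Over (Spec (CommRingCat.of k))]
    [IsProper (Z ↘ Spec (CommRingCat.of k))] {G : Z.Modules} (hG : Coh.IsCoh G) : ∀ r : ℕ,
    Curv2.euler k Z (CohDev.pow G r) = r * Curv2.euler k Z G
  | 0 => by
    have hz : IsZero (CohDev.pow G 0) := by
      rw [IsZero.iff_id_eq_zero, ← biproduct.total]; simp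
    rw [EulerChar.euler_of_isZero k hz]; simp
  | r + 1 => by
    haveI := EulerChar.isNoetherian k (X := Z)
    have h := (CohDev.isCoh_pow_and_kcl hG r).1
    rw [EulerChar.euler_iso k (CohDev.powSucc G r)]
    have e := EulerChar.euler_add k (S := ShortComplex.mk (biprod.inl : G ⟶ G ⊞ CohDev.pow G r) biprod.snd (by simp))
      (ShortComplex.Splitting.ofHasBinaryBiproduct G (CohDev.pow G r)).shortExact hG (CohDev.isCoh_biprod hG h) h
    rw [show Curv2.euler k Z (G ⊞ CohDev.pow G r) = _ from e, euler_pow hG r]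
    push_cast
    ring

theorem euler_pullback_add {A B : Scheme.{u}} [A.Over (Spec (CommRingCat.of k))]
    [IsProper (A ↘ Spec (CommRingCat.of k))] (g : A ⟶ B) [Flat g] {S : ShortComplex B.Modules}
    (hS : S.ShortExact) (h₁ : Coh.IsCoh S.X₁) (h₂ : Coh.IsCoh S.X₂) (h₃ : Coh.IsCoh S.X₃) :
    Curv2.euler k A ((Scheme.Modules.pullback g).obj S.X₂) =
      Curv2.euler k A ((Scheme.Modules.pullback g).obj S.X₁) +
        Curv2.euler k A ((Scheme.Modules.pullback g).obj S.X₃) :=
  EulerChar.euler_add k (S := S.map (Scheme.Modules.pullback g))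
    (hS.map_of_exact (Scheme.Modules.pullback g)) (ZClosLib.CohDescent.isCoh_pullback g _ h₁)
    (ZClosLib.CohDescent.isCoh_pullback g _ h₂) (ZClosLib.CohDescent.isCoh_pullback g _ h₃)

variable [GeometricallyIntegral Y.hom]

theorem euler_pullback (d : ℕ) (hd : ∀ y, Scheme.Hom.finrank f.left y = d)
    (F : Y.left.Modules) (hF : Coh.IsCoh F) :
    @Curv2.euler k _ X.left ⟨X.hom⟩ ((Scheme.Modules.pullback f.left).obj F) =
      (d : ℤ) * @Curv2.euler k _ Y.left ⟨Y.hom⟩ F := by
  letI : X.left.Over (Spec (CommRingCat.of k)) := ⟨X.hom⟩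
  letI : Y.left.Over (Spec (CommRingCat.of k)) := ⟨Y.hom⟩
  haveI : IsProper (X.left ↘ Spec (CommRingCat.of k)) := ‹IsProper X.hom›
  haveI : IsProper (Y.left ↘ Spec (CommRingCat.of k)) := ‹IsProper Y.hom›
  haveI := EulerChar.isNoetherian k (X := X.left)
  haveI := EulerChar.isNoetherian k (X := Y.left)
  have : IsIntegral Y.left := GeometricallyIntegral.isIntegral_of_subsingleton Y.hom
  have : IsIntegral X.left := GeometricallyIntegral.isIntegral_of_subsingleton X.hom
  have : Surjective f.left := AbVarLib.Isogeny.surjective_of_flat f.left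
  obtain ⟨N, m, hNfin, hNrank, hsq⟩ := exists_kernelPair f d hd
  let P : Y.left.Modules → Prop := fun M =>
    Curv2.euler k X.left ((Scheme.Modules.pullback f.left).obj M) = (d : ℤ) * Curv2.euler k Y.left M
  change P F
  refine AmpCrit.devissage_master (P := P) (fun M M' e h => ?_) (fun M h => ?_)
    (fun S hS h₁ h₂ h₃ p₁ p₃ => ?_) (fun G r hG hr h => ?_) (fun y => ?_) hF
  · obtain ⟨e⟩ := e
    simp only [P]
    rw [← EulerChar.euler_iso k e, ← EulerChar.euler_iso k ((Scheme.Modules.pullback f.left).mapIso e)]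
    exact h
  · simp only [P]
    rw [EulerChar.euler_of_isZero k h, EulerChar.euler_of_isZero k
      ((Scheme.Modules.pullback f.left).map_isZero h), mul_zero]
  · simp only [P] at p₁ p₃ ⊢
    rw [EulerChar.euler_add k hS h₁ h₂ h₃, mul_add, ← p₁, ← p₃]
    exact euler_pullback_add f.left hS h₁ h₂ h₃
  · simp only [P] at h ⊢
    have e : (∐ fun _ : Fin r => G) ≅ CohDev.pow G r := (biproduct.isoCoproduct _).symm
    have e' : (Scheme.Modules.pullback f.left).obj (∐ fun _ : Fin r => G) ≅
        CohDev.pow ((Scheme.Modules.pullback f.left).obj G) r :=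
      PreservesCoproduct.iso (Scheme.Modules.pullback f.left) _ ≪≫ (biproduct.isoCoproduct _).symm
    rw [EulerChar.euler_iso k e, EulerChar.euler_iso k e', euler_pow hG,
      euler_pow (ZClosLib.CohDescent.isCoh_pullback f.left _ hG), mul_left_comm] at h
    exact mul_left_cancel₀ (by positivity) h
  · obtain ⟨x, hx⟩ := f.left.surjective y
    refine ⟨X.left, f.left, x, inferInstance, hx, fun G hG => ?_⟩
    haveI : Coh.IsQCoh G := hG.1
    letI : (X ⊗ N).left.Over (Spec (CommRingCat.of k)) := ⟨(X ⊗ N).hom⟩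
    have hm : IsFinite m.left := MorphismProperty.of_isPullback (P := @IsFinite) hsq inferInstance
    have hfst : IsPullback (fst X N).left (snd X N).left (X.left ↘ Spec (CommRingCat.of k)) N.hom :=
      IsPullback.of_hasPullback X.hom N.hom
    have := S11133.result f.left f.left (fst X N).left m.left hsq G
    let bc := asIso ((Scheme.Modules.pullback f.left).map ((Scheme.Modules.pushforward f.left).map
        ((Scheme.Modules.pullbackPushforwardAdjunction (fst X N).left).unit.app G)) ≫
      (Scheme.Modules.pullback f.left).map ((Scheme.Modules.pushforwardComp (fst X N).left f.left ≪≫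
          Scheme.Modules.pushforwardCongr hsq.w ≪≫ (Scheme.Modules.pushforwardComp m.left f.left).symm).hom.app
        ((Scheme.Modules.pullback (fst X N).left).obj G)) ≫
      (Scheme.Modules.pullbackPushforwardAdjunction f.left).counit.app
        ((Scheme.Modules.pushforward m.left).obj ((Scheme.Modules.pullback (fst X N).left).obj G)))
    simp only [P]
    refine ((EulerChar.euler_iso k bc).trans
      (EulerChar.euler_push (k := k) m.left (Over.w m) _ (QCoh.isQuasicoherent_pullback _ G))).trans ?_
    rw [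
      FinBC.euler_baseChange_finite k (fst X N).left (snd X N).left N.hom hfst (Over.w (fst X N)) G hG.1
        (IsLocalRing.closedPoint k),
      EulerChar.euler_push (k := k) f.left (Over.w f) _ hG.1, hNrank]

end Groth.Agent.AbSch51.IsogenyEuler
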