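import Groth.Agent.AbVarLib.KerAmple
import Groth.Agent.AbVarLib.TransInv
import Groth.Agent.AbVarLib.Basics
import Groth.Agent.AmpleLib.Functorial
import Groth.Agent.AmpleFam.Pullback
import Groth.Agent.Props.AmpleRel
import Groth.Agent.AbSch51.Fibre
import Groth.Agent.DiagRig.Split
import Groth.Agent.S12002
import Groth.Prelude.Def_ThetaK

/-!
The kernel of an ample class on an abelian scheme is finite over the base.
-/

set_option autoImplicit false
set_option linter.style.haveILetI false

universe u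

open CategoryTheory CategoryTheory.Limits MonoidalCategory CartesianMonoidalCategory MonObj AlgebraicGeometry

noncomputable section

namespace Groth.Agent.AbSch51.KLFinite

open scoped Groth.Agent.PicLaw
open PicLaw.Mumford (op)

variable {S : Scheme.{u}} {A : Over S} [GrpObj A]
  {Ω : Type u} [Field Ω] [IsAlgClosed Ω] (t : Spec (CommRingCat.of Ω) ⟶ S)

/-- A geometric point of `K(L)` fixes the pullback of `L`. -/
theorem translate_iso (L : A.left.Modules) (hL : PicF.IsInvertible L)
    (z : (Over.map t).obj (𝟙_ (Over (Spec (CommRingCat.of Ω)))) ⟶ A)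
    (hz : ThetaGrp.IsMumfordTriv A L z) :
    Nonempty ((Scheme.Modules.pullback ((𝟙 (Red.bc t A) * (toUnit _ ≫ DiagRig.bcUn t z))).left).obj
      ((Scheme.Modules.pullback (pullback.fst A.hom t)).obj L) ≅
      (Scheme.Modules.pullback (pullback.fst A.hom t)).obj L) := by
  obtain ⟨c, hc⟩ := (PicLaw.Mumford.isMumfordTriv_iff A L hL z).mp hz
  let T := (Over.map t).obj (𝟙_ (Over (Spec (CommRingCat.of Ω))))
  let l := PicGrp.cls L hL
  let u : 𝟙_ (Over (Spec (CommRingCat.of Ω))) ⟶ Red.bc t A := DiagRig.bcUn t z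
  let τ : Red.bc t A ⟶ Red.bc t A := 𝟙 _ * (toUnit _ ≫ u)
  let j : A ⊗ T ⟶ (Over.map t).obj (Red.bc t A) := Over.homMk
    (pullback.lift (fst A T).left (snd A T).left (by
      show (fst A T).left ≫ A.hom = (snd A T).left ≫ t
      rw [Over.w (fst A T)]
      refine (Over.w (snd A T)).symm.trans ?_
      show (snd A T).left ≫ 𝟙 _ ≫ t = _
      rw [Category.id_comp])) (by
      show pullback.lift _ _ _ ≫ pullback.snd A.hom t ≫ t = _
      rw [pullback.lift_snd_assoc]
      refine Eq.trans ?_ (Over.w (snd A T))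
      show _ = (snd A T).left ≫ 𝟙 _ ≫ t
      rw [Category.id_comp])
  let j' : (Over.map t).obj (Red.bc t A) ⟶ A ⊗ T :=
    lift (DiagRig.bcTr t (𝟙 _)) ((Over.map t).map (toUnit _))
  have hb1 : DiagRig.bcTr t (𝟙 (Red.bc t A)) = j' ≫ fst A T := (lift_fst _ _).symm
  have hb2 : DiagRig.bcTr t (toUnit (Red.bc t A) ≫ u) = j' ≫ snd A T ≫ z := by
    rw [DiagRig.bcTr_comp, DiagRig.bcTr_bcUn, lift_snd_assoc]
  have hτ : DiagRig.bcTr t τ = j' ≫ (fst A T * (snd A T ≫ z)) := by
    rw [DiagRig.bcTr_mul, hb1, hb2, MonObj.comp_mul]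
  have hleft : ∀ y : Red.bc t A ⟶ Red.bc t A, (DiagRig.bcTr t y).left = y.left ≫ pullback.fst A.hom t :=
    fun y => DiagRig.bcTr_left t y
  have hc1 : c = 1 := AbVarLib.TransInv.pic_unit c
  let P := (Scheme.Modules.pullback (pullback.fst A.hom t)).obj L
  have hP : PicF.IsInvertible P := PicLoc.isInvertible_pullback _ hL
  refine (PicLaw.iso_iff (PicLoc.isInvertible_pullback _ hP) hP).mpr ?_
  rw [PicLaw.cls_pullback _ hP, show PicGrp.cls P hP = PicLaw.pl (pullback.fst A.hom t) l from
    PicLaw.cls_pullback _ hL, ← PicLaw.pl_comp]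
  show PicLaw.pl (τ.left ≫ pullback.fst A.hom t) l = _
  rw [← hleft, hτ]
  have e0 : (j' ≫ fst A T).left = pullback.fst A.hom t := by
    rw [← hb1, hleft]; exact Category.id_comp _
  rw [← e0]
  show op (j' ≫ (fst A T * (snd A T ≫ z))) l = op (j' ≫ fst A T) l
  rw [PicLaw.Mumford.op_comp, PicLaw.Mumford.op_comp, hc, hc1, map_one, _root_.mul_one]

theorem finite_points [IsProper A.hom] [Smooth A.hom] [GeometricallyConnected A.hom]
    (L : A.left.Modules) (hL : PicF.IsInvertible L)
    (hamp : CohB1.IsAmple ((Scheme.Modules.pullback (pullback.fst A.hom t)).obj L))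
    {K : Over S} (i : K ⟶ A) (hK : ThetaGrp.IsKL A L i) :
    Finite ↥(pullback K.hom t) := by
  have := hK.closed
  have hm : Mono i := Over.mono_of_mono_left i
  have : IsProper (Red.bc t A).hom := MorphismProperty.pullback_snd (P := @IsProper) _ _ ‹IsProper A.hom›
  have : Smooth (Red.bc t A).hom := MorphismProperty.pullback_snd (P := @Smooth) _ _ ‹Smooth A.hom›
  have : GeometricallyConnected (Red.bc t A).hom :=
    MorphismProperty.pullback_snd (P := @GeometricallyConnected) _ _ ‹GeometricallyConnected A.hom›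
  have := AbVarLib.Basics.geometricallyIntegral (Red.bc t A)
  have hfin := Groth.Agent.S12002.result Ω (Red.bc t A) _ hamp
  have hKprop : IsProper K.hom := by
    rw [← Over.w i]; infer_instance
  have : LocallyOfFiniteType (Red.bc t K).hom :=
    MorphismProperty.pullback_snd (P := @LocallyOfFiniteType) _ _ inferInstance
  -- rational points of the kernel form a finite set
  have hpts : Finite (𝟙_ (Over (Spec (CommRingCat.of Ω))) ⟶ Red.bc t K) := by
    let F : (𝟙_ (Over (Spec (CommRingCat.of Ω))) ⟶ Red.bc t K) → (𝟙_ (Over (Spec (CommRingCat.of Ω))) ⟶ Red.bc t A) :=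
      fun y => DiagRig.bcUn t (DiagRig.bcTr t y ≫ i)
    have hF : Function.Injective F := fun y y' h => by
      have h1 : DiagRig.bcTr t y ≫ i = DiagRig.bcTr t y' ≫ i := by
        rw [← DiagRig.bcTr_bcUn t (DiagRig.bcTr t y ≫ i), ← DiagRig.bcTr_bcUn t (DiagRig.bcTr t y' ≫ i)]
        exact congrArg (DiagRig.bcTr t) h
      have h2 : DiagRig.bcTr t y = DiagRig.bcTr t y' := hm.right_cancellation _ _ h1
      rw [← DiagRig.bcUn_bcTr t y, h2, DiagRig.bcUn_bcTr]
    refine (Set.finite_range_iff hF).mp (hfin.subset ?_)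
    rintro _ ⟨y, rfl⟩
    exact translate_iso t L hL (DiagRig.bcTr t y ≫ i) ((hK.univ _ _).mpr ⟨DiagRig.bcTr t y, rfl⟩)
  have : JacobsonSpace ↥(Red.bc t K).left := LocallyOfFiniteType.jacobsonSpace (Red.bc t K).hom
  have hclosed : (closedPoints ↥(Red.bc t K).left).Finite := by
    refine Set.Finite.subset (Set.finite_range
      (fun y : (𝟙_ (Over (Spec (CommRingCat.of Ω))) ⟶ Red.bc t K) => y.left (IsLocalRing.closedPoint Ω)))
      fun x hx => ?_
    exact ⟨Over.homMk (pointOfClosedPoint (Red.bc t K).hom x hx) (pointOfClosedPoint_comp _ _ _),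
      pointOfClosedPoint_apply _ _ _ _⟩
  have huniv : closedPoints ↥(Red.bc t K).left = Set.univ := by
    rw [← closure_closedPoints (X := ↥(Red.bc t K).left)]
    refine (IsClosed.closure_eq ?_).symm
    rw [← Set.biUnion_of_singleton (closedPoints _)]
    exact hclosed.isClosed_biUnion fun x hx => hx
  exact Set.finite_univ_iff.mp (huniv ▸ hclosed)

theorem isFinite [IsProper A.hom] [Smooth A.hom] [GeometricallyConnected A.hom]
    (L : A.left.Modules) (hL : RelAmple.IsRelAmple A.hom L)
    {K : Over S} (i : K ⟶ A) (hK : ThetaGrp.IsKL A L i) : IsFinite K.hom := by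
  have := hK.closed
  have : IsProper K.hom := by rw [← Over.w i]; infer_instance
  suffices LocallyQuasiFinite K.hom from IsFinite.of_isProper_of_locallyQuasiFinite _
  refine (locallyQuasiFinite_iff_finite_preimage_singleton (f := K.hom)).mpr fun s => ?_
  let Ω := AlgebraicClosure (S.residueField s)
  let t : Spec (CommRingCat.of Ω) ⟶ S :=
    Spec.map (CommRingCat.ofHom (algebraMap (S.residueField s) Ω)) ≫ S.fromSpecResidueField s
  have hts : ∀ x, t x = s := fun x => by
    have : t x ∈ Set.range (S.fromSpecResidueField s) := ⟨_, rfl⟩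
    rwa [Scheme.range_fromSpecResidueField] at this
  obtain ⟨V, hV, hsV, -⟩ := exists_isAffineOpen_mem_and_subset (U := (⊤ : S.Opens)) (x := s) trivial
  have hamp : CohB1.IsAmple ((Scheme.Modules.pullback (pullback.fst A.hom t)).obj L) := by
    have hle : (⊤ : (pullback A.hom t).Opens) ≤ pullback.fst A.hom t ⁻¹ᵁ (A.hom ⁻¹ᵁ V) := fun x _ => by
      show (pullback.fst A.hom t ≫ A.hom) x ∈ V
      rw [pullback.condition, Scheme.Hom.comp_apply, hts]
      exact hsV
    have hr : Set.range (pullback.fst A.hom t) ⊆ Set.range (A.hom ⁻¹ᵁ V).ι := by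
      rintro _ ⟨x, rfl⟩
      rw [Scheme.Opens.range_ι]
      exact hle (TopologicalSpace.Opens.mem_top x)
    let g := IsOpenImmersion.lift (A.hom ⁻¹ᵁ V).ι (pullback.fst A.hom t) hr
    have hg : g ≫ (A.hom ⁻¹ᵁ V).ι = pullback.fst A.hom t := IsOpenImmersion.lift_fac _ _ hr
    have hrt : Set.range t ⊆ Set.range V.ι := by
      rintro _ ⟨x, rfl⟩
      rw [Scheme.Opens.range_ι, hts]
      exact hsV
    let tV := IsOpenImmersion.lift V.ι t hrt
    have htV : tV ≫ V.ι = t := IsOpenImmersion.lift_fac _ _ hrt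
    have : IsAffine V.toScheme := hV
    have : IsAffineHom tV := isAffineHom_of_isAffine tV
    have hsq : IsPullback g (pullback.snd A.hom t) (A.hom ∣_ V) tV := by
      refine IsPullback.of_right (h₁₂ := (A.hom ⁻¹ᵁ V).ι) (v₁₃ := A.hom) (h₂₂ := V.ι) ?_ ?_
        (isPullback_morphismRestrict A.hom V).flip
      · rw [hg, htV]
        exact IsPullback.of_hasPullback _ _
      · rw [← cancel_mono V.ι, Category.assoc, Category.assoc, morphismRestrict_ι, ← Category.assoc, hg, htV,
          pullback.condition]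
    have : IsAffineHom g := MorphismProperty.of_isPullback hsq.flip ‹IsAffineHom tV›
    have h := AmpleLib.isAmple_pullback_of_qaMor g (AmpleFam.Pullback.qaMor_of_isAffineHom g)
      (Props.AmpleRel.isAmple_pullback_preimage hL ⟨V, hV⟩)
    rw [← hg]
    exact AmpleLib.isAmple_of_iso ((Scheme.Modules.pullbackComp g (A.hom ⁻¹ᵁ V).ι).app L) h
  have := finite_points t L (Props.AmpleRel.isInvertible_of_isRelAmple hL) hamp i hK
  have hsub : K.hom ⁻¹' {s} ⊆ Set.range (pullback.fst K.hom t) := by
    intro x hx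
    rw [Scheme.Pullback.range_fst]
    exact ⟨IsLocalRing.closedPoint _, (hts _).trans (Set.mem_singleton_iff.mp hx).symm⟩
  exact (Set.finite_range _).subset hsub

end Groth.Agent.AbSch51.KLFinite
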