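import Groth.Agent.S7788
import Groth.Agent.CGrpEx.Basic
import Groth.Agent.AlgSp.Basic
import Groth.Agent.AbDualLib.Rigid
import Groth.Agent.AbSch51.ConnFibres

/-!
# Multiplication by a nonzero integer on an abelian scheme is an epimorphism of fppf sheaves
-/

set_option autoImplicit false
universe u
open CategoryTheory CategoryTheory.Limits MonoidalCategory CartesianMonoidalCategory MonObj GrpObj AlgebraicGeometry
open AbSch

noncomputable section

namespace Groth.Agent.AbSch51

variable {S : Scheme.{u}} (A : Over S) [GrpObj A] [IsCommMonObj A] [Smooth A.hom] [IsProper A.hom]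

theorem zpow_fppf (hA : ∀ s : S, ConnectedSpace ↥(A.hom.fiber s)) {n : ℤ} (hn : n ≠ 0) :
    Flat (𝟙 A ^ n).left ∧ Surjective (𝟙 A ^ n).left ∧ LocallyOfFinitePresentation (𝟙 A ^ n).left := by
  have := ConnFibres.geometricallyConnected A hA
  set f := 𝟙 A ^ n with hf
  have := isProper_left f
  have hfib : ∀ s : S, Flat (fibMap f s).left ∧ Surjective (fibMap f s).left := fun s => by
    letI : GrpObj (fib A s) := Functor.grpObjObj
    have := AbVarLib.Basics.geometricallyIntegral (fib A s)
    rw [hf, fibMap_zpow A n s]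
    exact (MulDeg.isFinite_flat_surjective _ hn).2
  have : LocallyOfFinitePresentation (f.left ≫ A.hom) := by rw [Over.w f]; infer_instance
  have : Flat (f.left ≫ A.hom) := by rw [Over.w f]; infer_instance
  refine ⟨?_, surjective_of_fib f fun s => (hfib s).2,
    GrpScheme.FlatFib.locallyOfFinitePresentation_of_comp f.left A.hom⟩
  refine GrpScheme.FibreFlat.flat_of_fibres f.left A.hom fun s => ?_
  exact (GrpScheme.FibreFlat.fiberMap_mem_iff.{u} @Flat f.left A.hom s).mpr
    ((mem_fib_iff f s @Flat).mp (hfib s).1)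

/-- Maps out of an abelian scheme on the fppf site form a torsion-free group. -/
theorem zero_of_zsmul (hA : ∀ s : S, ConnectedSpace ↥(A.hom.fiber s))
    {F : BigSite.Ab Scheme.fppfPrecoverage S} (φ : CGrpSh.pts Scheme.fppfPrecoverage A ⟶ F)
    {n : ℤ} (hn : n ≠ 0) (h : n • φ = 0) : φ = 0 := by
  obtain ⟨_, _, _⟩ := zpow_fppf A hA hn
  have : IsMonHom (𝟙 A ^ n) :=
    { one_hom := by rw [GrpObj.comp_zpow, Category.comp_id, MonObj.one_eq_one, one_zpow]
      mul_hom := by
        rw [GrpObj.comp_zpow, Category.comp_id, MonObj.mul_eq_mul, MonObj.comp_mul, tensorHom_fst,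
          tensorHom_snd, GrpObj.comp_zpow, GrpObj.comp_zpow, Category.comp_id, Category.comp_id,
          mul_zpow] }
  have : Epi (CGrpSh.ptsMap Scheme.fppfPrecoverage (𝟙 A ^ n)) :=
    CGrpEx.epi_ptsMap_of_generate_mem _ _
      (AlgSp.mem_of_fppf (𝟙 A ^ n) ⟨A, 𝟙 A, 𝟙 A ^ n, ⟨⟩, Category.id_comp _⟩)
  have e : CGrpSh.ptsMap Scheme.fppfPrecoverage (𝟙 A ^ n) =
      n • 𝟙 (CGrpSh.pts Scheme.fppfPrecoverage A) := by
    refine Sheaf.hom_ext (NatTrans.ext (funext fun T => AddCommGrpCat.ext fun x => ?_))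
    refine Eq.trans (show _ = n • x from ?_) (show n • x = _ from ?_)
    · refine ULift.ext _ _ ?_
      show Additive.ofMul (x.down.toMul ≫ 𝟙 A ^ n) = n • x.down
      rw [GrpObj.comp_zpow, Category.comp_id]
      rfl
    · rfl
  rw [← cancel_epi (CGrpSh.ptsMap Scheme.fppfPrecoverage (𝟙 A ^ n)), comp_zero, e,
    Preadditive.zsmul_comp, Category.id_comp, h]

end Groth.Agent.AbSch51
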