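import Groth.Agent.AbSch51.Homog
import Groth.Agent.AbSch51.IsogenyEuler
import Groth.Agent.AbSch51.MulDeg
import Groth.Agent.Snapper.Binom
import Groth.Agent.ProjForm.Unit

/-!
Riemann-Roch for line bundles on abelian varieties: `g! χ(L) = (L^g)`.
-/

set_option autoImplicit false
set_option linter.style.haveILetI false

universe u

open CategoryTheory CategoryTheory.Limits MonoidalCategory CartesianMonoidalCategory MonObj GrpObj
  AlgebraicGeometry

noncomputable section

namespace Groth.Agent.AbSch51.RiemannRoch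

open scoped Groth.Agent.PicLaw
open PicLaw.Mumford (op)

theorem cls_multiTwist {X : Scheme.{u}} {L : Fin 2 → X.Modules} (hL : ∀ i, PicF.IsInvertible (L i))
    (a b : ℕ) : PicGrp.cls (FGA.multiTwist L ![a, b]) (Snapper.isInvertible_multiTwist hL _) =
      PicGrp.cls (L 0) (hL 0) ^ a * PicGrp.cls (L 1) (hL 1) ^ b := by
  obtain ⟨ha, ea⟩ := GrpScheme.PowPullback.cls_tensorPow (hL 0) a
  obtain ⟨hb, eb⟩ := GrpScheme.PowPullback.cls_tensorPow (hL 1) b
  have h1 : FGA.multiTwist L ![a, b] = CohB1.tensorMod (CohB1.tensorPow (L 0) a)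
      (CohB1.tensorMod (CohB1.tensorPow (L 1) b) (Coh.structureModule X)) := by
    simp [FGA.multiTwist, List.finRange_succ, FGA.tensorList]
  simp only [h1]
  rw [PicLaw.cls_tensor ha (PicLaw.isInvertible_tensor hb (PicLoc.isInvertible_structureModule X)),
    PicLaw.cls_tensor hb (PicLoc.isInvertible_structureModule X), PicLaw.cls_one, _root_.mul_one, ea, eb]

variable {k : Type u} [Field k] (X : Over (Spec (CommRingCat.of k)))
  [GrpObj X] [IsProper X.hom] [GeometricallyIntegral X.hom]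

theorem op_pow_pair (l : PicLoc.PicSet X.left) (a b m : ℕ) :
    op (𝟙 X ^ m) (l ^ a * op (𝟙 X)⁻¹ l ^ b) =
      l ^ (a * (m * (m + 1) / 2) + b * (m * (m - 1) / 2)) *
        op (𝟙 X)⁻¹ l ^ (a * (m * (m - 1) / 2) + b * (m * (m + 1) / 2)) := by
  have h1 : op (𝟙 X) l = l := PicLaw.pl_id _
  have hl := GrpScheme.PowPullback.op_pow (Cube.cubeHyp X) l (𝟙 X) m
  have hq := GrpScheme.PowPullback.op_pow (Cube.cubeHyp X) l (𝟙 X)⁻¹ m
  rw [h1] at hl
  rw [_root_.inv_inv, h1] at hq
  have hc : op (𝟙 X ^ m) (op (𝟙 X)⁻¹ l) = op ((𝟙 X)⁻¹ ^ m) l := by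
    rw [← PicLaw.Mumford.op_comp, GrpObj.comp_inv, Category.comp_id, inv_pow]
  rw [map_mul, map_pow, map_pow, hc, hl, hq]
  generalize m * (m + 1) / 2 = u'
  generalize m * (m - 1) / 2 = v'
  rw [mul_pow, mul_pow, ← pow_mul, ← pow_mul, ← pow_mul, ← pow_mul, pow_add, pow_add,
    Nat.mul_comm a u', Nat.mul_comm a v', Nat.mul_comm b u', Nat.mul_comm b v']
  ac_rfl

theorem factorial_mul_euler (g : ℕ) (hg : topologicalKrullDim ↥X.left = g)
    (L M : X.left.Modules) (hL : PicF.IsInvertible L) (hM : PicF.IsInvertible M)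
    (e : CohB1.tensorMod L M ≅ Coh.structureModule X.left) :
    ((Nat.factorial g : ℕ) : ℤ) * @Curv2.euler k _ X.left ⟨X.hom⟩ L =
      @FGA.intNum k _ X.left ⟨X.hom⟩ g g (fun _ : Fin g => M) (Coh.structureModule X.left) := by
  letI : X.left.Over (Spec (CommRingCat.of k)) := ⟨X.hom⟩
  haveI : IsProper (X.left ↘ Spec (CommRingCat.of k)) := ‹IsProper X.hom›
  haveI := EulerChar.isNoetherian k (X := X.left)
  have hO : Coh.IsCoh (Coh.structureModule X.left) := ProperFin.isCoh_structureModule X.left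
  have hsupp : topologicalKrullDim ↥(CohB1.support (Coh.structureModule X.left)) ≤ (g : WithBot ℕ∞) :=
    EulerChar.dim_support_le hg.le
  rw [Snapper.intNum_eq k hg.le]
  let L' := (Scheme.Modules.pullback (𝟙 X)⁻¹.left).obj L
  let Ls : Fin 2 → X.left.Modules := ![L, L']
  have hLs : ∀ i, PicF.IsInvertible (Ls i) := fun i => by
    fin_cases i
    · exact hL
    · exact PicLoc.isInvertible_pullback _ hL
  obtain ⟨Q, hQd, hQ⟩ := Snapper.exists_snapper k hLs g hO hsupp
  set l := PicGrp.cls L hL with hl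
  have hcls : ∀ a b : ℕ, PicGrp.cls (FGA.multiTwist Ls ![a, b]) (Snapper.isInvertible_multiTwist hLs _) =
      l ^ a * op (𝟙 X)⁻¹ l ^ b := fun a b => by
    rw [cls_multiTwist hLs a b]
    exact congrArg (fun z => l ^ a * z ^ b) (PicLaw.cls_pullback _ hL)
  have hone : ∀ (T : X.left.Modules),
      Curv2.euler k X.left (CohB1.tensorMod T (Coh.structureModule X.left)) = Curv2.euler k X.left T :=
    fun T => EulerChar.euler_iso k (ProjTwist.tensOne T)
  have hab : ∀ a b : ℕ, Snapper.castV ![a, b] = ![(a : ℚ), (b : ℚ)] := fun a b =>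
    funext fun i => by fin_cases i <;> rfl
  obtain ⟨c, hc⟩ := Homog.exists_const hQd (fun a b m hm => by
    have hn : (m : ℤ) ≠ 0 := by omega
    obtain ⟨_, _, _⟩ := MulDeg.isFinite_flat_surjective X hn
    have hchi := IsogenyEuler.euler_pullback (𝟙 X ^ (m : ℤ)) _ (MulDeg.finrank_eq X g hg hn)
      (FGA.multiTwist Ls ![a, b]) (VBLib.isCoh_of_isFinLocFree
        (ProjForm.isFinLocFree_of_isInvertible (Snapper.isInvertible_multiTwist hLs _)))
    obtain ⟨ψ⟩ := (PicLaw.iso_iff
      (PicLoc.isInvertible_pullback (𝟙 X ^ (m : ℤ)).left (Snapper.isInvertible_multiTwist hLs ![a, b]))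
      (Snapper.isInvertible_multiTwist hLs
        ![a * (m * (m + 1) / 2) + b * (m * (m - 1) / 2), a * (m * (m - 1) / 2) + b * (m * (m + 1) / 2)])).mpr (by
      rw [PicLaw.cls_pullback _ (Snapper.isInvertible_multiTwist hLs _), hcls, hcls]
      show op (𝟙 X ^ (m : ℤ)) _ = _
      rw [zpow_natCast]
      exact op_pow_pair X l a b m)
    rw [EulerChar.euler_iso k ψ] at hchi
    rw [← hab, ← hab, ← hQ, ← hQ, hone, hone]
    rw [show Curv2.euler k X.left _ = _ from hchi, Int.natAbs_natCast]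
    push_cast
    ring)
  have hpoly : ∀ m : ℕ, (Curv2.euler k X.left (CohB1.tensorPow L m) : ℚ) = c * (m : ℚ) ^ g := fun m => by
    rw [← hc m, show ![(m : ℚ), 0] = Snapper.castV ![m, 0] by rw [hab]; simp, ← hQ, hone]
    obtain ⟨hm, em⟩ := GrpScheme.PowPullback.cls_tensorPow hL m
    obtain ⟨ψ⟩ := (PicLaw.iso_iff hm (Snapper.isInvertible_multiTwist hLs ![m, 0])).mpr (by
      rw [hcls, em, pow_zero, _root_.mul_one])
    rw [EulerChar.euler_iso k ψ]
  have hI := Homog.coeff_binom (g := g) (c := c)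
    (fun i => Snapper.intE k (fun _ : Fin i => M) (Coh.structureModule X.left)) (fun m => by
      rw [← hpoly m, ← hone, Snapper.euler_tensorPow_eq k hL hM e g m hO hsupp]
      push_cast
      rfl)
  have h1 : (Curv2.euler k X.left L : ℚ) = c := by
    obtain ⟨h', e'⟩ := GrpScheme.PowPullback.cls_tensorPow hL 1
    obtain ⟨ψ⟩ := (PicLaw.iso_iff hL h').mpr (by rw [e', pow_one])
    rw [EulerChar.euler_iso k ψ, hpoly 1, Nat.cast_one, one_pow, _root_.mul_one]
  rw [← h1] at hI
  exact_mod_cast hI.symm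

end Groth.Agent.AbSch51.RiemannRoch
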