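import Groth.Agent.DiagRig.TrivialLocus
import Groth.Agent.DiagRig.SubDescent
import Groth.Agent.AbVarLib.RatPoints

/-!
Homomorphisms from a torus to a proper group scheme are trivial.
-/

set_option autoImplicit false
set_option linter.style.haveILetI false

universe u

open CategoryTheory MonoidalCategory CartesianMonoidalCategory MonObj GrpObj AlgebraicGeometry Limits
open Groth.Agent.AbVarLib.RatLine Groth.Agent.DiagRig

noncomputable section

namespace Groth.Agent.AbSch51.TorusToProper

/-- A point of a proper group over `k[t, t⁻¹]` which is trivial at `t = 1` is trivial. -/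
theorem laurent_eq_one {k : Type u} [Field k] {G : Over (Spec (CommRingCat.of k))} [GrpObj G]
    [IsProper G.hom] (z : O k (LaurentPolynomial k) ⟶ G) (ev : LaurentPolynomial k →ₐ[k] k)
    (h1 : sp ev ≫ z = 1) : z = 1 := by
  let K := FractionRing (Polynomial k)
  obtain ⟨jL, hinj, -⟩ := AbVarLib.RatPoints.exists_laurent_embedding (k := k) K
  obtain ⟨c, hc⟩ := AbVarLib.RatPoints.exists_const_fractionRing_polynomial (G := G) K (sp jL ≫ z)
  have : IsDominant (sp jL).left := ⟨by
    show DenseRange (PrimeSpectrum.comap jL.toRingHom)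
    rw [PrimeSpectrum.denseRange_comap_iff_ker_le_nilRadical,
      (RingHom.injective_iff_ker_eq_bot jL.toRingHom).mp hinj]
    exact bot_le⟩
  have : IsReduced (O k (LaurentPolynomial k)).left :=
    inferInstanceAs (IsReduced (Spec (CommRingCat.of (LaurentPolynomial k))))
  have e : z = sp (Algebra.ofId k (LaurentPolynomial k)) ≫ c := by
    refine Over.OverMorphism.ext (ext_of_isDominant_of_isSeparated G.hom (by rw [Over.w, Over.w])
      (sp jL).left ?_)
    show (sp jL ≫ z).left = (sp jL ≫ sp (Algebra.ofId k (LaurentPolynomial k)) ≫ c).left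
    refine congrArg CommaMorphism.left (hc.trans ?_)
    rw [← Category.assoc, ← sp_comp]
    congr 2
    exact Subsingleton.elim _ _
  have hc1 : c = 1 := by
    rw [e, ← Category.assoc, ← sp_comp, show ev.comp (Algebra.ofId k _) = AlgHom.id k k from
      AlgHom.ext fun x => ev.commutes x, AbVarLib.RatPoints.sp_id, Category.id_comp] at h1
    exact h1
  rw [e, hc1, MonObj.comp_one]

variable {S : Scheme.{u}} {H G : Over S} [GrpObj H] [GrpObj G]

lemma gPt_triv {R : CommRingCat.{u}} {p : Spec R ⟶ S} {M : Type} [AddCommGroup M] (P : SplitPts p H M)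
    {T : Type u} [CommRing T] [Algebra R T] : gPt p P (1 : Multiplicative M →* T) = 1 := by
  rw [gPt, MonoidHom.comp_one, P.σ_one]

/-- Points over an algebra over a field of a split torus map to the unit. -/
theorem gPt_eq_one {k : Type u} [Field k] {p : Spec (CommRingCat.of k) ⟶ S} {r : ℕ}
    (P : SplitPts p H (Fin r → ℤ)) (u : H ⟶ G) [IsMonHom u] [IsProper G.hom]
    {T : Type u} [CommRing T] [Algebra k T] (t : Multiplicative (Fin r → ℤ) →* T) :
    gPt (R := CommRingCat.of k) p P t ≫ u = 1 := by
  classical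
  have hprop : IsProper (Red.bc p G).hom :=
    MorphismProperty.pullback_snd (P := @IsProper) _ _ ‹IsProper G.hom›
  -- the characters of rank one factor through the Laurent polynomials
  have base : ∀ (i : Fin r) (χ : Multiplicative ℤ →* T),
      gPt (R := CommRingCat.of k) p P
        (χ.comp (Pi.evalAddMonoidHom (fun _ : Fin r => ℤ) i).toMultiplicative) ≫ u = 1 := by
    intro i χ
    let χ₀ : Multiplicative ℤ →* LaurentPolynomial k := AddMonoidAlgebra.of k ℤ
    let h : LaurentPolynomial k →ₐ[k] T := AddMonoidAlgebra.lift k T ℤ χ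
    let ev : LaurentPolynomial k →ₐ[k] k := AddMonoidAlgebra.lift k k ℤ 1
    let g₀ := gPt (R := CommRingCat.of k) p P
      (χ₀.comp (Pi.evalAddMonoidHom (fun _ : Fin r => ℤ) i).toMultiplicative)
    have hg : gPt (R := CommRingCat.of k) p P
        (χ.comp (Pi.evalAddMonoidHom (fun _ : Fin r => ℤ) i).toMultiplicative) =
          (Over.map p).map (testMap (R := CommRingCat.of k) h) ≫ g₀ := by
      rw [testMap_gPt]
      congr 1
      ext m
      exact (AddMonoidAlgebra.lift_single _ _ _).trans (one_smul k _) |>.symm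
    have hev : (Over.map p).map (testMap (R := CommRingCat.of k) ev) ≫ g₀ = 1 := by
      rw [testMap_gPt, ← gPt_triv (R := CommRingCat.of k) P (T := k)]
      congr 1
      ext m
      exact (AddMonoidAlgebra.lift_single _ _ _).trans (one_smul k _)
    have hz : bcUn p (g₀ ≫ u) = 1 := by
      refine laurent_eq_one (G := Red.bc p G) (bcUn p (g₀ ≫ u)) ev ?_
      refine Eq.trans ((Over.mapPullbackAdj p).homEquiv_naturality_left (sp ev) (g₀ ≫ u)).symm ?_
      have e1 : (Over.map p).map (sp ev) ≫ g₀ ≫ u = 1 := by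
        rw [← Category.assoc,
          show (Over.map p).map (sp ev) ≫ g₀ = 1 from hev, MonObj.one_comp]
      show bcUn p ((Over.map p).map (sp ev) ≫ g₀ ≫ u) = 1
      rw [e1]
      have h2 := bcUn_mul p (Y := O k k) (G := G) 1 1
      rw [_root_.mul_one] at h2
      exact mul_eq_left.mp h2.symm
    have hg₀ : g₀ ≫ u = 1 := by
      have h2 := bcTr_mul p (Y := O k (LaurentPolynomial k)) (G := G) 1 1
      rw [_root_.mul_one] at h2
      rw [← bcTr_bcUn p (g₀ ≫ u), hz]
      exact mul_eq_left.mp h2.symm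
    rw [hg, Category.assoc, hg₀, MonObj.comp_one]
  -- every character map is a product of such
  have ht : t = ∏ i : Fin r, (t.comp (AddMonoidHom.single (fun _ : Fin r => ℤ) i).toMultiplicative).comp
      (Pi.evalAddMonoidHom (fun _ : Fin r => ℤ) i).toMultiplicative := by
    refine MonoidHom.ext fun m => ?_
    rw [MonoidHom.finsetProd_apply]
    conv_lhs => rw [show m = Multiplicative.ofAdd (∑ i, Pi.single i (m.toAdd i)) from
      congrArg Multiplicative.ofAdd (Finset.univ_sum_single m.toAdd).symm]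
    rw [ofAdd_sum, map_prod]
    rfl
  rw [ht]
  refine Finset.prod_induction _ (fun τ => gPt (R := CommRingCat.of k) p P τ ≫ u = 1)
    (fun a b ha hb => ?_) ?_ (fun i _ => base i _)
  · rw [gPt_mul, MonObj.mul_comp, ha, hb, _root_.mul_one]
  · rw [gPt_triv, MonObj.one_comp]

/-- A homomorphism from a split torus over a field to a proper group is trivial. -/
theorem comp_eq_one {k : Type u} [Field k] {p : Spec (CommRingCat.of k) ⟶ S} {r : ℕ}
    (P : SplitPts p H (Fin r → ℤ)) (u : H ⟶ G) [IsMonHom u] [IsProper G.hom]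
    {Y : Over (Spec (CommRingCat.of k))} (g : (Over.map p).obj Y ⟶ H) : g ≫ u = 1 := by
  obtain ⟨φ, -, q, t, rfl⟩ := eq_gPt_of_toSpecΓ (R := CommRingCat.of k) P g
  letI : Algebra (CommRingCat.of k) Γ(Y.left, ⊤) := φ.hom.toAlgebra
  letI : Algebra k Γ(Y.left, ⊤) := φ.hom.toAlgebra
  rw [Category.assoc, gPt_eq_one P u t, MonObj.comp_one]

/-- A torus is a group of multiplicative type of finite type. -/
theorem isMultTypeFT_of_isTorus (hH : Red.IsTorus H) : SGA3x.IsMultTypeFT H := by
  obtain ⟨S', f, hf, hs, hcov, hloc⟩ := hH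
  exact ⟨S', f, hf, hs, hcov, fun s' => let ⟨U, hU, r, e⟩ := hloc s'
    ⟨U, hU, Fin r → ℤ, inferInstance,
      Module.Finite.iff_addGroup_fg.mp (inferInstance : Module.Finite ℤ (Fin r → ℤ)), e⟩⟩

/-- A homomorphism from a torus to a proper group scheme of finite presentation is trivial. -/
theorem hom_eq_one (hH : Red.IsTorus H) (u : H ⟶ G) [IsMonHom u] [IsProper G.hom]
    [LocallyOfFinitePresentation G.hom] : u = 1 := by
  obtain ⟨U, -, hU, hU'⟩ := trivial_locus u (isMultTypeFT_of_isTorus hH) (Or.inr inferInstance)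
  have htriv : ∀ s, TrivFibre u s := by
    intro s Y g z hz
    obtain ⟨S', f, hf, hs, -, hloc⟩ := hH
    obtain ⟨s', rfl⟩ := f.surjective s
    obtain ⟨V, hV, r, ⟨e⟩⟩ := hloc s'
    let j := V.toScheme.fromSpecResidueField ⟨s', hV⟩
    let P : SplitPts (j ≫ V.ι ≫ f) H (Fin r → ℤ) := (SplitPts.ofIso _ e).restrict j
    let c : Spec (V.toScheme.residueField ⟨s', hV⟩) ⟶ Spec (S.residueField (f.base s')) :=
      Spec.map ((V.ι ≫ f).residueFieldMap ⟨s', hV⟩)
    have hc : c ≫ S.fromSpecResidueField (f.base s') = j ≫ V.ι ≫ f :=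
      Scheme.Hom.SpecMap_residueFieldMap_fromSpecResidueField (f := V.ι ≫ f) ⟨s', hV⟩
    let π : pullback z c ⟶ Y.left := pullback.fst z c
    have : Flat c := inferInstance
    have : Surjective c := ⟨fun x => ⟨IsLocalRing.closedPoint _, Subsingleton.elim _ _⟩⟩
    have : Flat π := MorphismProperty.pullback_fst (P := @Flat) _ _ ‹Flat c›
    have : Surjective π := MorphismProperty.pullback_fst (P := @Surjective) _ _ ‹Surjective c›
    have : QuasiCompact π := MorphismProperty.pullback_fst (P := @QuasiCompact) _ _ inferInstance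
    have : Epi π := Flat.epi_of_flat_of_surjective π
    let Y₀ : Over (Spec (V.toScheme.residueField ⟨s', hV⟩)) := Over.mk (pullback.snd z c)
    let q : (Over.map (j ≫ V.ι ≫ f)).obj Y₀ ⟶ Y := Over.homMk π (by
      show π ≫ Y.hom = pullback.snd z c ≫ j ≫ V.ι ≫ f
      rw [← hz, ← hc, ← Category.assoc, pullback.condition, Category.assoc])
    have h := comp_eq_one (k := V.toScheme.residueField ⟨s', hV⟩) P u (q ≫ g)
    apply Over.OverMorphism.ext
    rw [← cancel_epi π]
    rw [Category.assoc, ← MonObj.comp_one q] at h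
    exact congrArg CommaMorphism.left h
  have := hU' H (𝟙 H) fun x _ => (hU x).mpr (htriv x)
  rwa [Category.id_comp] at this

set_option backward.isDefEq.respectTransparency.types false in
/-- Tori are stable under base change. -/
theorem isTorus_bc {T : Scheme.{u}} (t : T ⟶ S) (hH : Red.IsTorus H) :
    Red.IsTorus (Red.bc t H) := by
  obtain ⟨S'', f, hf, hsurj, hcov, hloc⟩ := hH
  refine ⟨pullback f t, pullback.snd f t, inferInstance, inferInstance, cov_pullback f t hcov, fun z => ?_⟩
  obtain ⟨U, hU, r, ⟨e⟩⟩ := hloc ((pullback.fst f t).base z)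
  let U' := pullback.fst f t ⁻¹ᵁ U
  let a : (U' : Scheme.{u}) ⟶ U := pullback.fst f t ∣_ U
  let b : (U' : Scheme.{u}) ⟶ T := U'.ι ≫ pullback.snd f t
  have h : a ≫ U.ι ≫ f = b ≫ t := by
    rw [← Category.assoc, morphismRestrict_ι, Category.assoc, Category.assoc, pullback.condition]
  let d : (U : Scheme.{u}) ⟶ _ := Limits.IsTerminal.from specULiftZIsTerminal _
  exact ⟨U', hU, r, ⟨bcGrpIso t b (b ≫ t) rfl H ≪≫ (bcGrpIso (U.ι ≫ f) a (b ≫ t) h H).symm ≪≫
    bcGrpMap a e ≪≫ bcGrpIso d a _ (specULiftZIsTerminal.hom_ext _ _)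
      (Red.diag (ULift.{u} ℤ) (Fin r → ℤ))⟩⟩

end Groth.Agent.AbSch51.TorusToProper
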